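import Groth.Agent.Lib.DualRing.Main
import Mathlib.RingTheory.Nakayama

/-! # Finiteness of Ext into a dualizing complex; multiplication sequences -/

set_option autoImplicit false
universe u

open CategoryTheory CategoryTheory.Limits Pretriangulated

attribute [local instance] HasDerivedCategory.standard

namespace GrothLib.DualRing

variable {A : Type u} [CommRing A] {ω : Dual.D A}

instance subsingleton_EH_of_subsingleton (M : Type u) [AddCommGroup M] [Module A M] [Subsingleton M] (i : ℤ) :
    Subsingleton (EH ω (Dual.inD A M) i) := by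
  haveI : Subsingleton (ModuleCat.of A M) := ‹Subsingleton M›
  exact ⟨fun f g => (((DerivedCategory.singleFunctor (ModuleCat.{u} A) 0).map_isZero
    (ModuleCat.isZero_of_subsingleton (ModuleCat.of A M))).eq_of_src f g)⟩

/-- A finite direct sum of copies of the ring. -/
theorem finite_EH_pi [IsNoetherianRing A] (hω : Dual.IsDualizing A ω) (n : ℕ) (i : ℤ) :
    Module.Finite A (EH ω (Dual.inD A (Fin n → A)) i) := by
  induction n with
  | zero => infer_instance
  | succ n ih =>
    let e : (Fin (n + 1) → A) ≃ₗ[A] A × (Fin n → A) :=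
      (Fin.consLinearEquiv A fun _ => A).symm
    have hf : Function.Injective (LinearMap.inl A A (Fin n → A)) := LinearMap.inl_injective
    obtain ⟨T, hT, e₁, e₂, e₃⟩ := exists_triangle hf LinearMap.snd_surjective Function.Exact.inl_snd
    haveI : Module.Finite A (EH ω (Dual.inD A (A × (Fin n → A))) i) := by
      rw [← e₂]
      refine finite_mid T hT _ ?_ ?_
      · rw [e₁]
        haveI := hω.finite_cohomology i
        exact Module.Finite.equiv (exists_hom_ring_equiv ω i).some.symm
      · rw [e₃]
        exact ih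
    exact Module.Finite.equiv (congrLeft
      ((DerivedCategory.singleFunctor (ModuleCat.{u} A) 0).mapIso e.symm.toModuleIso) (ω⟦i⟧))

/-- `Hom_D(M, ω⟦i⟧)` is finite for a finite module `M`. -/
theorem finite_EH (hω : Dual.IsDualizing A ω) (M : Type u) [AddCommGroup M] [Module A M] [Module.Finite A M]
    (i : ℤ) : Module.Finite A (EH ω (Dual.inD A M) i) := by
  haveI := hω.isNoetherianRing
  obtain ⟨a, b, hab⟩ := hω.finite_injective_dimension
  suffices h : ∀ (k : ℕ) (i : ℤ), i < a + k → ∀ (M : Type u) [AddCommGroup M] [Module A M] [Module.Finite A M],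
      Module.Finite A (EH ω (Dual.inD A M) i) from h (i + 1 - a).toNat i (by omega) M
  intro k
  induction k with
  | zero =>
    intro i hi M _ _ _
    haveI := hab M i (Or.inl (by omega))
    infer_instance
  | succ k ih =>
    intro i hi M _ _ _
    obtain ⟨n, f, hf⟩ := Module.Finite.exists_fin' A M
    obtain ⟨T, hT, e₁, e₂, e₃⟩ := exists_triangle (Submodule.subtype_injective (LinearMap.ker f)) hf
      (LinearMap.exact_subtype_ker_map f)
    have h1 : Module.Finite A (EH ω (T.obj₁⟦(1 : ℤ)⟧) i) := by
      haveI := ih (i - 1) (by omega) (LinearMap.ker f)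
      rw [e₁]
      exact Module.Finite.equiv (shiftLeft ω _ 1 i (i - 1) (by omega)).symm
    rw [← e₃]
    refine finite_mid _ (rot_of_distTriang _ hT) _ ?_ h1
    change Module.Finite A (T.obj₂ ⟶ ω⟦i⟧)
    rw [e₂]
    exact finite_EH_pi hω n i

/-- The triangle of multiplication by a regular scalar. -/
theorem exists_triangle_smul (M : Type u) [AddCommGroup M] [Module A M] {x : A}
    (hx : Function.Injective (x • (LinearMap.id : M →ₗ[A] M))) :
    ∃ (m₂ : Dual.inD A M ⟶ Dual.inD A (M ⧸ LinearMap.range (x • (LinearMap.id : M →ₗ[A] M))))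
      (m₃ : Dual.inD A (M ⧸ LinearMap.range (x • (LinearMap.id : M →ₗ[A] M))) ⟶ (Dual.inD A M)⟦(1 : ℤ)⟧),
      Triangle.mk (x • 𝟙 (Dual.inD A M)) m₂ m₃ ∈ distTriang (Dual.D A) := by
  let f := x • (LinearMap.id : M →ₗ[A] M)
  let S : ShortComplex (ModuleCat.{u} A) := ShortComplex.mk (ModuleCat.ofHom f)
    (ModuleCat.ofHom (LinearMap.range f).mkQ)
    (ModuleCat.hom_ext (LinearMap.ext fun y => (LinearMap.exact_map_mkQ_range f).apply_apply_eq_zero y))
  have hS : S.ShortExact :=
    { exact := (ShortComplex.ShortExact.moduleCat_exact_iff_function_exact S).2 (LinearMap.exact_map_mkQ_range f)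
      mono_f := (ModuleCat.mono_iff_injective _).2 hx
      epi_g := (ModuleCat.epi_iff_surjective _).2 (Submodule.mkQ_surjective _) }
  have h1 : (DerivedCategory.singleFunctor (ModuleCat.{u} A) 0).map S.f = x • 𝟙 (Dual.inD A M) := by
    rw [← (DerivedCategory.singleFunctor (ModuleCat.{u} A) 0).map_id, ← Functor.map_smul]
    rfl
  refine ⟨(DerivedCategory.singleFunctor (ModuleCat.{u} A) 0).map S.g, hS.singleδ, ?_⟩
  have h2 := hS.singleTriangle_distinguished
  rw [← h1]
  exact h2

variable {p : Ideal A} [p.IsPrime]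

/-- Nakayama at `p`: a surjective multiplication by a scalar in `p`. -/
theorem len_eq_zero_of_smul_surjective {M : Type*} [AddCommGroup M] [Module A M] [Module.Finite A M] {x : A}
    (hx : x ∈ p) (h : Function.Surjective (LocalizedModule.map p.primeCompl (x • (LinearMap.id : M →ₗ[A] M)))) :
    len p M = 0 := by
  have hm : algebraMap A (Localization.AtPrime p) x ∈ IsLocalRing.maximalIdeal (Localization.AtPrime p) :=
    (IsLocalization.AtPrime.to_map_mem_maximal_iff (Localization.AtPrime p) p x).2 hx
  have hle : (⊤ : Submodule (Localization.AtPrime p) (LocalizedModule p.primeCompl M)) ≤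
      IsLocalRing.maximalIdeal (Localization.AtPrime p) • (⊤ : Submodule _ (LocalizedModule p.primeCompl M)) := by
    intro y _
    obtain ⟨z, rfl⟩ := h y
    induction z using LocalizedModule.induction_on with
    | h m s =>
      rw [LocalizedModule.map_mk, LinearMap.smul_apply, LinearMap.id_apply, ← LocalizedModule.smul'_mk,
        ← algebraMap_smul (Localization.AtPrime p) x (LocalizedModule.mk m s)]
      exact Submodule.smul_mem_smul hm Submodule.mem_top
  haveI : Module.Finite (Localization.AtPrime p) (LocalizedModule p.primeCompl M) :=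
    Module.Finite.of_isLocalizedModule p.primeCompl (LocalizedModule.mkLinearMap p.primeCompl M)
  have := Submodule.eq_bot_of_le_smul_of_le_jacobson_bot _ _ Module.Finite.fg_top hle
    (IsLocalRing.maximalIdeal_le_jacobson ⊥)
  exact Module.length_eq_zero_iff.2 (Submodule.subsingleton_iff _ |>.1 (subsingleton_iff_bot_eq_top.1 this.symm))

theorem surjective_of_exact {X₂ X₃ X₄ : Type*} [AddCommGroup X₂] [Module A X₂] [AddCommGroup X₃] [Module A X₃]
    [AddCommGroup X₄] [Module A X₄] {f₂ : X₂ →ₗ[A] X₃} {f₃ : X₃ →ₗ[A] X₄} (h : Function.Exact f₂ f₃)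
    (h₄ : len p X₄ = 0) : Function.Surjective (LocalizedModule.map p.primeCompl f₂) := fun y =>
  haveI : Subsingleton (LocalizedModule p.primeCompl X₄) := Module.length_eq_zero_iff.1 h₄
  ((LocalizedModule.map_exact p.primeCompl _ _ h) y).1 (Subsingleton.elim _ _)

/-- In the multiplication sequence, the next term of the cokernel controls each term. -/
theorem len_EH_eq_zero_of_next (hω : Dual.IsDualizing A ω) (M : Type u) [AddCommGroup M] [Module A M]
    [Module.Finite A M] {x : A} (hx : Function.Injective (x • (LinearMap.id : M →ₗ[A] M))) (hxp : x ∈ p) (i : ℤ)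
    (h : len p (EH ω (Dual.inD A (M ⧸ LinearMap.range (x • (LinearMap.id : M →ₗ[A] M)))) (i + 1)) = 0) :
    len p (EH ω (Dual.inD A M) i) = 0 := by
  obtain ⟨m₂, m₃, hT⟩ := exists_triangle_smul M hx
  have e₃ := pre_exact _ (inv_rot_of_distTriang _ hT) (ω⟦i⟧)
  have h4 := (len_shift p (Dual.inD A (M ⧸ LinearMap.range (x • (LinearMap.id : M →ₗ[A] M)))) (-1) i (i + 1)
    (by omega)).trans h
  haveI := finite_EH hω M i
  have hsurj : Function.Surjective (LocalizedModule.map p.primeCompl (pre (x • 𝟙 (Dual.inD A M)) (ω⟦i⟧))) :=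
    surjective_of_exact e₃ h4
  refine len_eq_zero_of_smul_surjective hxp ?_
  have e : pre (x • 𝟙 (Dual.inD A M)) (ω⟦i⟧) = x • (LinearMap.id : EH ω (Dual.inD A M) i →ₗ[A] _) :=
    LinearMap.ext fun φ => by
      show (x • 𝟙 (Dual.inD A M)) ≫ φ = x • φ
      rw [Linear.smul_comp, Category.id_comp]
  rwa [e] at hsurj

end GrothLib.DualRing
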