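import Groth.Agent.Lib.DualRing.Dimension
import Groth.Agent.Lib.CMBasics.Basic

/-! # Normalized dualizing complexes over local rings: supports and depth -/

set_option autoImplicit false
universe u

open CategoryTheory CategoryTheory.Limits Pretriangulated
open scoped Pointwise

attribute [local instance] HasDerivedCategory.standard

namespace GrothLib.DualRing

variable {A : Type u} [CommRing A]

theorem nontrivial_localized_iff (p : Ideal A) [p.IsPrime] (M : Type*) [AddCommGroup M] [Module A M] :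
    Nontrivial (LocalizedModule p.primeCompl M) ↔ len p M ≠ 0 := by
  rw [Ne, len, Module.length_eq_zero_iff, not_subsingleton_iff_nontrivial]

theorem len_eq_zero_iff_of_killed (m : Ideal A) [m.IsMaximal] {M : Type*} [AddCommGroup M] [Module A M]
    (h : ∀ a ∈ m, ∀ x : M, a • x = 0) : len m M = 0 ↔ Subsingleton M := by
  refine ⟨fun h0 => subsingleton_of_forall_eq 0 fun x => ?_, fun _ => len_eq_zero_of_subsingleton⟩
  obtain ⟨s, hs, hsx⟩ := len_eq_zero_iff.1 h0 x
  obtain ⟨r, i, hi, hr⟩ := Ideal.IsMaximal.exists_inv ‹m.IsMaximal› hs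
  calc x = (r * s + i) • x := by rw [hr, one_smul]
    _ = 0 := by rw [add_smul, mul_smul, hsx, smul_zero, h i hi x, add_zero]

theorem smul_EH_quotient {ω : Dual.D A} (I : Ideal A) (i : ℤ) :
    ∀ a ∈ I, ∀ φ : EH ω (Dual.inD A (A ⧸ I)) i, a • φ = 0 := fun a ha φ =>
  smul_eq_zero_of_killed (smul_id_inD fun y => by
    obtain ⟨y, rfl⟩ := Ideal.Quotient.mk_surjective y
    exact Ideal.Quotient.eq_zero_iff_mem.2 (I.mul_mem_right y ha)) φ

/-- A module killed by `m` of length one at `m` is `A/m`. -/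
theorem nonempty_equiv_of_len_eq_one (m : Ideal A) [m.IsMaximal] {M : Type*} [AddCommGroup M] [Module A M]
    (h : ∀ a ∈ m, ∀ x : M, a • x = 0) (h1 : len m M = 1) : Nonempty (M ≃ₗ[A] A ⧸ m) := by
  haveI : Nontrivial M := not_subsingleton_iff_nontrivial.1 fun hs => by
    rw [len_eq_zero_of_subsingleton] at h1
    exact zero_ne_one h1
  obtain ⟨x, hx⟩ := exists_ne (0 : M)
  let f : (A ⧸ m) →ₗ[A] M := Submodule.liftQ m (LinearMap.toSpanSingleton A M x) fun a ha => h a ha x
  have hf : Function.Injective f := by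
    rw [← LinearMap.ker_eq_bot, Submodule.ker_liftQ_eq_bot]
    intro a ha
    by_contra ham
    obtain ⟨r, i, hi, hr⟩ := Ideal.IsMaximal.exists_inv ‹m.IsMaximal› ham
    refine hx ?_
    calc x = (r * a + i) • x := by rw [hr, one_smul]
      _ = 0 := by rw [add_smul, mul_smul, show a • x = 0 from ha, smul_zero, h i hi x, add_zero]
  refine ⟨(LinearEquiv.ofBijective f ⟨hf, ?_⟩).symm⟩
  rw [← LinearMap.range_eq_top, ← Submodule.Quotient.subsingleton_iff]
  refine (len_eq_zero_iff_of_killed m fun a ha y => ?_).1 ?_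
  · obtain ⟨y, rfl⟩ := Submodule.mkQ_surjective _ y
    rw [← map_smul, h a ha y, map_zero]
  · have e := len_eq_add (p := m) (g := (LinearMap.range f).mkQ) (f := (LinearMap.range f).subtype)
      (Submodule.subtype_injective _) (Submodule.mkQ_surjective _) (LinearMap.exact_subtype_mkQ _)
    rw [← len_congr (LinearEquiv.ofInjective f hf), len_quotient_prime, h1] at e
    exact ((WithTop.add_left_inj ENat.one_ne_top).1 ((add_zero (1 : ℕ∞)).trans e)).symm

variable [IsNoetherianRing A] {ω : Dual.D A} (hω : Dual.IsDualizing A ω)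

/-- The degrees of nonvanishing for a finite module. -/
theorem exists_quotient_bounds (M : Type u) [AddCommGroup M] [Module A M] [Module.Finite A M] {q : Ideal A}
    [q.IsPrime] {i : ℤ} (h : len q (EH ω (Dual.inD A M) i) ≠ 0) :
    ∃ (r : Ideal A) (_ : r.IsPrime), r ≤ q ∧ (∀ a : A, (∀ x : M, a • x = 0) → a ∈ r) ∧
      deg hω r ≤ i ∧ i ≤ deg hω q := by
  by_contra! hne
  refine h (len_EH_eq_zero_of_quotients ω M fun r hr hrq ha => ?_)
  by_contra h0
  obtain ⟨h1, h2⟩ := deg_bounds hω r q hrq i h0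
  exact (hne r hr hrq ha h1).not_ge h2

omit [IsNoetherianRing A] in
theorem subsingleton_of_len_maximal [IsLocalRing A] {M : Type*} [AddCommGroup M] [Module A M]
    (h : len (IsLocalRing.maximalIdeal A) M = 0) : Subsingleton M :=
  subsingleton_of_forall_eq 0 fun x => by
    obtain ⟨s, hs, hsx⟩ := len_eq_zero_iff.1 h x
    exact (IsLocalRing.notMem_maximalIdeal.1 hs).smul_eq_zero.1 hsx

section Local

variable [IsLocalRing A] (hn : Dual.IsNormalized A ω)
include hn

theorem deg_maximal : deg hω (IsLocalRing.maximalIdeal A) = 0 := by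
  by_contra hne
  refine (mu_ne_zero_iff hω (IsLocalRing.maximalIdeal A) _).2 rfl ?_
  haveI : Subsingleton (EH ω (Dual.inD A (A ⧸ IsLocalRing.maximalIdeal A)) (deg hω (IsLocalRing.maximalIdeal A))) :=
    hn _ hne
  exact len_eq_zero_of_subsingleton

theorem deg_nonpos (q : Ideal A) [q.IsPrime] : deg hω q ≤ 0 := by
  have h : q ≤ IsLocalRing.maximalIdeal A := IsLocalRing.le_maximalIdeal (‹q.IsPrime›).ne_top
  rcases h.eq_or_lt with rfl | h
  · exact (deg_maximal hω hn).le
  · exact ((deg_lt hω h).trans_eq (deg_maximal hω hn)).le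

theorem ringKrullDim_quotient_eq (q : Ideal A) [q.IsPrime] :
    ringKrullDim (A ⧸ q) = (((-deg hω q).toNat : ℕ) : WithBot ℕ∞) := by
  have h := ringKrullDim_quotient_prime hω (⟨q, inferInstance⟩ : PrimeSpectrum A)
  have hm : degS hω (IsLocalRing.closedPoint A) = 0 := deg_maximal hω hn
  rw [hm, zero_sub] at h
  exact h

include hω

/-- Vanishing in positive degrees. -/
theorem subsingleton_EH_pos (M : Type u) [AddCommGroup M] [Module A M] [Module.Finite A M] {i : ℤ} (hi : 0 < i) :
    Subsingleton (EH ω (Dual.inD A M) i) := by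
  refine subsingleton_of_len_maximal (A := A) ?_
  by_contra h
  obtain ⟨r, _, -, -, -, h2⟩ := exists_quotient_bounds hω M h
  have := deg_maximal hω hn
  omega

omit [IsNoetherianRing A] hω in
theorem coe_toNat_le {a b : ℤ} (h : a ≤ b) : ((a.toNat : ℕ) : WithBot ℕ∞) ≤ ((b.toNat : ℕ) : WithBot ℕ∞) :=
  WithBot.coe_le_coe.2 (Nat.cast_le.2 (Int.toNat_le_toNat h))

/-- Vanishing below `-dim M`. -/
theorem subsingleton_EH_lt (M : Type u) [AddCommGroup M] [Module A M] [Module.Finite A M] (d : ℕ)
    (hd : Module.supportDim A M = d) {i : ℤ} (hi : i < -(d : ℤ)) : Subsingleton (EH ω (Dual.inD A M) i) := by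
  refine subsingleton_of_len_maximal (A := A) ?_
  by_contra h
  obtain ⟨r, _, -, ha, h1, -⟩ := exists_quotient_bounds hω M h
  have hle : ringKrullDim (A ⧸ r) ≤ Module.supportDim A M := by
    rw [Module.supportDim_eq_ringKrullDim_quotient_annihilator]
    exact ringKrullDim_le_of_surjective (Ideal.Quotient.factor
      (fun a ha' => ha a (Module.mem_annihilator.1 ha'))) (Ideal.Quotient.factor_surjective _)
  rw [hd, ringKrullDim_quotient_eq hω hn r] at hle
  have h3 : (-deg hω r).toNat ≤ d := Nat.cast_le.1 (WithBot.coe_le_coe.1 hle)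
  omega

/-- The support of `Hom(M, ω⟦i⟧)` has dimension at most `-i`. -/
theorem supportDim_EH_le (M : Type u) [AddCommGroup M] [Module A M] [Module.Finite A M] (i : ℤ) :
    Module.supportDim A (EH ω (Dual.inD A M) i) ≤ ((-i).toNat : WithBot ℕ∞) := by
  refine iSup_le fun l => ?_
  let x₀ := l.head
  haveI : Nontrivial (LocalizedModule x₀.1.asIdeal.primeCompl (EH ω (Dual.inD A M) i)) := x₀.2
  obtain ⟨r, _, -, -, -, h2⟩ :=
    exists_quotient_bounds hω M ((nontrivial_localized_iff x₀.1.asIdeal _).1 this)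
  have h3 : (l.length : ℕ∞) ≤ Order.coheight x₀.1 := by
    refine le_trans ?_ (Order.length_le_coheight (p := l.map (fun y => y.1) (fun _ _ h => h)) ?_)
    · exact le_rfl
    · exact le_rfl
  rw [coheight_eq hω, show degS hω (IsLocalRing.closedPoint A) = 0 from deg_maximal hω hn, zero_sub] at h3
  have h4 : l.length ≤ (-degS hω x₀.1).toNat := Nat.cast_le.1 h3
  exact le_trans (WithBot.coe_le_coe.2 (Nat.cast_le.2 (h4.trans (Int.toNat_le_toNat
    (by show -deg hω x₀.1.asIdeal ≤ -i; omega))))) le_rfl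

/-- The first nonvanishing degree is the depth. -/
theorem depth_criterion (k : ℕ) : ∀ (M : Type u) [AddCommGroup M] [Module A M] [Module.Finite A M] [Nontrivial M],
    LocCoh.depth A M = k → (∀ δ : ℕ, δ < k → Subsingleton (EH ω (Dual.inD A M) (-(δ : ℤ)))) ∧
      Nontrivial (EH ω (Dual.inD A M) (-(k : ℤ))) := by
  let m := IsLocalRing.maximalIdeal A
  induction k with
  | zero =>
    intro M _ _ _ _ hM
    refine ⟨fun δ hδ => absurd hδ (Nat.not_lt_zero δ), not_subsingleton_iff_nontrivial.1 fun hs => ?_⟩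
    obtain ⟨-, f, hf⟩ := (isAssociatedPrime_iff_exists_injective_linearMap _ _).1
      (CMBasics.depth_eq_zero_iff.1 hM)
    obtain ⟨T, hT, e₁, e₂, e₃⟩ := exists_triangle hf (Submodule.mkQ_surjective (LinearMap.range f))
      (LinearMap.exact_map_mkQ_range f)
    have h3 : len m (EH ω T.obj₃ (0 + 1)) = 0 := by
      rw [e₃]
      haveI := subsingleton_EH_pos hω hn (M ⧸ LinearMap.range f) (i := 0 + 1) (by norm_num)
      exact len_eq_zero_of_subsingleton
    have h1 := len_triangle_left m T hT 0 h3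
    rw [e₁, e₂] at h1
    have h0 : len m (EH ω (Dual.inD A (A ⧸ m)) 0) = 1 := by
      have := mu_deg hω m
      rwa [deg_maximal hω hn] at this
    rw [h0] at h1
    haveI : Subsingleton (EH ω (Dual.inD A M) 0) := by simpa using hs
    rw [len_eq_zero_of_subsingleton] at h1
    exact one_ne_zero (le_zero_iff.1 h1)
  | succ k ih =>
    intro M _ _ _ _ hM
    obtain ⟨x, hx, hreg⟩ := (Depth.one_le_idealDepth_iff (M := M) (IsLocalRing.maximalIdeal.isMaximal A).ne_top).1
      (by rw [show LocCoh.idealDepth (IsLocalRing.maximalIdeal A) M = _ from hM]; simp)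
    have hinj : Function.Injective (x • (LinearMap.id : M →ₗ[A] M)) := fun y z h => hreg h
    let N := M ⧸ LinearMap.range (x • (LinearMap.id : M →ₗ[A] M))
    have he : x • (⊤ : Submodule A M) = LinearMap.range (x • (LinearMap.id : M →ₗ[A] M)) :=
      Submodule.ext fun y => by
        rw [Submodule.mem_smul_pointwise_iff_exists, LinearMap.mem_range]
        exact ⟨fun ⟨z, _, hz⟩ => ⟨z, hz⟩, fun ⟨z, hz⟩ => ⟨z, Submodule.mem_top, hz⟩⟩
    have hd : LocCoh.depth A N = k := by
      have h := Depth.idealDepth_quotSMulTop_add_one (M := M) (IsLocalRing.maximalIdeal A) hx hreg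
      rw [Depth17.idealDepth_congr _ (Submodule.quotEquivOfEq _ _ he : QuotSMulTop x M ≃ₗ[A] N)] at h
      rw [show LocCoh.idealDepth (IsLocalRing.maximalIdeal A) M = _ from hM, Nat.cast_add, Nat.cast_one] at h
      exact (ENat.add_left_injective_of_ne_top ENat.one_ne_top h)
    haveI : Nontrivial N := not_subsingleton_iff_nontrivial.1 fun hs => by
      rw [Depth.depth_eq_top_of_subsingleton] at hd
      exact ENat.top_ne_coe k hd
    obtain ⟨h1, h2⟩ := ih N hd
    have hvan : ∀ δ : ℕ, δ < k + 1 → Subsingleton (EH ω (Dual.inD A M) (-(δ : ℤ))) := fun δ hδ => by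
      refine subsingleton_of_len_maximal (A := A) (len_EH_eq_zero_of_next hω M hinj hx _ ?_)
      rcases δ with - | δ
      · haveI := subsingleton_EH_pos hω hn N (i := -((0 : ℕ) : ℤ) + 1) (by norm_num)
        exact len_eq_zero_of_subsingleton
      · haveI := h1 δ (by omega)
        rw [show -((δ + 1 : ℕ) : ℤ) + 1 = -(δ : ℤ) by omega]
        exact len_eq_zero_of_subsingleton
    refine ⟨hvan, not_subsingleton_iff_nontrivial.1 fun hs => ?_⟩
    obtain ⟨m₂, m₃, hT⟩ := exists_triangle_smul M hinj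
    haveI h5 : Subsingleton (EH ω (Dual.inD A M) (-(k : ℤ))) := hvan k (by omega)
    haveI h6 : Subsingleton (EH ω ((Dual.inD A M)⟦(1 : ℤ)⟧) (-(k : ℤ))) :=
      (shiftLeft ω _ 1 (-(k : ℤ)) (-((k + 1 : ℕ) : ℤ)) (by omega)).toEquiv.subsingleton
    refine not_nontrivial_iff_subsingleton.2 (subsingleton_of_forall_eq 0 fun φ => ?_) h2
    obtain ⟨β, hβ⟩ := Triangle.yoneda_exact₃ _ hT φ (h5.elim _ _)
    rw [hβ, h6.elim β 0]
    exact comp_zero

theorem depth_eq_iff (M : Type u) [AddCommGroup M] [Module A M] [Module.Finite A M] [Nontrivial M] (n : ℕ) :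
    LocCoh.depth A M = n ↔ ((∀ δ : ℕ, δ < n → Subsingleton (EH ω (Dual.inD A M) (-(δ : ℤ)))) ∧
      Nontrivial (EH ω (Dual.inD A M) (-(n : ℤ)))) := by
  refine ⟨depth_criterion hω hn n M, fun ⟨h1, h2⟩ => ?_⟩
  obtain ⟨k, hk⟩ := ENat.ne_top_iff_exists.1
    (Depth.idealDepth_ne_top (M := M) (IsLocalRing.maximalIdeal.isMaximal A).ne_top)
  obtain ⟨h3, h4⟩ := depth_criterion hω hn k M hk.symm
  rcases lt_trichotomy k n with h | h | h
  · exact absurd (h1 k h) (not_subsingleton_iff_nontrivial.2 h4)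
  · exact hk.symm.trans (by rw [h])
  · exact absurd (h3 n h) (not_subsingleton_iff_nontrivial.2 h2)

end Local

end GrothLib.DualRing
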