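import Groth.Agent.Lib.DualRing.Local
import Mathlib.RingTheory.Regular.Flat
import Mathlib.RingTheory.Ideal.AssociatedPrime.Localization

/-! # Modules whose dual is concentrated in one degree -/

set_option autoImplicit false
universe u

open CategoryTheory CategoryTheory.Limits Pretriangulated
open scoped Pointwise

attribute [local instance] HasDerivedCategory.standard

namespace GrothLib.DualRing

variable {A : Type u} [CommRing A] [IsNoetherianRing A] {ω : Dual.D A} (hω : Dual.IsDualizing A ω)

include hω in
/-- The associated primes of a module with dual in degree `c` all have degree `c`. -/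
theorem deg_associatedPrime (N : Type u) [AddCommGroup N] [Module A N] [Module.Finite A N] {c : ℤ}
    (hc : ∀ i, i ≠ c → Subsingleton (EH ω (Dual.inD A N) i)) {r : Ideal A} (hr : r ∈ associatedPrimes A N) :
    haveI := hr.isPrime
    deg hω r = c := by
  haveI := hr.isPrime
  obtain ⟨-, f, hf⟩ := (isAssociatedPrime_iff_exists_injective_linearMap _ _).1 hr
  obtain ⟨T, hT, e₁, e₂, e₃⟩ := exists_triangle hf (Submodule.mkQ_surjective (LinearMap.range f))
    (LinearMap.exact_map_mkQ_range f)
  by_contra hne
  have h3 : len r (EH ω T.obj₃ (deg hω r + 1)) = 0 := by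
    rw [e₃]
    by_contra h
    obtain ⟨s, _, -, -, -, h2⟩ := exists_quotient_bounds hω (N ⧸ LinearMap.range f) h
    omega
  have h1 := len_triangle_left r T hT (deg hω r) h3
  rw [e₁, e₂] at h1
  haveI := hc _ hne
  rw [len_eq_zero_of_subsingleton (M := EH ω (Dual.inD A N) (deg hω r))] at h1
  exact (mu_ne_zero_iff hω r (deg hω r)).2 rfl (le_zero_iff.1 h1)

include hω in
/-- A module with dual in one degree has a regular sequence in `q` of the expected length. -/
theorem exists_isWeaklyRegular (q : Ideal A) [q.IsPrime] (k : ℕ) :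
    ∀ (N : Type u) [AddCommGroup N] [Module A N] [Module.Finite A N] (c : ℤ),
      (∀ i, i ≠ c → Subsingleton (EH ω (Dual.inD A N) i)) → c + k = deg hω q →
      ∃ rs : List A, rs.length = k ∧ (∀ x ∈ rs, x ∈ q) ∧ RingTheory.Sequence.IsWeaklyRegular N rs := by
  induction k with
  | zero => exact fun N _ _ _ c _ _ => ⟨[], rfl, by simp, by simp⟩
  | succ k ih =>
    intro N _ _ _ c hc hk
    obtain ⟨x, hxq, hx⟩ : ∃ x ∈ q, x ∉ ⋃ r ∈ associatedPrimes A N, (r : Set A) := by
      by_contra! h
      obtain ⟨r, hr, hqr⟩ := (Ideal.subset_union_prime_finite (associatedPrimes.finite A N) (f := id) ⊥ ⊥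
        (fun r hr _ _ => hr.isPrime) (I := q)).1 (fun x hx => h x hx)
      haveI := hr.isPrime
      have h1 := deg_associatedPrime hω N hc hr
      rcases (show q ≤ r from hqr).eq_or_lt with h2 | h2
      · subst h2
        omega
      · have := deg_lt hω h2
        omega
    have hreg : IsSMulRegular N x := by
      rw [biUnion_associatedPrimes_eq_zero_divisors] at hx
      refine fun y z h => sub_eq_zero.1 (not_not.1 fun hne => hx ⟨y - z, hne, ?_⟩)
      change x • y = x • z at h
      rw [smul_sub, h, sub_self]
    have hinj : Function.Injective (x • (LinearMap.id : N →ₗ[A] N)) := fun y z h => hreg h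
    have he : LinearMap.range (x • (LinearMap.id : N →ₗ[A] N)) = x • (⊤ : Submodule A N) :=
      Submodule.ext fun y => by
        rw [Submodule.mem_smul_pointwise_iff_exists, LinearMap.mem_range]
        exact ⟨fun ⟨z, hz⟩ => ⟨z, Submodule.mem_top, hz⟩, fun ⟨z, _, hz⟩ => ⟨z, hz⟩⟩
    let N' := N ⧸ LinearMap.range (x • (LinearMap.id : N →ₗ[A] N))
    have hc' : ∀ i, i ≠ c + 1 → Subsingleton (EH ω (Dual.inD A N') i) := by
      intro i hi
      obtain ⟨m₂, m₃, hT⟩ := exists_triangle_smul N hinj
      rcases eq_or_ne i c with rfl | hic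
      · refine subsingleton_of_forall_eq 0 fun φ => ?_
        by_contra hφ
        obtain ⟨m, hm, hle⟩ := Ideal.exists_le_maximal ((Submodule.span A {φ}).annihilator) (fun h => hφ (by
          have h1 : (1 : A) ∈ (Submodule.span A {φ}).annihilator := h ▸ Submodule.mem_top
          exact (one_smul A φ).symm.trans (Submodule.mem_annihilator.1 h1 φ (Submodule.mem_span_singleton_self φ))))
        have h0 : len m (EH ω (Dual.inD A N') i) ≠ 0 := fun h => by
          obtain ⟨s, hs, hsx⟩ := len_eq_zero_iff.1 h φ
          exact hs (hle ((Submodule.mem_annihilator_span_singleton φ s).2 hsx))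
        obtain ⟨r, hr, -, ha, h1, -⟩ := exists_quotient_bounds hω N' h0
        have hann : ∀ a ∈ Module.annihilator A N, a ∈ r := fun a haN => ha a fun z => by
          obtain ⟨z, rfl⟩ := Submodule.mkQ_surjective _ z
          rw [← map_smul, Module.mem_annihilator.1 haN z, map_zero]
        obtain ⟨r₀, hr₀, hle₀⟩ := Ideal.exists_minimalPrimes_le (show Module.annihilator A N ≤ r from hann)
        have hass := Module.associatedPrimes.minimalPrimes_annihilator_subset_associatedPrimes A N hr₀
        haveI := hass.isPrime
        have h2 := deg_associatedPrime hω N hc hass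
        have hxr : x ∈ r := ha x fun z => by
          obtain ⟨z, rfl⟩ := Submodule.mkQ_surjective _ z
          rw [← map_smul, Submodule.mkQ_apply, Submodule.Quotient.mk_eq_zero]
          exact ⟨z, rfl⟩
        have hlt : r₀ < r := lt_of_le_of_ne hle₀ fun e => hx (Set.mem_biUnion hass (e ▸ hxr))
        have := deg_lt hω hlt
        omega
      · haveI h5 : Subsingleton (EH ω (Dual.inD A N) i) := hc i hic
        haveI h6 : Subsingleton (EH ω ((Dual.inD A N)⟦(1 : ℤ)⟧) i) := by
          haveI := hc (i - 1) (by omega)
          exact (shiftLeft ω _ 1 i (i - 1) (by omega)).toEquiv.subsingleton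
        refine subsingleton_of_forall_eq 0 fun φ => ?_
        obtain ⟨β, hβ⟩ := Triangle.yoneda_exact₃ _ hT φ (h5.elim _ _)
        rw [hβ, h6.elim β 0]
        exact comp_zero
    obtain ⟨rs, hlen, hmem, hrs⟩ := ih N' (c + 1) hc' (by omega)
    refine ⟨x :: rs, by simp [hlen], by simpa [hxq] using hmem, ?_⟩
    rw [RingTheory.Sequence.isWeaklyRegular_cons_iff]
    exact ⟨hreg, ((Submodule.quotEquivOfEq _ _ he : N' ≃ₗ[A] QuotSMulTop x N).isWeaklyRegular_congr rs).1 hrs⟩

/-- Chains below a prime are bounded by a strictly monotone nonnegative function. -/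
theorem length_le_of_strictMono {α : Type*} [PartialOrder α] (f : α → ℤ) (hf : StrictMono f) (h0 : ∀ x, 0 ≤ f x)
    (l : LTSeries α) : l.length ≤ (f l.last).toNat := by
  let g : Fin (l.length + 1) → Fin ((f l.last).toNat + 1) := fun j => ⟨(f (l j)).toNat, by
    have h1 : f (l j) ≤ f l.last := hf.monotone (l.strictMono.monotone (Fin.le_last j))
    have := h0 (l j)
    omega⟩
  have hg : StrictMono g := fun a b hab => by
    have := hf (l.strictMono hab)
    have := h0 (l a)
    exact Fin.mk_lt_mk.2 (by omega)
  simpa using Fintype.card_le_of_injective g hg.injective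

include hω in
theorem height_le {q : Ideal A} [q.IsPrime] (h0 : ∀ x : PrimeSpectrum A, 0 ≤ degS hω x) :
    q.height ≤ ((deg hω q).toNat : ℕ) := by
  rw [show q.height = Order.height (⟨q, inferInstance⟩ : PrimeSpectrum A) from
    PrimeSpectrum.height_eq_orderHeight ⟨q, inferInstance⟩]
  refine Order.height_le fun l hl => Nat.cast_le.2 ?_
  have h1 := length_le_of_strictMono (degS hω) (degS_strictMono hω) h0 l
  rw [hl, degS] at h1
  exact h1

end GrothLib.DualRing
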