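import Groth.Agent.Lib.DualRing.Perfect
import Groth.Agent.Lib.DCxRing.KoszulCone
import Groth.Agent.Lib.DCxRing.Regular
import Mathlib.RingTheory.LocalRing.ResidueField.Ideal

/-! # A dualizing complex lives in one degree at every prime -/

set_option autoImplicit false
universe u

open CategoryTheory CategoryTheory.Limits Pretriangulated DerivedCategory
open GrothLib.SiteDer (theta)

attribute [local instance] HasDerivedCategory.standard

namespace GrothLib.DualRing

variable {A : Type u} [CommRing A]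

section Finiteness

/-- Morphisms out of the ring. -/
theorem exists_hom_ring_equiv (K : Dual.D A) (i : ℤ) : Nonempty ((Dual.inD A A ⟶ K⟦i⟧) ≃ₗ[A] Dual.HD A K i) := by
  haveI : Projective (ModuleCat.of A A) := (IsProjective.iff_projective (R := A) A).1 inferInstance
  let H := (homologyFunctor (ModuleCat.{u} A) 0).obj (K⟦i⟧)
  let th : (Dual.inD A A ⟶ K⟦i⟧) →ₗ[A] H :=
    { toFun := fun φ => (theta φ).hom (1 : A)
      map_add' := fun φ ψ => by simp [SiteDer.theta]
      map_smul' := fun a φ => by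
        erw [DR.theta_smul]
        rfl }
  have hth : Function.Bijective th := by
    have h := DerTheta.thetaBij_of_projective (ModuleCat.of A A) 0 (K⟦i⟧)
    refine ⟨fun φ ψ e => h.1 (ModuleCat.hom_ext (LinearMap.ext_ring e)), fun x => ?_⟩
    obtain ⟨φ, hφ⟩ := h.2 (ModuleCat.ofHom (LinearMap.toSpanSingleton A H x))
    refine ⟨φ, ?_⟩
    show (theta φ).hom (1 : A) = x
    simp only at hφ
    rw [hφ]
    exact one_smul A x
  exact ⟨(LinearEquiv.ofBijective th hth).trans
    (((homologyFunctor (ModuleCat.{u} A) 0).shiftIso i 0 i (by omega)).app K).toLinearEquiv⟩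

variable {ω : Dual.D A}

theorem finite_EH_of_isPerfect (hω : Dual.IsDualizing A ω) {P : Dual.D A} (hP : DRing.IsPerfect A P) :
    ∀ i, Module.Finite A (EH ω P i) := by
  haveI := hω.isNoetherianRing
  have hz : ∀ Z : Dual.D A, IsZero Z → ∀ i, Module.Finite A (EH ω Z i) := fun Z hZ i => by
    haveI : Subsingleton (EH ω Z i) := ⟨fun f g => hZ.eq_of_src f g⟩
    infer_instance
  have hs : ∀ (n : ℤ) {M : Dual.D A}, (∀ i, Module.Finite A (EH ω M i)) →
      ∀ i, Module.Finite A (EH ω (M⟦n⟧) i) := fun n M hM i => by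
    haveI := hM (i - n)
    exact Module.Finite.equiv (shiftLeft ω M n i (i - n) (by omega)).symm
  refine DR.thick_induction (P := fun M => ∀ i, Module.Finite A (EH ω M i)) ⟨fun hZ => hz _ hZ,
    fun n h => hs n h, fun {A' B M} i₁ p₁ i₂ p₂ h hA hB i => ?_, fun T hT h₁ h₂ i => ?_⟩ (fun i => ?_) hP
  · haveI := hA i
    haveI := hB i
    let φ : EH ω A' i × EH ω B i →ₗ[A] EH ω M i := (pre p₁ (ω⟦i⟧)).coprod (pre p₂ (ω⟦i⟧))
    refine Module.Finite.of_surjective φ fun f => ⟨(i₁ ≫ f, i₂ ≫ f), ?_⟩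
    show p₁ ≫ i₁ ≫ f + p₂ ≫ i₂ ≫ f = f
    rw [← Category.assoc, ← Category.assoc, ← Preadditive.add_comp, h, Category.id_comp]
  · exact finite_mid _ (rot_of_distTriang _ hT) _ (h₂ i) (hs 1 h₁ i)
  · haveI := hω.finite_cohomology i
    exact Module.Finite.equiv (exists_hom_ring_equiv ω i).some.symm

theorem exists_bounds_HD {P : Dual.D A} (hP : DRing.IsPerfect A P) :
    ∃ a b : ℤ, ∀ i, (i < a ∨ b < i) → Subsingleton (Dual.HD A P i) := by
  obtain ⟨E, a, b, hv, -, ⟨e⟩⟩ := hP
  exact ⟨a, b, fun i hi => DR.subsingleton_HD_of_iso e i ((DR.exactAt_iff E i).1 (ShortComplex.exact_of_isZero_X₂ _ (hv i hi)))⟩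

theorem len_ne_top_of_torsion [IsNoetherianRing A] (p : Ideal A) [p.IsPrime] (S : Set A) (hS : p ≤ Ideal.span S)
    (M : Type*) [AddCommGroup M] [Module A M] [hM : Module.Finite A M] :
    (∀ f ∈ S, ∀ x : M, ∃ k : ℕ, f ^ k • x = 0) → len p M ≠ ⊤ := by
  induction hM using IsNoetherianRing.induction_on_isQuotientEquivQuotientPrime A with
  | subsingleton N => intro _; rw [len_eq_zero_of_subsingleton]; exact ENat.zero_ne_top
  | quotient N q e =>
    intro h
    haveI := q.2
    rw [len_congr e]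
    have hSq : S ⊆ q.1 := fun f hf => by
      obtain ⟨k, hk⟩ := h f hf (e.symm 1)
      rw [← map_smul, map_eq_zero_iff _ e.symm.injective] at hk
      have h1 : f ^ k • (1 : A ⧸ q.1) = Ideal.Quotient.mk q.1 (f ^ k) := by
        rw [← map_one (Ideal.Quotient.mk q.1)]
        exact (congrArg _ (mul_one (f ^ k)))
      exact q.2.mem_of_pow_mem k (Ideal.Quotient.eq_zero_iff_mem.1 (h1 ▸ hk))
    have hpq : p ≤ q.1 := hS.trans (Ideal.span_le.2 hSq)
    by_cases hqp : q.1 ≤ p
    · rw [len_congr (Submodule.quotEquivOfEq _ _ (le_antisymm hqp hpq)), len_quotient_prime]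
      exact ENat.one_ne_top
    · rw [len_quotient_eq_zero (p := p) hqp]
      exact ENat.zero_ne_top
  | exact N₁ N₂ N₃ f g hf hg hfg h₁ h₃ =>
    intro h
    rw [len_eq_add hf hg hfg]
    refine WithTop.add_ne_top.2 ⟨h₁ fun a ha x => ?_, h₃ fun a ha y => ?_⟩
    · obtain ⟨k, hk⟩ := h a ha (f x)
      exact ⟨k, hf (by rw [map_smul, hk, map_zero])⟩
    · obtain ⟨x, rfl⟩ := hg y
      obtain ⟨k, hk⟩ := h a ha x
      exact ⟨k, by rw [← map_smul, hk, map_zero]⟩

end Finiteness

section Extremal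

variable [IsNoetherianRing A] {ω : Dual.D A} {p : Ideal A} [p.IsPrime]

theorem len_EH_single (N : Type u) [AddCommGroup N] [Module A N] {X : Dual.D A} {b : ℤ}
    (e : X ≅ (Dual.inD A N)⟦-b⟧) (i : ℤ) : len p (EH ω X i) = len p (EH ω (Dual.inD A N) (i + b)) :=
  (len_iso p e i).trans (len_shift p (Dual.inD A N) (-b) i (i + b) (by omega))

theorem len_EH_isZero {X : Dual.D A} (h : ∀ j, Subsingleton (Dual.HD A X j)) (i : ℤ) : len p (EH ω X i) = 0 := by
  have hZ : IsZero X := DR.isZero_of_homology X fun j => (DR.subsingleton_iff_isZero _).1 (h j)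
  haveI : Subsingleton (EH ω X i) := ⟨fun f g => hZ.eq_of_src f g⟩
  exact len_eq_zero_of_subsingleton

theorem len_HD_top (T : Triangle (Dual.D A)) (b : ℤ)
    (hge : ∀ i, b ≤ i → Subsingleton (Dual.HD A T.obj₁ i)) {j : ℤ} (hj : b ≤ j) :
    len p (Dual.HD A T.obj₁ j) = 0 :=
  haveI := hge j hj
  len_eq_zero_of_subsingleton

theorem good_left (T : Triangle (Dual.D A)) (b : ℤ) (hG : Good p T.obj₂)
    (hlt : ∀ i, i < b → Nonempty (Dual.HD A T.obj₁ i ≃ₗ[A] Dual.HD A T.obj₂ i))
    (hge : ∀ i, b ≤ i → Subsingleton (Dual.HD A T.obj₁ i)) : Good p T.obj₁ where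
  finite i := by
    by_cases hi : i < b
    · haveI := hG.finite i; exact Module.Finite.equiv (hlt i hi).some.symm
    · haveI := hge i (not_lt.1 hi); infer_instance
  ne_top i := by
    by_cases hi : i < b
    · rw [len_congr (hlt i hi).some]; exact hG.ne_top i
    · haveI := hge i (not_lt.1 hi); rw [len_eq_zero_of_subsingleton]; exact ENat.zero_ne_top
  bdd := by
    obtain ⟨a, b', hab⟩ := hG.bdd
    refine ⟨a, b', fun i hi => ?_⟩
    by_cases hi' : i < b
    · haveI := hab i hi; exact (hlt i hi').some.toEquiv.subsingleton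
    · exact hge i (not_lt.1 hi')

theorem vanish {X : Dual.D A} (hX : Good p X) : ∀ i,
    (∀ j, len p (Dual.HD A X j) = 0 ∨ mu ω p (i + j) = 0) → len p (EH ω X i) = 0 := by
  refine Good.induction (P := fun X => ∀ i,
    (∀ j, len p (Dual.HD A X j) = 0 ∨ mu ω p (i + j) = 0) → len p (EH ω X i) = 0)
    (fun K hK _ i _ => len_EH_isZero hK i) ?_ X hX
  intro T hT hG b e hlt hgt hge ih i h
  haveI := hG.finite b
  refine len_mid p T hT i ?_ (ih i fun j => ?_)
  · rw [len_EH_single _ e]
    rcases h b with h | h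
    · exact len_EH_of_len_eq_zero ω p h _
    · exact len_EH_eq_zero _ h (hG.ne_top b)
  · by_cases hj : j < b
    · rw [len_congr (hlt j hj).some]
      exact h j
    · exact Or.inl (len_HD_top T b hge (not_lt.1 hj))

theorem bottom_ne_zero {c : ℤ} (hc : mu ω p c ≠ 0) (hlo : ∀ k, k < c → mu ω p k = 0) {X : Dual.D A}
    (hX : Good p X) : ∀ t, len p (Dual.HD A X t) ≠ 0 → (∀ j, t < j → len p (Dual.HD A X j) = 0) →
      len p (EH ω X (c - t)) ≠ 0 := by
  refine Good.induction (P := fun X => ∀ t, len p (Dual.HD A X t) ≠ 0 →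
    (∀ j, t < j → len p (Dual.HD A X j) = 0) → len p (EH ω X (c - t)) ≠ 0)
    (fun K hK _ t h0 _ => absurd (haveI := hK t; len_eq_zero_of_subsingleton) h0) ?_ X hX
  intro T hT hG b e hlt hgt hge ih t h0 ht
  haveI := hG.finite b
  have htb : t ≤ b := not_lt.1 fun h => h0 (haveI := hgt t h; len_eq_zero_of_subsingleton)
  have h1 : Good p T.obj₁ → ∀ i, (∀ j, j < b → len p (Dual.HD A T.obj₂ j) = 0 ∨ mu ω p (i + j) = 0) →
      len p (EH ω T.obj₁ i) = 0 := fun hG1 i h => vanish hG1 i fun j => by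
    by_cases hj : j < b
    · rw [len_congr (hlt j hj).some]
      exact h j hj
    · exact Or.inl (len_HD_top T b hge (not_lt.1 hj))
  have hG1 : Good p T.obj₁ := good_left T b hG hlt hge
  have h10 : len p (EH ω T.obj₁ (c - t - 1)) = 0 := h1 hG1 _ fun j _ =>
    if hjt : t < j then Or.inl (ht j hjt) else Or.inr (hlo _ (by omega))
  rcases htb.eq_or_lt with rfl | htb
  · intro hz
    have := len_triangle_right p T hT (c - t) h10
    rw [hz, nonpos_iff_eq_zero, len_EH_single _ e, show c - t + t = c by omega] at this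
    exact len_EH_ne_zero _ hc (Or.inl (hlo _ (by omega))) (hG.ne_top t) h0 this
  · have hb0 : ∀ k, len p (EH ω T.obj₃ k) = 0 := fun k => by
      rw [len_EH_single _ e]
      exact len_EH_of_len_eq_zero ω p (ht b htb) _
    rw [len_triangle p T hT (c - t) h10 (hb0 _), hb0, zero_add]
    refine ih t (by rwa [len_congr (hlt t htb).some]) fun j hj => ?_
    by_cases hjb : j < b
    · rw [len_congr (hlt j hjb).some]
      exact ht j hj
    · exact len_HD_top T b hge (not_lt.1 hjb)

theorem top_ne_zero {d : ℤ} (hd : mu ω p d ≠ 0) (hhi : ∀ k, d < k → mu ω p k = 0) {X : Dual.D A}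
    (hX : Good p X) : ∀ s, len p (Dual.HD A X s) ≠ 0 → (∀ j, j < s → len p (Dual.HD A X j) = 0) →
      len p (EH ω X (d - s)) ≠ 0 := by
  refine Good.induction (P := fun X => ∀ s, len p (Dual.HD A X s) ≠ 0 →
    (∀ j, j < s → len p (Dual.HD A X j) = 0) → len p (EH ω X (d - s)) ≠ 0)
    (fun K hK _ s h0 _ => absurd (haveI := hK s; len_eq_zero_of_subsingleton) h0) ?_ X hX
  intro T hT hG b e hlt hgt hge ih s h0 hs
  haveI := hG.finite b
  have hsb : s ≤ b := not_lt.1 fun h => h0 (haveI := hgt s h; len_eq_zero_of_subsingleton)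
  have hG1 : Good p T.obj₁ := good_left T b hG hlt hge
  rcases hsb.eq_or_lt with rfl | hsb
  · intro hz
    have h10 : len p (EH ω T.obj₁ (d - s - 1)) = 0 := vanish hG1 _ fun j => Or.inl (by
      by_cases hj : j < s
      · rw [len_congr (hlt j hj).some]
        exact hs j hj
      · exact len_HD_top T s hge (not_lt.1 hj))
    have := len_triangle_right p T hT (d - s) h10
    rw [hz, nonpos_iff_eq_zero, len_EH_single _ e, show d - s + s = d by omega] at this
    exact len_EH_ne_zero _ hd (Or.inr (hhi _ (by omega))) (hG.ne_top s) h0 this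
  · intro hz
    have h34 : len p (EH ω T.obj₃ (d - s + 1)) = 0 := by
      rw [len_EH_single _ e]
      exact len_EH_eq_zero _ (hhi _ (by omega)) (hG.ne_top b)
    have := len_triangle_left p T hT (d - s) h34
    rw [hz, nonpos_iff_eq_zero] at this
    refine ih s (by rwa [len_congr (hlt s hsb).some]) (fun j hj => ?_) this
    rw [len_congr (hlt j (by omega)).some]
    exact hs j hj

theorem len_EH_formula {c : ℤ} (h : ∀ k, k ≠ c → mu ω p k = 0) {X : Dual.D A} (hX : Good p X) :
    ∀ i, len p (EH ω X i) = mu ω p c * len p (Dual.HD A X (c - i)) := by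
  refine Good.induction (P := fun X => ∀ i, len p (EH ω X i) = mu ω p c * len p (Dual.HD A X (c - i)))
    (fun K hK _ i => by
      haveI := hK (c - i)
      rw [len_EH_isZero hK i, len_eq_zero_of_subsingleton, mul_zero]) ?_ X hX
  intro T hT hG b e hlt hgt hge ih i
  haveI := hG.finite b
  have h3 : ∀ k, k + b ≠ c → len p (EH ω T.obj₃ k) = 0 := fun k hk => by
    rw [len_EH_single _ e]
    exact len_EH_eq_zero _ (h _ hk) (hG.ne_top b)
  have h1 : ∀ k, b ≤ c - k → len p (EH ω T.obj₁ k) = 0 := fun k hk => by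
    rw [ih k, len_HD_top T b hge hk, mul_zero]
  rcases lt_trichotomy (c - i) b with hj | hj | hj
  · have hle := len_le_of_left (X₁ := EH ω T.obj₂ i) (pre_exact T hT (ω⟦i⟧)) (h3 i (by omega))
    have hge' := len_triangle_left p T hT i (h3 _ (by omega))
    rw [le_antisymm hle hge', ih i, len_congr (hlt _ hj).some]
  · rw [len_triangle p T hT i (h1 _ (by omega)) (h3 _ (by omega)), h1 i (by omega), add_zero,
      len_EH_single _ e, show i + b = c by omega, hj, len_EH_eq _ h (hG.ne_top b)]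
  · haveI := hgt _ hj
    rw [len_eq_zero_of_subsingleton (M := Dual.HD A T.obj₂ (c - i)), mul_zero]
    exact len_mid p T hT i (h3 i (by omega)) (h1 i (by omega))

end Extremal

end GrothLib.DualRing
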