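import Groth.Agent.Lib.DualRing.Local
import Groth.Agent.Lib.DualRing.Single
import Groth.Agent.Lib.DualRing.Module

/-! # Shifts of dualizing complexes, normalization, and the Cohen–Macaulay criterion -/

set_option autoImplicit false
universe u

open CategoryTheory CategoryTheory.Limits

attribute [local instance] HasDerivedCategory.standard

namespace GrothLib.DualRing

variable {A : Type u} [CommRing A] {ω : Dual.D A}

/-- Morphisms into a shifted object. -/
noncomputable def shiftTarget (ω X : Dual.D A) (n i j : ℤ) (h : n + i = j) :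
    EH (ω⟦n⟧) X i ≃ₗ[A] EH ω X j :=
  Linear.homCongr A (Iso.refl X) ((shiftFunctorAdd' (Dual.D A) n i j h).app ω).symm

/-- Cohomology of a shift. -/
theorem nonempty_HD_shift (ω : Dual.D A) (n i j : ℤ) (h : n + i = j) :
    Nonempty (Dual.HD A (ω⟦n⟧) i ≃ₗ[A] Dual.HD A ω j) :=
  ⟨(exists_hom_ring_equiv (ω⟦n⟧) i).some.symm ≪≫ₗ shiftTarget ω _ n i j h ≪≫ₗ
    (exists_hom_ring_equiv ω j).some⟩

/-- Shifts of dualizing complexes are dualizing. -/
theorem isDualizing_shift (hω : Dual.IsDualizing A ω) (n : ℤ) : Dual.IsDualizing A (ω⟦n⟧) where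
  isNoetherianRing := hω.isNoetherianRing
  finite_injective_dimension := by
    obtain ⟨a, b, hab⟩ := hω.finite_injective_dimension
    refine ⟨a - n, b - n, fun M _ _ i hi => ?_⟩
    haveI := hab M (n + i) (by omega)
    exact (shiftTarget ω (Dual.inD A M) n i (n + i) rfl).toEquiv.subsingleton
  finite_cohomology i := by
    haveI := hω.finite_cohomology (n + i)
    exact Module.Finite.equiv (nonempty_HD_shift ω n i (n + i) rfl).some.symm
  toEnd_bijective := by
    have h : (fun a : A => a • 𝟙 (ω⟦n⟧)) =
        (fun φ => (shiftFunctor (Dual.D A) n).map φ) ∘ fun a : A => a • 𝟙 ω := funext fun a => by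
      simp only [Function.comp_apply, Functor.map_smul, CategoryTheory.Functor.map_id]
    rw [h]
    exact Function.Bijective.comp ⟨(shiftFunctor (Dual.D A) n).map_injective,
      (shiftFunctor (Dual.D A) n).map_surjective⟩ hω.toEnd_bijective
  ext_self_subsingleton i hi := by
    haveI := hω.ext_self_subsingleton i hi
    exact ((shiftTarget ω (ω⟦n⟧) n i (n + i) rfl).trans
      (shiftLeft ω ω n (n + i) i (by omega))).toEquiv.subsingleton

section Local

variable [IsLocalRing A] [IsNoetherianRing A] (hω : Dual.IsDualizing A ω)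

/-- A dualizing complex over a local ring has a normalized shift. -/
theorem isNormalized_shift : Dual.IsNormalized A (ω⟦deg hω (IsLocalRing.maximalIdeal A)⟧) := fun i hi => by
  let m := IsLocalRing.maximalIdeal A
  haveI : Subsingleton (EH ω (Dual.inD A (A ⧸ m)) (deg hω m + i)) :=
    (len_eq_zero_iff_of_killed m (smul_EH_quotient (ω := ω) m _)).1 (mu_ne_deg hω m (by omega))
  exact (shiftTarget ω (Dual.inD A (A ⧸ m)) (deg hω m) i (deg hω m + i) rfl).toEquiv.subsingleton

include hω in
/-- A local ring is Cohen–Macaulay iff a dualizing complex lives in one degree. -/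
theorem isCM_iff_HD :
    LocCoh.IsCohenMacaulayLocalRing A ↔
      ∀ i j : ℤ, Nontrivial (Dual.HD A ω i) → Nontrivial (Dual.HD A ω j) → i = j := by
  let c := deg hω (IsLocalRing.maximalIdeal A)
  have hω' := isDualizing_shift hω c
  have hn : Dual.IsNormalized A (ω⟦c⟧) := isNormalized_shift hω
  obtain ⟨k, hk⟩ := ENat.ne_top_iff_exists.1
    (GrothLib.Depth.idealDepth_ne_top (M := A) (IsLocalRing.maximalIdeal.isMaximal A).ne_top)
  obtain ⟨h1, h2⟩ := depth_criterion hω' hn k A hk.symm
  have e : ∀ i, EH (ω⟦c⟧) (Dual.inD A A) i ≃ Dual.HD A ω (c + i) := fun i =>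
    ((exists_hom_ring_equiv (ω⟦c⟧) i).some ≪≫ₗ (nonempty_HD_shift ω c i (c + i) rfl).some).toEquiv
  constructor
  · intro hcm i j hi hj
    have hd : Module.supportDim A A = ((k : ℕ∞) : WithBot ℕ∞) := by
      rw [hcm.supportDim_eq_depth]
      exact congrArg _ hk.symm
    have key : ∀ l, Nontrivial (Dual.HD A ω l) → l = c - k := by
      intro l hl
      by_contra hne
      have hs : Subsingleton (EH (ω⟦c⟧) (Dual.inD A A) (l - c)) := by
        by_cases h0 : 0 < l - c
        · exact subsingleton_EH_pos hω' hn A h0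
        by_cases hlt : l - c < -(k : ℤ)
        · exact subsingleton_EH_lt hω' hn A k hd hlt
        obtain ⟨δ, hδ⟩ := Int.eq_ofNat_of_zero_le (show 0 ≤ -(l - c) by omega)
        rw [show l - c = -(δ : ℤ) by omega]
        exact h1 δ (by omega)
      rw [(e (l - c)).subsingleton_congr, show c + (l - c) = l by omega] at hs
      exact not_subsingleton _ hs
    rw [key i hi, key j hj]
  · intro huniq
    have hnt : Nontrivial (Dual.HD A ω (c - k)) := by
      rw [show c - (k : ℤ) = c + -(k : ℤ) by omega, ← (e _).nontrivial_congr]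
      exact h2
    refine { ‹IsNoetherianRing A›, ‹IsLocalRing A› with supportDim_eq_depth := ?_ }
    rw [show LocCoh.depth A A = (k : ℕ∞) from hk.symm]
    have hlo : ∀ x : PrimeSpectrum A, -(k : ℤ) ≤ degS hω' x := by
      intro x
      obtain ⟨q, hq, hle⟩ := Ideal.exists_minimalPrimes_le (bot_le : (⊥ : Ideal A) ≤ x.asIdeal)
      haveI := hq.isPrime
      have hfin : len q A ≠ ⊤ := len_ne_top_of_minimal (q := q) (⊥ : Ideal A)
        (fun s hs _ hsp => le_antisymm hsp (hq.2 ⟨hs, bot_le⟩ hsp)) A
        (fun a ha z => by rw [(Submodule.mem_bot A).1 ha, zero_smul])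
      have h0 : len q A ≠ 0 := fun h => by
        obtain ⟨s, hs, hs1⟩ := len_eq_zero_iff.1 h (1 : A)
        rw [smul_eq_mul, mul_one] at hs1
        exact hs (hs1 ▸ q.zero_mem)
      have hne : len q (EH (ω⟦c⟧) (Dual.inD A A) (deg hω' q)) ≠ 0 :=
        len_EH_ne_zero A ((mu_ne_zero_iff hω' q _).2 rfl) (Or.inl (mu_ne_deg hω' q (by omega))) hfin h0
      have hN : Nontrivial (Dual.HD A ω (c + deg hω' q)) := by
        rw [← (e _).nontrivial_congr]
        exact not_subsingleton_iff_nontrivial.1 fun hs => hne len_eq_zero_of_subsingleton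
      have h3 := huniq _ _ hN hnt
      have h4 : degS hω' ⟨q, inferInstance⟩ ≤ degS hω' x := (degS_strictMono hω').monotone hle
      have h5 : degS hω' ⟨q, inferInstance⟩ = deg hω' q := rfl
      omega
    have hdim : ringKrullDim A ≤ (k : ℕ∞) := by
      refine iSup_le fun l => ?_
      have h1 := length_le_of_strictMono (fun x => degS hω' x + k)
        (fun a b h => add_lt_add_left (degS_strictMono hω' h) _) (fun x => by have := hlo x; omega) l
      have h2 : degS hω' l.last ≤ 0 := deg_nonpos hω' hn _
      exact WithBot.coe_le_coe.2 (Nat.cast_le.2 (by omega))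
    rw [Module.supportDim_self_eq_ringKrullDim]
    refine le_antisymm hdim ?_
    by_contra hlt
    obtain ⟨x, hx⟩ := WithBot.ne_bot_iff_exists.1 (ringKrullDim_ne_bot (R := A))
    rw [← hx, WithBot.coe_le_coe] at hlt
    rw [← hx, WithBot.coe_le_coe] at hdim
    obtain ⟨d, rfl⟩ := ENat.ne_top_iff_exists.1 (ne_top_of_le_ne_top (ENat.coe_ne_top k) hdim)
    have hd : Module.supportDim A A = d := by rw [Module.supportDim_self_eq_ringKrullDim, ← hx]; rfl
    have hdk : d < k := Nat.cast_lt.1 (not_le.1 hlt)
    exact not_subsingleton_iff_nontrivial.2 h2 (subsingleton_EH_lt hω' hn A d hd (by omega))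

end Local

end GrothLib.DualRing
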