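import Groth.Agent.Lib.DualRing.GorFlatBC
import Groth.Agent.Lib.DualRing.Shift
import Groth.Agent.Lib.DualRing.Local
import Groth.Agent.Lib.DualCx22.EssFT
import Groth.Agent.Lib.DualCx22.Pointwise
import Mathlib.RingTheory.Localization.BaseChange

/-! # Duals localised at a prime -/

set_option autoImplicit false
set_option linter.style.haveILetI false
universe u

open CategoryTheory CategoryTheory.Limits TensorProduct GrothLib.DualCx22

attribute [local instance] HasDerivedCategory.standard

namespace GrothLib.DualRing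

variable {A : Type u} [CommRing A] [IsNoetherianRing A] {ω : Dual.D A} (hω : Dual.IsDualizing A ω)

local notation "Aₚ" p => Localization.AtPrime (PrimeSpectrum.asIdeal p)

/-- The dual of a module, localised at a prime, in terms of a normalized dualizing complex there. -/
theorem exists_localized_EH (p : PrimeSpectrum A) (M : Type u) [AddCommGroup M] [Module A M] [Module.Finite A M] :
    ∃ ω' : Dual.D (Aₚ p), Dual.IsDualizing (Aₚ p) ω' ∧ Dual.IsNormalized (Aₚ p) ω' ∧
      ∀ i, Nontrivial (EH ω' (Dual.inD (Aₚ p) (LocalizedModule p.asIdeal.primeCompl M)) i) ↔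
        p ∈ Module.support A (EH ω (Dual.inD A M) (deg hω p.asIdeal + i)) := by
  let B := Localization.AtPrime p.asIdeal
  haveI : Module.Flat A B := IsLocalization.flat B p.asIdeal.primeCompl
  haveI := GrothLib.DR.preservesFiniteLimits_extendScalars (algebraMap A B) GrothLib.DR.flat_algebraMap
  obtain ⟨a, b, hab⟩ := hω.finite_injective_dimension
  haveI : ω.IsGE a := isGE_of_hom_ring ω a fun i hi => hab A i (Or.inl hi)
  have hωB : Dual.IsDualizing B ((bcD B).obj ω) :=
    isDualizing_bcD_localization p.asIdeal.primeCompl B hω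
  have hmax : IsLocalRing.maximalIdeal B = p.asIdeal.map (algebraMap A B) :=
    Localization.AtPrime.map_eq_maximalIdeal.symm
  have hc : deg hωB (IsLocalRing.maximalIdeal B) = deg hω p.asIdeal := by
    by_contra hne
    refine (mu_ne_zero_iff hωB (IsLocalRing.maximalIdeal B) _).2 rfl ?_
    haveI : Subsingleton (B ⊗[A] EH ω (Dual.inD A (A ⧸ p.asIdeal)) (deg hωB (IsLocalRing.maximalIdeal B))) :=
      subsingleton_tensor_of_killed B fun y => by
        obtain ⟨s, hs, hsy⟩ := len_eq_zero_iff.1 (mu_ne_deg hω p.asIdeal hne) y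
        exact ⟨s, IsLocalization.map_units B (⟨s, hs⟩ : p.asIdeal.primeCompl), hsy⟩
    haveI := (nonempty_equiv_quotient_bcD B ω a p.asIdeal (deg hωB (IsLocalRing.maximalIdeal B))).some.toEquiv.subsingleton
    have h : ∀ (J : Ideal B), J = p.asIdeal.map (algebraMap A B) →
        Subsingleton (EH ((bcD B).obj ω) (Dual.inD B (B ⧸ J)) (deg hωB (IsLocalRing.maximalIdeal B))) := fun J hJ => by
      subst hJ
      assumption
    haveI := h _ hmax
    exact len_eq_zero_of_subsingleton
  refine ⟨_, isDualizing_shift hωB (deg hωB (IsLocalRing.maximalIdeal B)), isNormalized_shift hωB, fun i => ?_⟩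
  obtain ⟨e⟩ := nonempty_bcD_inD (A := A) B M
  let eM : Dual.inD B (B ⊗[A] M) ≅ Dual.inD B (LocalizedModule p.asIdeal.primeCompl M) :=
    (DerivedCategory.singleFunctor (ModuleCat.{u} B) 0).mapIso
      (LocalizedModule.isBaseChange p.asIdeal.primeCompl M).equiv.toModuleIso
  let E : EH ((bcD B).obj ω) (Dual.inD B (LocalizedModule p.asIdeal.primeCompl M)) (deg hω p.asIdeal + i) ≃ₗ[B]
      B ⊗[A] EH ω (Dual.inD A M) (deg hω p.asIdeal + i) :=
    (Linear.homCongr B (e ≪≫ eM).symm (shiftBc B ω (deg hω p.asIdeal + i)).symm) ≪≫ₗ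
      (θEquiv B (isBC_inD B ω a ((deg hω p.asIdeal + i) - a + 1).toNat M (deg hω p.asIdeal + i) (by omega))).symm
  rw [(shiftTarget ((bcD B).obj ω) _ (deg hωB (IsLocalRing.maximalIdeal B)) i (deg hω p.asIdeal + i)
      (by rw [hc])).toEquiv.nontrivial_congr, E.toEquiv.nontrivial_congr, ← not_subsingleton_iff_nontrivial,
    subsingleton_tensor_localization_iff p.asIdeal.primeCompl]
  refine (not_congr ?_).trans not_not
  exact (Module.notMem_support_iff' (p := p)).symm

include hω in
/-- The degrees in which the dual lives at a prime, in terms of the depth there. -/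
theorem exists_degrees (p : PrimeSpectrum A) (M : Type u) [AddCommGroup M] [Module A M] [Module.Finite A M]
    (hp : p ∈ Module.support A M) :
    ∃ k : ℕ, LocCoh.depth (Aₚ p) (LocalizedModule p.asIdeal.primeCompl M) = k ∧
      p ∈ Module.support A (EH ω (Dual.inD A M) (deg hω p.asIdeal - k)) ∧
      (∀ i, p ∈ Module.support A (EH ω (Dual.inD A M) i) → i ≤ deg hω p.asIdeal - k) ∧
      ((k : WithBot ℕ∞) = Module.supportDim (Aₚ p) (LocalizedModule p.asIdeal.primeCompl M) ↔
        ∀ i, p ∈ Module.support A (EH ω (Dual.inD A M) i) → i = deg hω p.asIdeal - k) := by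
  let B := Localization.AtPrime p.asIdeal
  let N := LocalizedModule p.asIdeal.primeCompl M
  haveI : Nontrivial N := Module.mem_support_iff.1 hp
  haveI : Module.Finite B N := Module.Finite.equiv (LocalizedModule.isBaseChange p.asIdeal.primeCompl M).equiv
  obtain ⟨ω', hω', hn, hiff⟩ := exists_localized_EH hω p M
  obtain ⟨k, hk⟩ := ENat.ne_top_iff_exists.1
    (GrothLib.Depth.idealDepth_ne_top (M := N) (IsLocalRing.maximalIdeal.isMaximal B).ne_top)
  obtain ⟨h1, h2⟩ := depth_criterion hω' hn k N hk.symm
  obtain ⟨d, hd⟩ : ∃ d : ℕ, Module.supportDim B N = d := by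
    obtain ⟨x, hx⟩ := WithBot.ne_bot_iff_exists.1 ((Module.supportDim_ne_bot_iff_nontrivial B N).2 (‹Nontrivial N›) : Module.supportDim B N ≠ ⊥)
    obtain ⟨d, rfl⟩ := ENat.ne_top_iff_exists.1 (show x ≠ ⊤ from fun h => by
      have h3 := Module.supportDim_le_ringKrullDim B N
      rw [← hx, h] at h3
      exact absurd (lt_of_le_of_lt h3 (ringKrullDim_lt_top (A := B) hω')) (lt_irrefl _))
    exact ⟨d, hx.symm⟩
  have hkd : k ≤ d := by
    by_contra hlt
    exact not_subsingleton_iff_nontrivial.2 h2 (subsingleton_EH_lt hω' hn N d hd (by omega))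
  have hle : ∀ i, p ∈ Module.support A (EH ω (Dual.inD A M) i) → i ≤ deg hω p.asIdeal - k := fun i hi => by
    by_contra hlt
    have hnt := (hiff (i - deg hω p.asIdeal)).2 (by rwa [show deg hω p.asIdeal + (i - deg hω p.asIdeal) = i by omega])
    by_cases h0 : 0 < i - deg hω p.asIdeal
    · exact not_subsingleton_iff_nontrivial.2 hnt (subsingleton_EH_pos hω' hn N h0)
    obtain ⟨δ, hδ⟩ := Int.eq_ofNat_of_zero_le (show 0 ≤ deg hω p.asIdeal - i by omega)
    rw [show i - deg hω p.asIdeal = -(δ : ℤ) by omega] at hnt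
    exact not_subsingleton_iff_nontrivial.2 hnt (h1 δ (by omega))
  refine ⟨k, hk.symm, by rw [show deg hω p.asIdeal - (k : ℤ) = deg hω p.asIdeal + -(k : ℤ) by omega, ← hiff]; exact h2,
    hle, ?_⟩
  constructor
  · intro hdk i hi
    have hdk' : k = d := by
      rw [hd] at hdk
      exact_mod_cast hdk
    refine le_antisymm (hle i hi) (not_lt.1 fun hlt => ?_)
    have hnt := (hiff (i - deg hω p.asIdeal)).2 (by rwa [show deg hω p.asIdeal + (i - deg hω p.asIdeal) = i by omega])
    exact not_subsingleton_iff_nontrivial.2 hnt (subsingleton_EH_lt hω' hn N d hd (by omega))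
  · intro huniq
    refine le_antisymm (by rw [hd]; exact_mod_cast hkd) ?_
    have hsupp : Module.support B N ⊆ Module.support B (EH ω' (Dual.inD B N) (-(k : ℤ))) := by
      intro q hq
      by_contra hqn
      have hne : ∀ i : ℤ, q ∉ Module.support B (EH ω' (Dual.inD B N) i) := fun i hi => by
        haveI : Nontrivial (EH ω' (Dual.inD B N) i) := not_subsingleton_iff_nontrivial.1 fun hs => by
          haveI := hs
          haveI := Module.mem_support_iff.1 hi
          exact not_subsingleton (LocalizedModule q.asIdeal.primeCompl (EH ω' (Dual.inD B N) i)) inferInstance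
        have := huniq _ ((hiff i).1 this)
        rw [show i = -(k : ℤ) by omega] at hi
        exact hqn hi
      haveI : Nontrivial (LocalizedModule q.asIdeal.primeCompl N) := Module.mem_support_iff.1 hq
      obtain ⟨ω'', hω'', hn'', hiff''⟩ := exists_localized_EH hω' q N
      haveI : Module.Finite (Localization.AtPrime q.asIdeal) (LocalizedModule q.asIdeal.primeCompl N) :=
        Module.Finite.equiv (LocalizedModule.isBaseChange q.asIdeal.primeCompl N).equiv
      obtain ⟨l, hl⟩ := ENat.ne_top_iff_exists.1
        (GrothLib.Depth.idealDepth_ne_top (M := LocalizedModule q.asIdeal.primeCompl N)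
          (IsLocalRing.maximalIdeal.isMaximal (Localization.AtPrime q.asIdeal)).ne_top)
      exact hne _ ((hiff'' _).1 (depth_criterion hω'' hn'' l _ hl.symm).2)
    refine le_trans (Order.krullDim_le_of_strictMono (fun x => (⟨x.1, hsupp x.2⟩ : Module.support B _))
      (fun x y h => h)) ?_
    have h3 := supportDim_EH_le hω' hn N (-(k : ℤ))
    rw [neg_neg, Int.toNat_natCast] at h3
    exact h3

end GrothLib.DualRing
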