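import Groth.Agent.Lib.DCxRing.Minimal
import Groth.Agent.Lib.DCxRing.ToSingle
import Groth.Agent.Lib.DualCx22.Pointwise
import Groth.Agent.Lib.DualRing.Shift
import Mathlib.RingTheory.Localization.Free
import Mathlib.RingTheory.Spectrum.Prime.FreeLocus

/-! # Objects which are invertible near a point -/

set_option autoImplicit false
set_option linter.style.haveILetI false
set_option maxHeartbeats 800000
universe u

open CategoryTheory CategoryTheory.Limits HomologicalComplex TensorProduct GrothLib.DualCx22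
open IsLocalRing (maximalIdeal)

attribute [local instance] HasDerivedCategory.standard

namespace GrothLib.DualRing

/-- The homology of a shift of a ring placed in degree zero. -/
theorem subsingleton_HD_shift_inD {C : Type u} [CommRing C] (n i : ℤ) (h : n + i ≠ 0) :
    Subsingleton (Dual.HD C ((Dual.inD C C)⟦n⟧) i) := by
  haveI := GrothLib.DR.subsingleton_HD_inD (A := C) C (n + i) h
  exact (nonempty_HD_shift (Dual.inD C C) n i (n + i) rfl).some.toEquiv.subsingleton

/-- The homology of a shift of a ring placed in degree zero, in that degree. -/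
theorem nonempty_HD_shift_inD {C : Type u} [CommRing C] (n : ℤ) :
    Nonempty (Dual.HD C ((Dual.inD C C)⟦n⟧) (-n) ≃ₗ[C] C) :=
  ⟨((((DerivedCategory.homologyFunctor (ModuleCat.{u} C) 0).shiftIso n (-n) 0 (by omega)).app (Dual.inD C C)) ≪≫
    GrothLib.DR.inDHomologyIso C).toLinearEquiv⟩

/-- An object concentrated in one degree, with homology free of rank one there. -/
theorem nonempty_iso_shift_inD {C : Type u} [CommRing C] {K : Dual.D C} (n : ℤ)
    (h0 : ∀ i, n + i ≠ 0 → Subsingleton (Dual.HD C K i)) (e : Dual.HD C K (-n) ≃ₗ[C] C) :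
    Nonempty (K ≅ (Dual.inD C C)⟦n⟧) := by
  let H : ℤ → Dual.D C ⥤ ModuleCat.{u} C := fun j => DerivedCategory.homologyFunctor (ModuleCat.{u} C) j
  have hz : ∀ j, j ≠ 0 → IsZero ((H j).obj (K⟦-n⟧)) := fun j hj => by
    haveI := h0 (-n + j) (by omega)
    exact (GrothLib.DR.subsingleton_iff_isZero _).1
      ((nonempty_HD_shift K (-n) j (-n + j) rfl).some.toEquiv.subsingleton)
  haveI : (K⟦-n⟧).IsGE 0 := (DerivedCategory.isGE_iff _ _).2 fun j hj => hz j hj.ne
  haveI : (K⟦-n⟧).IsLE 0 := (DerivedCategory.isLE_iff _ _).2 fun j hj => hz j hj.ne'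
  obtain ⟨M, ⟨eM⟩⟩ := DerivedCategory.exists_iso_singleFunctor_obj_of_isGE_of_isLE (K⟦-n⟧) 0
  let e' : M ≅ ModuleCat.of C C :=
    ((DerivedCategory.singleFunctorCompHomologyFunctorIso (ModuleCat.{u} C) 0).app M).symm ≪≫
      (H 0).mapIso eM.symm ≪≫
        (((DerivedCategory.homologyFunctor (ModuleCat.{u} C) 0).shiftIso (-n) 0 (-n) (by omega)).app K) ≪≫
          e.toModuleIso
  exact ⟨(shiftShiftNeg K (-n)).symm ≪≫ (shiftFunctor (Dual.D C) (-(-n))).mapIso
    (eM ≪≫ (DerivedCategory.singleFunctor (ModuleCat.{u} C) 0).mapIso e') ≪≫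
      eqToIso (by rw [neg_neg])⟩

/-- **Invertibility is detected on a fibre**: a complex over a local ring whose base change to a field is the
field in one degree is the ring in that degree. -/
theorem nonempty_iso_shift_of_residue {C : Type u} [CommRing C] [IsLocalRing C] {K : Type u} [Field K]
    (ψ : C →+* K) (hψ : ∀ c ∈ maximalIdeal C, ψ c = 0) {E : DRing.Cx C} {b : ℤ}
    (hb : DRing.VanishesAbove E b) (hf : DRing.TermwiseFiniteFree E) (n : ℤ)
    (e : DRing.toD ((DR.bc ψ).obj E) ≅ (Dual.inD K K)⟦n⟧) :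
    Nonempty (DRing.toD E ≅ (Dual.inD C C)⟦n⟧) := by
  obtain ⟨Q, π, hπ, hQf, hQmin, hQ0⟩ := GrothLib.DR.exists_minimal_quotient E hf
  have hQb : DRing.VanishesAbove Q b := fun i hi => hQ0 i (hb i hi)
  haveI := hπ
  haveI : QuasiIso ((DR.bc ψ).map π) := GrothLib.KF.quasiIso_bc_map ψ π
    (GrothLib.KF.isKFlat_of_bounded_above E b hb fun i => haveI := (hf i).2; inferInstanceAs (Module.Flat C (E.X i)))
    (GrothLib.KF.isKFlat_of_bounded_above Q b hQb fun i => haveI := (hQf i).2; inferInstanceAs (Module.Flat C (Q.X i)))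
  letI := ψ.toAlgebra
  let G := (DR.bc ψ).obj Q
  have hd : ∀ i j, G.d i j = 0 := fun i j => by
    refine ModuleCat.ExtendScalars.hom_ext fun x => ?_
    change (1 : K) ⊗ₜ[C] (Q.d i j).hom x = 0
    refine Submodule.smul_induction_on (hQmin i j x) (fun c hc y _ => ?_) (fun y z hy hz => ?_)
    · rw [TensorProduct.tmul_smul, TensorProduct.smul_tmul', Algebra.smul_def, RingHom.algebraMap_toAlgebra, hψ c hc,
        zero_mul, TensorProduct.zero_tmul]
    · rw [TensorProduct.tmul_add, hy, hz, add_zero]
  have eH : ∀ i, Nonempty ((K ⊗[C] Q.X i) ≃ₗ[K] Dual.HD K ((Dual.inD K K)⟦n⟧) i) := fun i => by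
    let h := ShortComplex.HomologyData.ofZeros (G.sc i) (hd _ _) (hd _ _)
    exact ⟨((h.left.homologyIso : G.homology i ≅ G.X i).symm ≪≫
      ((DerivedCategory.homologyFunctorFactors (ModuleCat.{u} K) i).app G).symm ≪≫
      (DerivedCategory.homologyFunctor (ModuleCat.{u} K) i).mapIso
        ((asIso (DerivedCategory.Q.map ((DR.bc ψ).map π))).symm ≪≫ e)).toLinearEquiv⟩
  -- the terms
  have hzero : ∀ i, n + i ≠ 0 → IsZero (Q.X i) := fun i hi => by
    haveI := (hQf i).1
    haveI := (hQf i).2
    haveI := subsingleton_HD_shift_inD (C := K) n i hi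
    haveI : Subsingleton (K ⊗[C] Q.X i) := (eH i).some.toEquiv.subsingleton
    have h0 : Module.finrank C (Q.X i) = 0 := by
      rw [← Module.finrank_baseChange (R := K), Module.finrank_zero_of_subsingleton]
    haveI : IsEmpty (Module.Free.ChooseBasisIndex C (Q.X i)) := by
      rw [Module.finrank_eq_card_chooseBasisIndex] at h0
      exact Fintype.card_eq_zero_iff.1 h0
    haveI : Subsingleton (Q.X i) := (Module.Free.chooseBasis C (Q.X i)).repr.toEquiv.subsingleton
    exact ModuleCat.isZero_of_subsingleton _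
  have hone : Nonempty (Q.X (-n) ≃ₗ[C] C) := by
    haveI := (hQf (-n)).1
    haveI := (hQf (-n)).2
    obtain ⟨e1⟩ := nonempty_HD_shift_inD (C := K) n
    have h1 : Module.finrank C (Q.X (-n)) = 1 := by
      rw [← Module.finrank_baseChange (R := K), ((eH (-n)).some.trans e1).finrank_eq, Module.finrank_self]
    exact ⟨(Module.finBasisOfFinrankEq C (Q.X (-n)) h1).equivFun.trans (LinearEquiv.funUnique (Fin 1) C C)⟩
  -- conclusion
  refine nonempty_iso_shift_inD n (fun i hi => ?_) ?_
  · refine (GrothLib.DR.subsingleton_iff_isZero _).2 ?_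
    exact (((HomologicalComplex.exactAt_iff_isZero_homology Q i).1 (ShortComplex.exact_of_isZero_X₂ _ (hzero i hi))).of_iso
      ((DerivedCategory.homologyFunctorFactors (ModuleCat.{u} C) i).app Q)).of_iso
      ((DerivedCategory.homologyFunctor (ModuleCat.{u} C) i).mapIso (asIso (DerivedCategory.Q.map π)))
  · let h := ShortComplex.HomologyData.ofZeros (Q.sc (-n))
      ((hzero ((ComplexShape.up ℤ).prev (-n)) (by rw [CochainComplex.prev]; omega)).eq_of_src _ _)
      ((hzero ((ComplexShape.up ℤ).next (-n)) (by rw [CochainComplex.next]; omega)).eq_of_tgt _ _)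
    exact ((DerivedCategory.homologyFunctor (ModuleCat.{u} C) (-n)).mapIso (asIso (DerivedCategory.Q.map π)) ≪≫
      (DerivedCategory.homologyFunctorFactors (ModuleCat.{u} C) (-n)).app Q ≪≫
      (h.left.homologyIso : Q.homology (-n) ≅ Q.X (-n))).toLinearEquiv.trans hone.some

/-- A module with vanishing localization at a prime vanishes near it. -/
theorem exists_smul_eq_zero {A : Type u} [CommRing A] (q : Ideal A) [q.IsPrime] (M : Type*) [AddCommGroup M]
    [Module A M] [Module.Finite A M] (h : Subsingleton (Localization.AtPrime q ⊗[A] M)) :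
    ∃ s ∉ q, ∀ x : M, s • x = 0 := by
  have hns : (⟨q, inferInstance⟩ : PrimeSpectrum A) ∉ Module.support A M :=
    (Module.notMem_support_iff' (p := ⟨q, inferInstance⟩)).2
      ((subsingleton_tensor_localization_iff q.primeCompl (Localization.AtPrime q) M).1 h)
  rw [Module.mem_support_iff_of_finite] at hns
  obtain ⟨s, hs, hsq⟩ := SetLike.not_le_iff_exists.1 hns
  exact ⟨s, hsq, Module.mem_annihilator.1 hs⟩

/-- **Spreading out invertibility.** -/
theorem exists_away_iso_shift {A : Type u} [CommRing A] [IsNoetherianRing A] (K : Dual.D A)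
    (hfin : ∀ i, Module.Finite A (Dual.HD A K i)) (s : Finset ℤ) (hs : ∀ i ∉ s, Subsingleton (Dual.HD A K i))
    (q : Ideal A) [q.IsPrime] [PreservesFiniteLimits (bcMod (A := A) (Localization.AtPrime q))]
    [∀ f : A, PreservesFiniteLimits (bcMod (A := A) (Localization.Away f))] (n : ℤ)
    (e : (bcD (A := A) (Localization.AtPrime q)).obj K ≅ (Dual.inD (Localization.AtPrime q) (Localization.AtPrime q))⟦n⟧) :
    ∃ f, f ∉ q ∧ Nonempty ((bcD (A := A) (Localization.Away f)).obj K ≅
      (Dual.inD (Localization.Away f) (Localization.Away f))⟦n⟧) := by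
  classical
  let S := Localization.AtPrime q
  have eH : ∀ i, Nonempty (Dual.HD S ((Dual.inD S S)⟦n⟧) i ≃ₗ[S] S ⊗[A] Dual.HD A K i) := fun i => by
    obtain ⟨e1⟩ := nonempty_HD_bcD_equiv (A := A) S K i
    exact ⟨((DerivedCategory.homologyFunctor (ModuleCat.{u} S) i).mapIso e).toLinearEquiv.symm.trans e1⟩
  have hk : ∀ i, n + i ≠ 0 → ∃ t ∉ q, ∀ x : Dual.HD A K i, t • x = 0 := fun i hi => by
    haveI := hfin i
    haveI := subsingleton_HD_shift_inD (C := S) n i hi
    exact exists_smul_eq_zero q _ ((eH i).some.symm.toEquiv.subsingleton)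
  choose t ht htk using hk
  haveI := hfin (-n)
  haveI : Module.FinitePresentation A (Dual.HD A K (-n)) := Module.finitePresentation_of_finite A _
  obtain ⟨e0⟩ := nonempty_HD_shift_inD (C := S) n
  let eS : S ⊗[A] Dual.HD A K (-n) ≃ₗ[S] S := (eH (-n)).some.symm.trans e0
  haveI : Module.Free S (S ⊗[A] Dual.HD A K (-n)) := Module.Free.of_equiv eS.symm
  obtain ⟨r, hr, hrfree, hrk⟩ := Module.FinitePresentation.exists_free_localizedModule_powers q.primeCompl
    (TensorProduct.mk A S (Dual.HD A K (-n)) 1) S
  rw [eS.finrank_eq, Module.finrank_self] at hrk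
  obtain ⟨e1n⟩ := nonempty_HD_bcD_equiv (A := A) (Localization.Away (r * ∏ i ∈ s, if h : n + i ≠ 0 then t i h else 1)) K (-n)
  let g : A := ∏ i ∈ s, if h : n + i ≠ 0 then t i h else 1
  have hg : g ∉ q := fun hq => by
    obtain ⟨i, -, hi⟩ := (‹q.IsPrime›.prod_mem_iff).1 hq
    split_ifs at hi with h
    · exact ht i h hi
    · exact (q.ne_top_iff_one).1 ‹q.IsPrime›.ne_top hi
  refine ⟨r * g, q.primeCompl.mul_mem hr hg, ?_⟩
  let B := Localization.Away (r * g)
  have hu : IsUnit (algebraMap A B g) :=
    isUnit_of_dvd_unit (map_dvd _ (dvd_mul_left g r)) (IsLocalization.Away.algebraMap_isUnit (r * g))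
  have hur : IsUnit (algebraMap A B r) :=
    isUnit_of_dvd_unit (map_dvd _ (dvd_mul_right r g)) (IsLocalization.Away.algebraMap_isUnit (r * g))
  refine nonempty_iso_shift_inD n (fun i hi => ?_) ?_
  · obtain ⟨e1⟩ := nonempty_HD_bcD_equiv (A := A) B K i
    by_cases his : i ∈ s
    swap
    · haveI := hs i his
      exact e1.toEquiv.subsingleton
    have hkill : ∀ x : Dual.HD A K i, g • x = 0 := fun x => by
      obtain ⟨c, hc⟩ := Finset.dvd_prod_of_mem (fun i => if h : n + i ≠ 0 then t i h else 1) his
      rw [show g = (if h : n + i ≠ 0 then t i h else 1) * c from hc, dif_pos hi, mul_comm, mul_smul, htk i hi x,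
        smul_zero]
    haveI : Subsingleton (B ⊗[A] Dual.HD A K i) := by
      refine subsingleton_of_forall_eq 0 fun z => ?_
      induction z using TensorProduct.induction_on with
      | zero => rfl
      | tmul b x =>
        obtain ⟨v, hv⟩ := hu
        rw [show b = g • ((↑v⁻¹ : B) * b) by
          rw [Algebra.smul_def, ← hv, Units.mul_inv_cancel_left], TensorProduct.smul_tmul, hkill, TensorProduct.tmul_zero]
      | add a b ha hb => rw [ha, hb, add_zero]
    exact e1.toEquiv.subsingleton
  · haveI := hrfree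
    haveI : Module.Finite (Localization.Away r) (LocalizedModule.Away r (Dual.HD A K (-n))) :=
      Module.Finite.of_isLocalizedModule (Submonoid.powers r) (LocalizedModule.mkLinearMap (Submonoid.powers r) _)
    haveI : Nontrivial (Localization.Away r) :=
      (IsLocalization.Away.lift (S := Localization.Away r) r
        (IsLocalization.map_units S (⟨r, hr⟩ : q.primeCompl))).domain_nontrivial
    let eR : LocalizedModule.Away r (Dual.HD A K (-n)) ≃ₗ[Localization.Away r] Localization.Away r :=
      (Module.finBasisOfFinrankEq _ _ hrk).equivFun.trans (LinearEquiv.funUnique (Fin 1) _ _)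
    let eT : Localization.Away r ⊗[A] Dual.HD A K (-n) ≃ₗ[Localization.Away r] Localization.Away r :=
      (LocalizedModule.equivTensorProduct (Submonoid.powers r) (Dual.HD A K (-n))).symm.trans eR
    letI : Algebra (Localization.Away r) B := (IsLocalization.Away.lift r hur).toAlgebra
    haveI : IsScalarTower A (Localization.Away r) B :=
      IsScalarTower.of_algebraMap_eq fun a => (IsLocalization.Away.lift_eq r hur a).symm
    exact e1n.trans ((TensorProduct.AlgebraTensorModule.cancelBaseChange A (Localization.Away r) B B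
      (Dual.HD A K (-n))).symm.trans
        ((TensorProduct.AlgebraTensorModule.congr (LinearEquiv.refl B B) eT).trans
          (TensorProduct.AlgebraTensorModule.rid (Localization.Away r) B B)))

end GrothLib.DualRing
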