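import Groth.Agent.Lib.DualRing.Shift
import Groth.Agent.Lib.Depth.Basic
import Groth.Agent.Lib.Depth.Transfer

/-! # The lowest cohomology module of a dualizing complex -/

set_option autoImplicit false
set_option linter.style.haveILetI false
universe u

open CategoryTheory CategoryTheory.Limits Pretriangulated

attribute [local instance] HasDerivedCategory.standard

namespace GrothLib.DualRing

variable {A : Type u} [CommRing A]

/-- The truncation triangle of an object whose lowest cohomology is in degree `j`. -/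
theorem exists_bottom_triangle (K : Dual.D A) (j : ℤ) (hv : ∀ i, i < j → Subsingleton (Dual.HD A K i)) :
    ∃ T : Triangle (Dual.D A), T ∈ (distTriang (Dual.D A)) ∧ T.obj₂ = K ∧
      Nonempty (T.obj₁ ≅ (Dual.inD A (Dual.HD A K j))⟦-j⟧) ∧ T.obj₃.IsGE (j + 1) := by
  let H := fun i => DerivedCategory.homologyFunctor (ModuleCat.{u} A) i
  let t : Triangulated.TStructure (Dual.D A) := DerivedCategory.TStructure.t
  have hT := t.triangleLTGE_distinguished (j + 1) K
  let U := (t.truncLT (j + 1)).obj K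
  refine ⟨_, hT, rfl, ?_, ?_⟩
  · haveI : U.IsGE j := by
      rw [DerivedCategory.isGE_iff]
      intro i hi
      haveI := GrothLib.DerTrunc.isIso_homology_truncLTι K (j + 1) i (by omega)
      exact ((GrothLib.DR.subsingleton_iff_isZero _).1 (hv i hi)).of_iso
        (asIso ((H i).map ((t.truncLTι (j + 1)).app K)))
    haveI : U.IsLE j := by
      rw [DerivedCategory.isLE_iff]
      exact fun i hi => GrothLib.DerTrunc.isZero_homology_truncLT K (j + 1) i (by omega)
    obtain ⟨M, ⟨e⟩⟩ := DerivedCategory.exists_iso_singleFunctor_obj_of_isGE_of_isLE U j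
    haveI := GrothLib.DerTrunc.isIso_homology_truncLTι K (j + 1) j (by omega)
    let e' : M ≅ (H j).obj K :=
      ((DerivedCategory.singleFunctorCompHomologyFunctorIso (ModuleCat.{u} A) j).app M).symm ≪≫
        (H j).mapIso e.symm ≪≫ asIso ((H j).map ((t.truncLTι (j + 1)).app K))
    exact ⟨e ≪≫ (DerivedCategory.singleFunctor (ModuleCat.{u} A) j).mapIso e' ≪≫ GrothLib.DR.singleIsoShift j _⟩
  · rw [DerivedCategory.isGE_iff]
    exact fun i hi => GrothLib.DerTrunc.isZero_homology_truncGE K (j + 1) i hi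

variable [IsLocalRing A] [IsNoetherianRing A] {ω : Dual.D A}

/-- The lowest cohomology module of a dualizing complex over a local ring has depth at least
`min 2 dim`. -/
theorem min_two_supportDim_le_depth (hω : Dual.IsDualizing A ω) (j : ℤ)
    (hv : ∀ i, i < j → Subsingleton (Dual.HD A ω i)) :
    min (2 : WithBot ℕ∞) (Module.supportDim A (Dual.HD A ω j)) ≤
      ((LocCoh.depth A (Dual.HD A ω j) : ℕ∞) : WithBot ℕ∞) := by
  let m := IsLocalRing.maximalIdeal A
  let c := deg hω m
  haveI := hω.finite_cohomology j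
  have hω' := isDualizing_shift hω c
  have hn : Dual.IsNormalized A (ω⟦c⟧) := isNormalized_shift hω
  have hle : Module.supportDim A (Dual.HD A ω j) ≤ ((c - j).toNat : WithBot ℕ∞) := by
    have h := supportDim_EH_le hω' hn A (j - c)
    rw [Module.supportDim_eq_of_equiv ((exists_hom_ring_equiv (ω⟦c⟧) (j - c)).some ≪≫ₗ
      (nonempty_HD_shift ω c (j - c) j (by omega)).some), show -(j - c) = c - j by omega] at h
    exact h
  refine (min_le_min_left _ hle).trans ?_
  obtain ⟨n, hn2, hnc, heq⟩ : ∃ n : ℕ, n ≤ 2 ∧ n ≤ (c - j).toNat ∧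
      min (2 : WithBot ℕ∞) ((c - j).toNat : WithBot ℕ∞) = ((n : ℕ∞) : WithBot ℕ∞) :=
    ⟨min 2 (c - j).toNat, min_le_left _ _, min_le_right _ _, by norm_cast⟩
  rw [heq, WithBot.coe_le_coe]
  refine (GrothLib.Depth.le_idealDepth_iff_ext _ n).2 fun i hi => ?_
  obtain ⟨T, hT, hT₂, ⟨e₁⟩, h₃⟩ := exists_bottom_triangle ω j hv
  let k : Dual.D A := Dual.inD A (A ⧸ m)
  have h1 : Subsingleton (k ⟶ T.obj₁⟦j + i⟧) := by
    refine subsingleton_of_forall_eq 0 fun φ => ?_
    have hT' := inv_rot_of_distTriang _ (Triangle.shift_distinguished T hT (j + i))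
    have h2 : Subsingleton (k ⟶ T.obj₂⟦j + i⟧) := by
      rw [hT₂]
      haveI : Subsingleton (EH (ω⟦c⟧) k (j + i - c)) := hn _ (by omega)
      exact (shiftTarget ω k c (j + i - c) (j + i) (by omega)).symm.toEquiv.subsingleton
    obtain ⟨g, hg⟩ := Triangle.coyoneda_exact₂ _ hT' φ (h2.elim _ _)
    have hg0 : g = 0 := by
      haveI := h₃
      have hk : DerivedCategory.TStructure.t.IsLE k 0 := inferInstanceAs ((Dual.inD A (A ⧸ m)).IsLE 0)
      haveI : DerivedCategory.TStructure.t.IsGE T.obj₃ (j + 1) := h₃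
      haveI := DerivedCategory.TStructure.t.isGE_shift T.obj₃ (j + 1) (j + i) (1 - i) (by omega)
      have h4 : DerivedCategory.TStructure.t.IsGE ((T.obj₃⟦j + (i : ℤ)⟧)⟦(-1 : ℤ)⟧) (2 - i) :=
        DerivedCategory.TStructure.t.isGE_shift _ (1 - i) (-1) (2 - i) (by omega)
      exact DerivedCategory.TStructure.t.zero_of_isLE_of_isGE g 0 (2 - i) (by omega) hk h4
    rw [hg, hg0]
    exact zero_comp
  let e : T.obj₁⟦j + (i : ℤ)⟧ ≅ (Dual.inD A (Dual.HD A ω j))⟦(i : ℤ)⟧ :=
    (shiftFunctor _ _).mapIso e₁ ≪≫ ((shiftFunctorAdd' (Dual.D A) (-j) (j + i) i (by omega)).app _).symm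
  haveI : Subsingleton (k ⟶ (Dual.inD A (Dual.HD A ω j))⟦(i : ℤ)⟧) :=
    (Linear.homCongr A (Iso.refl k) e).symm.toEquiv.subsingleton
  exact Abelian.Ext.homEquiv.subsingleton

end GrothLib.DualRing
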