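import Groth.Agent.Lib.DualRing.Locus
import Groth.Agent.Lib.OX.AffineLocal
import Groth.Agent.Lib.LiaisonCM.Basic
import Groth.Prelude.Def_DualSch

/-! # The Cohen–Macaulay locus of a scheme with a dualizing complex -/

set_option autoImplicit false
set_option linter.style.haveILetI false
universe u

open CategoryTheory CategoryTheory.Limits AlgebraicGeometry TopologicalSpace GrothLib.OX

attribute [local instance] HasDerivedCategory.standard

namespace GrothLib.DualRing

/-- Stalks of an associated sheaf. -/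
theorem nontrivial_tilde_stalk_iff {R : CommRingCat.{u}} (M : ModuleCat.{u} R) (p : PrimeSpectrum R) :
    Nontrivial ((tilde M).presheaf.stalk p) ↔ p ∈ Module.support R M := by
  rw [Module.mem_support_iff]
  exact (IsLocalizedModule.iso p.asIdeal.primeCompl (tilde.toStalk M p).hom).toEquiv.nontrivial_congr.symm

variable {X : Scheme.{u}} [IsLocallyNoetherian X]
  [∀ (U : Scheme.{u}) (j : U ⟶ X) [IsOpenImmersion j], PreservesFiniteLimits (Scheme.Modules.restrictFunctor j)]
  [∀ (R : CommRingCat.{u}), PreservesFiniteLimits (tilde.functor R)]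
  {ω : DCoh.D X}

/-- The local picture of a dualizing complex. -/
theorem exists_chart (hω : Dual2.IsDualizingSch X ω) {A : CommRingCat.{u}} (j : Spec A ⟶ X) [IsOpenImmersion j] :
    ∃ ωA : Dual.D A, Dual.IsDualizing A ωA ∧
      (∀ (i : ℤ) (p : PrimeSpectrum A),
        Nontrivial ((DCoh.HD ω i).presheaf.stalk (j p)) ↔ p ∈ Module.support A (Dual.HD A ωA i)) ∧
      ∀ p : PrimeSpectrum A, LocCoh.IsCohenMacaulayLocalRing (X.presheaf.stalk (j p)) ↔
        LocCoh.IsCohenMacaulayLocalRing (Localization.AtPrime p.asIdeal) := by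
  obtain ⟨ωA, hωA, ⟨e⟩⟩ := hω A j
  refine ⟨ωA, hωA, fun i p => ?_, fun p => ?_⟩
  · let t : (Scheme.Modules.restrictFunctor j).obj (DCoh.HD ω i) ≅
        (tilde.functor A).obj ((DerivedCategory.homologyFunctor (ModuleCat.{u} A) i).obj ωA) :=
      (HDResIso j ω i).symm ≪≫ (DerivedCategory.homologyFunctor _ i).mapIso e ≪≫ HDTildeIso (R := A) ωA i
    rw [← nontrivial_tilde_stalk_iff (R := A) _ p]
    refine (AddEquiv.toEquiv (Iso.addCommGroupIsoToAddEquiv (?_ : (DCoh.HD ω i).presheaf.stalk (j p) ≅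
      (tilde ((DerivedCategory.homologyFunctor (ModuleCat.{u} A) i).obj ωA)).presheaf.stalk p))).nontrivial_congr
    exact ((Scheme.Modules.restrictStalkNatIso j p).app (DCoh.HD ω i)).symm ≪≫
      (Scheme.Modules.toPresheaf (Spec A) ⋙ TopCat.Presheaf.stalkFunctor Ab.{u} p).mapIso t
  · let e' : X.presheaf.stalk (j p) ≃+* Localization.AtPrime p.asIdeal :=
      (asIso (j.stalkMap p)).commRingCatIsoToRingEquiv.trans (StructureSheaf.stalkIso A p).symm.toRingEquiv
    exact ⟨fun h => LiaisonCM.cm_of_ringEquiv e' (h := h), fun h => LiaisonCM.cm_of_ringEquiv e'.symm (h := h)⟩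

omit [IsLocallyNoetherian X]
  [∀ (U : Scheme.{u}) (j : U ⟶ X) [IsOpenImmersion j], PreservesFiniteLimits (Scheme.Modules.restrictFunctor j)]
  [∀ (R : CommRingCat.{u}), PreservesFiniteLimits (tilde.functor R)] in
theorem isCM_iff_existsUnique {A : Type u} [CommRing A] [IsNoetherianRing A] {ωA : Dual.D A}
    (hω : Dual.IsDualizing A ωA) (p : PrimeSpectrum A) :
    LocCoh.IsCohenMacaulayLocalRing (Localization.AtPrime p.asIdeal) ↔
      ∃! i : ℤ, p ∈ Module.support A (Dual.HD A ωA i) := by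
  rw [isCM_iff_support hω p]
  refine ⟨fun h => ?_, fun ⟨i₀, _, h⟩ i j hi hj => (h i hi).trans (h j hj).symm⟩
  obtain ⟨ω', hω', he⟩ := exists_localized hω p
  obtain ⟨i, hi⟩ := DualCx22.exists_nontrivial_HD hω'
  exact ⟨i, (nontrivial_HD_iff_mem_support hω p (he i).some).1 hi,
    fun j hj => h j i hj ((nontrivial_HD_iff_mem_support hω p (he i).some).1 hi)⟩

theorem isCM_stalk_iff_and_isOpen (hω : Dual2.IsDualizingSch X ω) :
    (∀ x : X, LocCoh.IsCohenMacaulayLocalRing (X.presheaf.stalk x) ↔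
        ∃! i : ℤ, Nontrivial ((DCoh.HD ω i).presheaf.stalk x)) ∧
      IsOpen {x : X | LocCoh.IsCohenMacaulayLocalRing (X.presheaf.stalk x)} := by
  have chart : ∀ x : X, ∃ (A : CommRingCat.{u}) (j : Spec A ⟶ X) (_ : IsOpenImmersion j) (p : PrimeSpectrum A),
      j p = x ∧ IsNoetherianRing A := by
    intro x
    obtain ⟨U, hU, hx, -⟩ := exists_isAffineOpen_mem_and_subset (x := x) (U := ⊤) trivial
    obtain ⟨p, hp⟩ := mem_range_fromSpec hU hx
    have : IsLocallyNoetherian (Spec Γ(X, U)) := LocallyOfFiniteType.isLocallyNoetherian hU.fromSpec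
    exact ⟨_, hU.fromSpec, inferInstance, p, hp, isLocallyNoetherian_Spec.1 inferInstance⟩
  refine ⟨fun x => ?_, isOpen_iff_forall_mem_open.2 fun x hx => ?_⟩
  · obtain ⟨A, j, _, p, rfl, _⟩ := chart x
    obtain ⟨ωA, hωA, h1, h2⟩ := exists_chart hω j
    rw [h2, isCM_iff_existsUnique hωA]
    exact existsUnique_congr fun i => (h1 i p).symm
  · obtain ⟨A, j, _, p, rfl, _⟩ := chart x
    obtain ⟨ωA, hωA, -, h2⟩ := exists_chart hω j
    refine ⟨j '' {q | LocCoh.IsCohenMacaulayLocalRing (Localization.AtPrime q.asIdeal)}, ?_, ?_, ⟨p, (h2 p).1 hx, rfl⟩⟩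
    · rintro _ ⟨q, hq, rfl⟩
      exact (h2 q).2 hq
    · exact j.isOpenEmbedding.isOpenMap _ (isOpen_CMLocus hωA)

end GrothLib.DualRing
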