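import Groth.Agent.Lib.DualRing.SchemeCover
import Groth.Agent.Lib.DualRing.Bottom
import Groth.Agent.Lib.DualRing.SchemeLocus
import Groth.Agent.Lib.SkExt.Localized
import Groth.Agent.Lib.QCoh.Affine
import Groth.Agent.Lib.FlatFP.Sheaf
import Groth.Agent.Lib.SkLift5.Basic
import Groth.Agent.Lib.Ref1.Connected
import Groth.Agent.S2054

/-! # The stalks of the lowest cohomology sheaf of a dualizing complex -/

set_option autoImplicit false
set_option linter.style.haveILetI false
set_option maxHeartbeats 1000000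
universe u

open CategoryTheory CategoryTheory.Limits AlgebraicGeometry Opposite GrothLib.OX IsLocalRing

attribute [local instance] HasDerivedCategory.standard

namespace GrothLib.DualRing

open GrothLib.SkExt (SkCond skCond_localization)

section Localization

/-- The `(S_k)` inequality at a prime of a localisation, for any localised module. -/
theorem skCond_iff_of_isLocalizedModule {R T : Type u} [CommRing R] [IsNoetherianRing R] [CommRing T] [Algebra R T]
    (S : Submonoid R) [IsLocalization S T] {M N : Type u} [AddCommGroup M] [Module R M] [Module.Finite R M]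
    [AddCommGroup N] [Module R N] [Module T N] [IsScalarTower R T N] (g : M →ₗ[R] N) [IsLocalizedModule S g]
    (k : ℕ) (Q : Ideal T) [Q.IsPrime] :
    SkCond k N Q ↔ SkCond k M (Q.comap (algebraMap R T)) := by
  let TQ := Localization.AtPrime Q
  let q := Q.comap (algebraMap R T)
  let Rq := Localization.AtPrime q
  let NQ := LocalizedModule Q.primeCompl N
  haveI : IsNoetherianRing T := IsLocalization.isNoetherianRing S _ inferInstance
  haveI : IsNoetherianRing TQ := IsLocalization.isNoetherianRing Q.primeCompl _ inferInstance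
  haveI : IsLocalization.AtPrime TQ q :=
    IsLocalization.isLocalization_isLocalization_atPrime_isLocalization S TQ Q
  haveI : Module.Finite T N := Module.Finite.of_isLocalizedModule S g
  haveI : Module.Finite TQ NQ := Module.Finite.of_isLocalizedModule Q.primeCompl (LocalizedModule.mkLinearMap Q.primeCompl N)
  haveI : Module.Finite Rq (LocalizedModule q.primeCompl M) :=
    Module.Finite.of_isLocalizedModule q.primeCompl (LocalizedModule.mkLinearMap q.primeCompl M)
  haveI : IsScalarTower R TQ NQ := IsScalarTower.of_algebraMap_smul fun r x => by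
    rw [IsScalarTower.algebraMap_apply R T TQ, algebraMap_smul, algebraMap_smul]
  let f : M →ₗ[R] NQ := (LocalizedModule.mkLinearMap Q.primeCompl N).restrictScalars R ∘ₗ g
  haveI : IsLocalizedModule q.primeCompl f := by
    refine (isLocalizedModule_iff_isBaseChange q.primeCompl TQ f).2 ?_
    exact (IsLocalizedModule.isBaseChange S T g).comp (IsLocalizedModule.isBaseChange Q.primeCompl TQ _)
  let e : LocalizedModule q.primeCompl M ≃ₗ[R] NQ := IsLocalizedModule.iso q.primeCompl f
  let σ : Rq ≃ₐ[R] TQ := IsLocalization.algEquiv q.primeCompl _ _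
  have he : ∀ (r : Rq) (x : LocalizedModule q.primeCompl M), e (r • x) = σ r • e x := fun r x => by
    obtain ⟨a, s, rfl⟩ := IsLocalization.exists_mk'_eq q.primeCompl r
    apply ((IsLocalization.map_units TQ s).smul_left_cancel).1
    have h1 : algebraMap R Rq (s : R) * IsLocalization.mk' Rq a s = algebraMap R Rq a :=
      IsLocalization.mk'_spec' _ a s
    calc algebraMap R TQ s • e (IsLocalization.mk' Rq a s • x)
        = (s : R) • e (IsLocalization.mk' Rq a s • x) := algebraMap_smul _ _ _
      _ = e ((s : R) • IsLocalization.mk' Rq a s • x) := (e.map_smul _ _).symm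
      _ = e (a • x) := by rw [← algebraMap_smul Rq (s : R) (IsLocalization.mk' Rq a s • x), smul_smul, h1,
            algebraMap_smul]
      _ = a • e x := e.map_smul _ _
      _ = σ (algebraMap R Rq a) • e x := by rw [σ.commutes, algebraMap_smul]
      _ = _ := by rw [← h1, map_mul, σ.commutes, mul_smul]
  unfold GrothLib.SkExt.SkCond
  rw [← GrothLib.SkExt.supportDim_congr_semilinear σ.toRingEquiv e.toAddEquiv he,
    ← GrothLib.SkExt.depth_congr_semilinear σ.toRingEquiv e.toAddEquiv he]

/-- Localised torsion-free modules are torsion-free. -/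
theorem isTorsionFree_of_isLocalizedModule {R T : Type u} [CommRing R] [IsDomain R] [CommRing T] [IsDomain T]
    [Algebra R T] (S : Submonoid R) (hS : S ≤ nonZeroDivisors R) [IsLocalization S T] {M N : Type u} [AddCommGroup M] [Module R M]
    [Module.IsTorsionFree R M] [AddCommGroup N] [Module R N] [Module T N] [IsScalarTower R T N] (g : M →ₗ[R] N)
    [IsLocalizedModule S g] : Module.IsTorsionFree T N := by
  rw [Module.isTorsionFree_iff_smul_eq_zero]
  intro c v hcv
  obtain ⟨⟨a, s⟩, hs⟩ := IsLocalization.surj S c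
  obtain ⟨⟨m, t⟩, ht⟩ := IsLocalizedModule.surj S g v
  rw [Submonoid.smul_def] at ht
  have h1 : a • v = 0 := by
    rw [← algebraMap_smul T a v, ← hs, mul_comm, mul_smul, hcv, smul_zero]
  have h2 : g (a • m) = 0 := by rw [map_smul, ← ht, smul_comm, h1, smul_zero]
  obtain ⟨⟨u, hu⟩, hum⟩ := (IsLocalizedModule.eq_zero_iff S g).1 h2
  rcases smul_eq_zero.1 hum with h | h
  · exact absurd h (nonZeroDivisors.ne_zero (hS hu))
  rcases smul_eq_zero.1 h with h | h
  · left
    rw [h, map_zero] at hs
    exact (mul_eq_zero.1 hs).resolve_right (IsLocalization.map_units T s).ne_zero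
  · right
    rw [h, map_zero] at ht
    rw [← algebraMap_smul T (t : R) v] at ht
    exact (IsLocalization.map_units T t).smul_eq_zero.1 ht

end Localization

section Ring

variable {A : Type u} [CommRing A] [IsNoetherianRing A] {ω : Dual.D A} (hω : Dual.IsDualizing A ω)
include hω

/-- The lowest cohomology module of a dualizing complex satisfies `(S₂)`. -/
theorem skCond_two_bottom (n : ℤ) (hv : ∀ i, i < n → Subsingleton (Dual.HD A ω i)) (p : Ideal A) [p.IsPrime] :
    SkCond 2 (Dual.HD A ω n) p := by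
  let M := Dual.HD A ω n
  let Ap := Localization.AtPrime p
  haveI : IsNoetherianRing Ap := IsLocalization.isNoetherianRing p.primeCompl _ inferInstance
  haveI := hω.finite_cohomology n
  obtain ⟨ω', hω', he⟩ := exists_localized hω ⟨p, inferInstance⟩
  have hv' : ∀ i, i < n → Subsingleton (Dual.HD Ap ω' i) := fun i hi => by
    haveI := hv i hi
    haveI : Subsingleton (TensorProduct A Ap (Dual.HD A ω i)) :=
      subsingleton_of_forall_eq 0 fun t => by
        induction t using TensorProduct.induction_on with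
        | zero => rfl
        | tmul a b => rw [Subsingleton.elim b 0, TensorProduct.tmul_zero]
        | add a b ha hb => rw [ha, hb, add_zero]
    exact (he i).some.toEquiv.subsingleton
  let e : Dual.HD Ap ω' n ≃ₗ[Ap] LocalizedModule p.primeCompl M :=
    (he n).some.trans (IsLocalizedModule.isBaseChange p.primeCompl Ap
      (LocalizedModule.mkLinearMap p.primeCompl M)).equiv
  have h := min_two_supportDim_le_depth hω' n hv'
  rw [Module.supportDim_eq_of_equiv e,
    show LocCoh.depth Ap (Dual.HD Ap ω' n) = LocCoh.depth Ap (LocalizedModule p.primeCompl M) from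
      haveI := hω'.finite_cohomology n
      GrothLib.Depth.idealDepth_eq_of_equiv _ e] at h
  exact h

theorem hasSk_two_bottom_localized (n : ℤ) (hv : ∀ i, i < n → Subsingleton (Dual.HD A ω i)) (p : Ideal A) [p.IsPrime] :
    LocCoh.HasSk 2 (Localization.AtPrime p) (LocalizedModule p.primeCompl (Dual.HD A ω n)) := fun Q _ => by
  haveI := hω.finite_cohomology n
  exact (skCond_localization 2 _ p Q).2 (skCond_two_bottom hω n hv _)

/-- Over a domain the cohomology lives above the degree of the generic point. -/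
theorem deg_bot_le_of_nontrivial [IsDomain A] {i : ℤ} (h : Nontrivial (Dual.HD A ω i)) :
    haveI : (⊥ : Ideal A).IsPrime := Ideal.isPrime_bot
    deg hω (⊥ : Ideal A) ≤ i := by
  haveI : (⊥ : Ideal A).IsPrime := Ideal.isPrime_bot
  obtain ⟨q, hq⟩ := (Module.nonempty_support_iff (R := A) (M := Dual.HD A ω i)).2 h
  rw [Module.mem_support_iff, nontrivial_localized_iff] at hq
  rw [← len_congr (exists_hom_ring_equiv ω i).some] at hq
  obtain ⟨r, _, -, -, h1, -⟩ := exists_quotient_bounds hω A (q := q.asIdeal) hq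
  have hle : (⊥ : Ideal A) ≤ r := bot_le
  rcases hle.eq_or_lt with h0 | h0
  · subst h0; exact h1
  · exact (deg_lt hω h0).le.trans h1

theorem bot_mem_support_deg_bot [IsDomain A] :
    haveI : (⊥ : Ideal A).IsPrime := Ideal.isPrime_bot
    (⟨⊥, Ideal.isPrime_bot⟩ : PrimeSpectrum A) ∈ Module.support A (Dual.HD A ω (deg hω (⊥ : Ideal A))) := by
  haveI : (⊥ : Ideal A).IsPrime := Ideal.isPrime_bot
  rw [Module.mem_support_iff, nontrivial_localized_iff, ← len_congr (exists_hom_ring_equiv ω _).some]
  have := GrothLib.SkExt.mem_support_EH_of_minimal hω A (r := ⟨⊥, Ideal.isPrime_bot⟩)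
    (Module.mem_support_iff_of_finite.2 (by rw [Module.annihilator_eq_bot.2 inferInstance]))
    (fun s _ hle => le_antisymm hle bot_le)
  rwa [Module.mem_support_iff, nontrivial_localized_iff] at this

/-- Over a domain the lowest cohomology module has no nonzero torsion, provided it is nonzero at the
generic point. -/
theorem isTorsionFree_bottom [IsDomain A] (n : ℤ) (hv : ∀ i, i < n → Subsingleton (Dual.HD A ω i))
    (h0 : (⟨⊥, Ideal.isPrime_bot⟩ : PrimeSpectrum A) ∈ Module.support A (Dual.HD A ω n)) :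
    Module.IsTorsionFree A (Dual.HD A ω n) := by
  let M := Dual.HD A ω n
  haveI := hω.finite_cohomology n
  have hass : ∀ q ∈ associatedPrimes A M, q = ⊥ := by
    intro q hq
    haveI := IsAssociatedPrime.isPrime hq
    by_contra hne
    haveI : IsNoetherianRing (Localization.AtPrime q) := IsLocalization.isNoetherianRing q.primeCompl _ inferInstance
    have h1 := skCond_two_bottom hω n hv q
    have h2 : LocCoh.depth (Localization.AtPrime q) (LocalizedModule q.primeCompl M) = 0 := by
      haveI : Module.Finite (Localization.AtPrime q) (LocalizedModule q.primeCompl M) :=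
        Module.Finite.of_isLocalizedModule q.primeCompl (LocalizedModule.mkLinearMap q.primeCompl M)
      refine CMBasics.depth_eq_zero_iff.2 ?_
      have := (Module.associatedPrimes.preimage_comap_associatedPrimes_eq_associatedPrimes_of_isLocalizedModule
        q.primeCompl (Localization.AtPrime q) (LocalizedModule.mkLinearMap q.primeCompl M))
      have hm : (IsLocalRing.maximalIdeal (Localization.AtPrime q)) ∈
          (Ideal.comap (algebraMap A (Localization.AtPrime q))) ⁻¹' associatedPrimes A M := by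
        show (IsLocalRing.maximalIdeal (Localization.AtPrime q)).comap (algebraMap A (Localization.AtPrime q)) ∈ associatedPrimes A M
        rwa [show (IsLocalRing.maximalIdeal (Localization.AtPrime q)).comap
          (algebraMap A (Localization.AtPrime q)) = q from IsLocalization.AtPrime.comap_maximalIdeal _ q]
      rwa [this] at hm
    have hlt : (⟨⊥, Ideal.isPrime_bot⟩ : PrimeSpectrum A) < ⟨q, inferInstance⟩ := lt_of_le_of_ne bot_le
      (fun h => hne (congrArg PrimeSpectrum.asIdeal h).symm)
    have h3 : (1 : WithBot ℕ∞) ≤ Module.supportDim (Localization.AtPrime q) (LocalizedModule q.primeCompl M) := by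
      rw [GrothLib.SkLift5.supportDim_localized_eq_height q (Module.mem_support_mono hlt.le h0)]
      refine WithBot.coe_le_coe.2 ?_
      refine le_trans ?_ (Order.height_add_one_le (a := (⟨⟨⊥, Ideal.isPrime_bot⟩, h0⟩ : Module.support A M))
        (b := ⟨⟨q, inferInstance⟩, Module.mem_support_mono hlt.le h0⟩) hlt)
      exact le_add_self
    rw [SkCond, h2] at h1
    rcases le_total ((2 : ℕ) : WithBot ℕ∞) (Module.supportDim (Localization.AtPrime q) (LocalizedModule q.primeCompl M)) with h4 | h4
    · rw [min_eq_left h4] at h1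
      exact absurd (WithBot.coe_le_coe.1 h1) (by decide)
    · rw [min_eq_right h4] at h1
      exact absurd (WithBot.coe_le_coe.1 (h3.trans h1)) (by decide)
  rw [Module.isTorsionFree_iff_smul_eq_zero]
  intro c m hcm
  by_contra! hne
  have hU := biUnion_associatedPrimes_eq_zero_divisors A M
  have : c ∈ ⋃ q ∈ associatedPrimes A M, (q : Set A) := by rw [hU]; exact ⟨m, hne.2, hcm⟩
  obtain ⟨q, hq, hcq⟩ := Set.mem_iUnion₂.1 this
  rw [hass q hq] at hcq
  exact hne.1 hcq

end Ring

variable {X : Scheme.{u}} [IsLocallyNoetherian X]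
  [∀ (U : Scheme.{u}) (j : U ⟶ X) [IsOpenImmersion j], PreservesFiniteLimits (Scheme.Modules.restrictFunctor j)]
  [∀ (R : CommRingCat.{u}), PreservesFiniteLimits (tilde.functor R)]
  {K : DCoh.D X}

/-- The cohomology sheaves of a dualizing complex at a point, in terms of an affine chart. -/
theorem exists_canon_chart (hK : Dual2.IsDualizingSch X K) (n : ℤ) (hlt : ∀ i : ℤ, i < n → IsZero (DCoh.HD K i))
    (U : X.Opens) (hU : IsAffineOpen U) :
    ∃ ωA : Dual.D Γ(X, U), Dual.IsDualizing Γ(X, U) ωA ∧ (∀ i, i < n → Subsingleton (Dual.HD Γ(X, U) ωA i)) ∧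
      ∀ (x : X) (hx : x ∈ U),
      letI := X.presheaf.algebra_section_stalk ⟨x, hx⟩
      letI : Module Γ(X, U) ((DCoh.HD K n).presheaf.stalk x) := Module.compHom _ (X.presheaf.germ U x hx).hom
      ∃ g : Dual.HD Γ(X, U) ωA n →ₗ[Γ(X, U)] (DCoh.HD K n).presheaf.stalk x,
        IsLocalizedModule (WeakAss.primeAt x hx).primeCompl g := by
  let A := Γ(X, U)
  let j := hU.fromSpec
  obtain ⟨ωA, hωA, ⟨e⟩⟩ := hK A j
  let H := fun i => (DerivedCategory.homologyFunctor (ModuleCat.{u} A) i).obj ωA
  let t := fun i => ((HDResIso j K i).symm ≪≫ (DerivedCategory.homologyFunctor _ i).mapIso e ≪≫ HDTildeIso (R := A) ωA i :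
      (Scheme.Modules.restrictFunctor j).obj (DCoh.HD K i) ≅ (tilde.functor A).obj (H i))
  have hqc : DCoh.IsQCohD K := isQCohD_of_dualCharts fun y => by
    obtain ⟨V, hV, hy, -⟩ := exists_isAffineOpen_mem_and_subset (x := y) (U := ⊤) trivial
    obtain ⟨ω', h1, h2⟩ := hK Γ(X, V) hV.fromSpec
    exact ⟨Γ(X, V), inferInstance, hV.fromSpec, inferInstance, by rw [hV.range_fromSpec]; exact hy, ω', h1, h2⟩
  haveI : (DCoh.HD K n).IsQuasicoherent := hqc n
  -- the sections over `U`
  let s : Γ((DCoh.HD K n).restrict j, ⊤) ≅ _ := Iso.refl _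
  let L : (moduleSpecΓFunctor (R := A)).obj ((Scheme.Modules.restrictFunctor j).obj (DCoh.HD K n)) ≅ H n :=
    (moduleSpecΓFunctor (R := A)).mapIso (t n) ≪≫ (tilde.toTildeΓNatIso.app (H n)).symm
  let E : Γ(DCoh.HD K n, U) ≃+ H n :=
    (QCoh.secIso hU (DCoh.HD K n) ⊤ (QCoh.image_top hU)).symm.trans L.toLinearEquiv.toAddEquiv
  have hE : ∀ (g : A) (z : Γ(DCoh.HD K n, U)), E (g • z) = g • E z := fun g z => by
    obtain ⟨w, rfl⟩ := (QCoh.secIso hU (DCoh.HD K n) ⊤ (QCoh.image_top hU)).surjective z
    show L.toLinearEquiv ((QCoh.secIso hU _ ⊤ _).symm (g • _)) = g • L.toLinearEquiv ((QCoh.secIso hU _ ⊤ _).symm _)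
    rw [← QCoh.secIso_top_smul, AddEquiv.symm_apply_apply, AddEquiv.symm_apply_apply]
    exact map_smul L.toLinearEquiv g w
  refine ⟨ωA, hωA, fun i hi => ?_, fun x hx => ?_⟩
  · have h : IsZero ((tilde.functor A).obj (H i)) :=
      ((Scheme.Modules.restrictFunctor j).map_isZero (hlt i hi)).of_iso (t i).symm
    refine ModuleCat.subsingleton_of_isZero ((IsZero.iff_id_eq_zero (H i)).2 ((tilde.functor A).map_injective ?_))
    exact h.eq_of_src _ _
  letI := X.presheaf.algebra_section_stalk ⟨x, hx⟩
  haveI := FlatFP.isLocalization_stalk_primeAt hU hx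
  letI : Module A ((DCoh.HD K n).presheaf.stalk x) := Module.compHom _ (X.presheaf.germ U x hx).hom
  haveI : IsScalarTower A (X.presheaf.stalk x) ((DCoh.HD K n).presheaf.stalk x) :=
    IsScalarTower.of_algebraMap_smul fun _ _ => rfl
  let P := (WeakAss.primeAt x hx).primeCompl
  obtain ⟨g, hg, -⟩ := FlatFP.isLocalizedModule_germ (F := DCoh.HD K n) hU hx
  let El : Γ(DCoh.HD K n, U) ≃ₗ[A] H n := { E with map_smul' := hE }
  exact ⟨g ∘ₗ El.symm.toLinearMap, IsLocalizedModule.of_linearEquiv_right P g El.symm⟩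

theorem skAt_two_bottom (hK : Dual2.IsDualizingSch X K) (n : ℤ) (hlt : ∀ i : ℤ, i < n → IsZero (DCoh.HD K i))
    (x : X) : LocCoh.HasSk 2 (X.presheaf.stalk x) ((DCoh.HD K n).presheaf.stalk x) := by
  obtain ⟨U, hU', hx, -⟩ := exists_isAffineOpen_mem_and_subset (x := x) (U := ⊤) trivial
  have hU : IsAffineOpen U := hU'
  haveI : IsNoetherianRing Γ(X, U) := IsLocallyNoetherian.component_noetherian ⟨U, hU⟩
  letI := X.presheaf.algebra_section_stalk ⟨x, hx⟩
  haveI := FlatFP.isLocalization_stalk_primeAt hU hx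
  letI : Module Γ(X, U) ((DCoh.HD K n).presheaf.stalk x) := Module.compHom _ (X.presheaf.germ U x hx).hom
  haveI : IsScalarTower Γ(X, U) (X.presheaf.stalk x) ((DCoh.HD K n).presheaf.stalk x) :=
    IsScalarTower.of_algebraMap_smul fun _ _ => rfl
  obtain ⟨ωA, hω, hv, hg⟩ := exists_canon_chart hK n hlt U hU
  obtain ⟨g, _⟩ := hg x hx
  haveI := hω.finite_cohomology n
  intro Q _
  exact (skCond_iff_of_isLocalizedModule (WeakAss.primeAt x hx).primeCompl g 2 Q).2 (skCond_two_bottom hω n hv _)

omit [∀ (U : Scheme.{u}) (j : U ⟶ X) [IsOpenImmersion j], PreservesFiniteLimits (Scheme.Modules.restrictFunctor j)]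
  [∀ (R : CommRingCat.{u}), PreservesFiniteLimits (tilde.functor R)] [IsLocallyNoetherian X] in
theorem primeAt_genericPoint [IsIntegral X] {U : X.Opens} (hη : genericPoint X ∈ U) :
    WeakAss.primeAt (genericPoint X) hη = ⊥ := by
  haveI : Nonempty U := ⟨⟨_, hη⟩⟩
  show Ideal.comap _ (IsLocalRing.maximalIdeal X.functionField) = ⊥
  rw [IsLocalRing.maximalIdeal_eq_bot]
  exact (RingHom.injective_iff_ker_eq_bot _).1 (germ_injective_of_isIntegral X _ hη)

theorem bot_mem_support_bottom [IsIntegral X] (hK : Dual2.IsDualizingSch X K) (n : ℤ)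
    (hlt : ∀ i : ℤ, i < n → IsZero (DCoh.HD K i)) (hn : ¬ IsZero (DCoh.HD K n)) :
    Nontrivial ((DCoh.HD K n).presheaf.stalk (genericPoint X)) := by
  obtain ⟨y, hy⟩ : ∃ y, Nontrivial ((DCoh.HD K n).presheaf.stalk y) := by
    by_contra! h
    refine hn ((OX.isZero_iff _).2 fun y => ?_)
    exact @ModuleCat.isZero_of_subsingleton _ _ _ (h y)
  obtain ⟨U, hU', hyU, -⟩ := exists_isAffineOpen_mem_and_subset (x := y) (U := ⊤) trivial
  have hU : IsAffineOpen U := hU'
  haveI : IsNoetherianRing Γ(X, U) := IsLocallyNoetherian.component_noetherian ⟨U, hU⟩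
  haveI : Nonempty U := ⟨⟨_, hyU⟩⟩
  have hη : genericPoint X ∈ U := (genericPoint_spec X).mem_open_set_iff U.2 |>.2 (by simpa using ⟨y, hyU⟩)
  obtain ⟨ωA, hω, hv, hg⟩ := exists_canon_chart hK n hlt U hU
  have hnt : Nontrivial (Dual.HD Γ(X, U) ωA n) := by
    letI := X.presheaf.algebra_section_stalk ⟨y, hyU⟩
    letI : Module Γ(X, U) ((DCoh.HD K n).presheaf.stalk y) := Module.compHom _ (X.presheaf.germ U y hyU).hom
    obtain ⟨g, _⟩ := hg y hyU
    by_contra hs
    haveI := not_nontrivial_iff_subsingleton.1 hs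
    refine not_subsingleton ((DCoh.HD K n).presheaf.stalk y) ?_
    exact (IsLocalizedModule.iso (WeakAss.primeAt y hyU).primeCompl g).symm.toEquiv.subsingleton
  haveI : (⊥ : Ideal Γ(X, U)).IsPrime := Ideal.isPrime_bot
  have hmem := bot_mem_support_deg_bot hω
  have hd : deg hω (⊥ : Ideal Γ(X, U)) = n := by
    refine le_antisymm (deg_bot_le_of_nontrivial hω hnt) (not_lt.1 fun h => ?_)
    haveI := hv _ h
    rw [Module.support_eq_empty_iff.2 inferInstance] at hmem
    exact hmem
  rw [hd] at hmem
  letI := X.presheaf.algebra_section_stalk ⟨genericPoint X, hη⟩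
  letI : Module Γ(X, U) ((DCoh.HD K n).presheaf.stalk (genericPoint X)) :=
    Module.compHom _ (X.presheaf.germ U (genericPoint X) hη).hom
  obtain ⟨g, _⟩ := hg (genericPoint X) hη
  haveI : Nontrivial (LocalizedModule (WeakAss.primeAt (genericPoint X) hη).primeCompl (Dual.HD Γ(X, U) ωA n)) := by
    have h : (⟨WeakAss.primeAt (genericPoint X) hη, inferInstance⟩ : PrimeSpectrum Γ(X, U)) = ⟨⊥, inferInstance⟩ :=
      PrimeSpectrum.ext (primeAt_genericPoint hη)
    exact Module.mem_support_iff.1 (h ▸ hmem :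
      (⟨WeakAss.primeAt (genericPoint X) hη, inferInstance⟩ : PrimeSpectrum Γ(X, U)) ∈ Module.support _ _)
  exact (IsLocalizedModule.iso (WeakAss.primeAt (genericPoint X) hη).primeCompl g).symm.toEquiv.nontrivial

theorem isTorsionFree_stalk_bottom [IsIntegral X] (hK : Dual2.IsDualizingSch X K) (n : ℤ)
    (hlt : ∀ i : ℤ, i < n → IsZero (DCoh.HD K i)) (hn : ¬ IsZero (DCoh.HD K n)) (x : X) :
    Module.IsTorsionFree (X.presheaf.stalk x) ((DCoh.HD K n).presheaf.stalk x) := by
  obtain ⟨U, hU', hx, -⟩ := exists_isAffineOpen_mem_and_subset (x := x) (U := ⊤) trivial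
  have hU : IsAffineOpen U := hU'
  haveI : IsNoetherianRing Γ(X, U) := IsLocallyNoetherian.component_noetherian ⟨U, hU⟩
  haveI : Nonempty U := ⟨⟨_, hx⟩⟩
  have hη : genericPoint X ∈ U := (genericPoint_spec X).mem_open_set_iff U.2 |>.2 (by simpa using ⟨x, hx⟩)
  obtain ⟨ωA, hω, hv, hg⟩ := exists_canon_chart hK n hlt U hU
  haveI := hω.finite_cohomology n
  haveI : (⊥ : Ideal Γ(X, U)).IsPrime := Ideal.isPrime_bot
  have hd : (⟨⊥, inferInstance⟩ : PrimeSpectrum Γ(X, U)) ∈ Module.support Γ(X, U) (Dual.HD Γ(X, U) ωA n) := by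
    haveI := bot_mem_support_bottom hK n hlt hn
    letI := X.presheaf.algebra_section_stalk ⟨genericPoint X, hη⟩
    letI : Module Γ(X, U) ((DCoh.HD K n).presheaf.stalk (genericPoint X)) :=
      Module.compHom _ (X.presheaf.germ U (genericPoint X) hη).hom
    obtain ⟨g, _⟩ := hg (genericPoint X) hη
    have h : (⟨WeakAss.primeAt (genericPoint X) hη, inferInstance⟩ : PrimeSpectrum Γ(X, U)) = ⟨⊥, inferInstance⟩ :=
      PrimeSpectrum.ext (primeAt_genericPoint hη)
    rw [← h, Module.mem_support_iff]
    exact (IsLocalizedModule.iso (WeakAss.primeAt (genericPoint X) hη).primeCompl g).toEquiv.nontrivial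
  letI := X.presheaf.algebra_section_stalk ⟨x, hx⟩
  haveI := FlatFP.isLocalization_stalk_primeAt hU hx
  letI : Module Γ(X, U) ((DCoh.HD K n).presheaf.stalk x) := Module.compHom _ (X.presheaf.germ U x hx).hom
  haveI : IsScalarTower Γ(X, U) (X.presheaf.stalk x) ((DCoh.HD K n).presheaf.stalk x) :=
    IsScalarTower.of_algebraMap_smul fun _ _ => rfl
  obtain ⟨g, _⟩ := hg x hx
  haveI := isTorsionFree_bottom hω n hv hd
  exact isTorsionFree_of_isLocalizedModule (WeakAss.primeAt x hx).primeCompl
    (Ideal.primeCompl_le_nonZeroDivisors _) g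

/-- On a normal connected scheme the lowest cohomology sheaf of a dualizing complex is reflexive. -/
theorem isReflexive_stalk_bottom [IsIntegral X] (hX : Pi1.IsNormalScheme X) (hK : Dual2.IsDualizingSch X K) (n : ℤ)
    (hlt : ∀ i : ℤ, i < n → IsZero (DCoh.HD K i)) (hn : ¬ IsZero (DCoh.HD K n)) (x : X) :
    Module.IsReflexive (X.presheaf.stalk x) ((DCoh.HD K n).presheaf.stalk x) := by
  haveI := (hX x).2
  obtain ⟨U, hU', hx, -⟩ := exists_isAffineOpen_mem_and_subset (x := x) (U := ⊤) trivial
  have hU : IsAffineOpen U := hU'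
  haveI : IsNoetherianRing Γ(X, U) := IsLocallyNoetherian.component_noetherian ⟨U, hU⟩
  letI := X.presheaf.algebra_section_stalk ⟨x, hx⟩
  haveI := FlatFP.isLocalization_stalk_primeAt hU hx
  letI : Module Γ(X, U) ((DCoh.HD K n).presheaf.stalk x) := Module.compHom _ (X.presheaf.germ U x hx).hom
  haveI : IsScalarTower Γ(X, U) (X.presheaf.stalk x) ((DCoh.HD K n).presheaf.stalk x) :=
    IsScalarTower.of_algebraMap_smul fun _ _ => rfl
  obtain ⟨ωA, hω, hv, hg⟩ := exists_canon_chart hK n hlt U hU
  obtain ⟨g, _⟩ := hg x hx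
  haveI := hω.finite_cohomology n
  haveI : Module.Finite (X.presheaf.stalk x) ((DCoh.HD K n).presheaf.stalk x) :=
    Module.Finite.of_isLocalizedModule (WeakAss.primeAt x hx).primeCompl g
  haveI := isTorsionFree_stalk_bottom hK n hlt hn x
  exact Groth.Agent.S2054.result.2 ⟨⟨fun h => smul_eq_zero.1 h⟩, skAt_two_bottom hK n hlt x⟩

end GrothLib.DualRing
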