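import Groth.Agent.S11179

/-! # The ring as its own dualizing complex -/

set_option autoImplicit false
set_option linter.style.haveILetI false
universe u

open CategoryTheory CategoryTheory.Limits

attribute [local instance] HasDerivedCategory.standard

namespace GrothLib.DualRing

/-- A Noetherian ring of finite injective dimension over itself is its own dualizing complex. -/
theorem isDualizing_self_of_injDim (A : Type u) [CommRing A] [IsNoetherianRing A]
    (h : ∃ n : ℕ, HasInjectiveDimensionLT (ModuleCat.of A A) n) : Dual.IsDualizing A (Dual.inD A A) := by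
  letI := CategoryTheory.HasExt.standard (ModuleCat.{u} A)
  have hneg : ∀ (M : Type u) [AddCommGroup M] [Module A M] (i : ℤ), i < 0 →
      Subsingleton (Dual.inD A M ⟶ (Dual.inD A A)⟦i⟧) := by
    intro M _ _ i hi
    refine ⟨fun f g => ?_⟩
    have h1 : DerivedCategory.TStructure.t.IsLE (Dual.inD A M) 0 := inferInstanceAs ((Dual.inD A M).IsLE 0)
    have h2 : DerivedCategory.TStructure.t.IsGE ((Dual.inD A A)⟦i⟧) (-i) := by
      haveI : DerivedCategory.TStructure.t.IsGE (Dual.inD A A) 0 := inferInstanceAs ((Dual.inD A A).IsGE 0)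
      exact DerivedCategory.TStructure.t.isGE_shift _ 0 i (-i) (by omega)
    have hz := fun φ : Dual.inD A M ⟶ (Dual.inD A A)⟦i⟧ =>
      DerivedCategory.TStructure.t.zero_of_isLE_of_isGE φ 0 (-i) (by omega) h1 h2
    exact (hz f).trans (hz g).symm
  obtain ⟨n, hn⟩ := h
  refine ⟨inferInstance, ⟨0, n, ?_⟩, ?_, ?_, ?_⟩
  · intro M _ _ i hi
    rcases hi with hi | hi
    · exact hneg M i hi
    · obtain ⟨k, rfl⟩ := Int.eq_ofNat_of_zero_le (show 0 ≤ i by omega)
      haveI : Subsingleton (Abelian.Ext (ModuleCat.of A M) (ModuleCat.of A A) k) :=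
        HasInjectiveDimensionLT.subsingleton (ModuleCat.of A A) n k (by omega) _
      exact Abelian.Ext.homEquiv.symm.subsingleton
  · intro i
    by_cases hi : i = 0
    · subst hi
      haveI : Module.Finite A ↑((𝟭 (ModuleCat.{u} A)).obj (ModuleCat.of A A)) := inferInstanceAs (Module.Finite A A)
      exact Module.Finite.equiv
        ((DerivedCategory.singleFunctorCompHomologyFunctorIso (ModuleCat.{u} A) 0).app
          (ModuleCat.of A A)).toLinearEquiv.symm
    · have hz : Limits.IsZero ((DerivedCategory.homologyFunctor (ModuleCat.{u} A) i).obj (Dual.inD A A)) := by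
        rcases lt_or_gt_of_ne hi with h | h
        · exact DerivedCategory.isZero_of_isGE _ 0 i h
        · exact DerivedCategory.isZero_of_isLE _ 0 i h
      haveI := ModuleCat.subsingleton_of_isZero hz
      exact Module.Finite.of_finite
  · let F := DerivedCategory.singleFunctor (ModuleCat.{u} A) 0
    constructor
    · intro a b hab
      have h : F.map (a • 𝟙 (ModuleCat.of A A)) = F.map (b • 𝟙 (ModuleCat.of A A)) := by
        rw [F.map_smul, F.map_smul, F.map_id]
        exact hab
      simpa using LinearMap.congr_fun (congrArg ModuleCat.Hom.hom (F.map_injective h)) (1 : A)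
    · intro φ
      obtain ⟨f, rfl⟩ := F.map_surjective φ
      refine ⟨f.hom (1 : A), ?_⟩
      have hf : f = (f.hom (1 : A)) • 𝟙 (ModuleCat.of A A) :=
        ModuleCat.hom_ext (LinearMap.ext_ring (show f.hom (1 : A) = (f.hom (1 : A)) * 1 from (mul_one _).symm))
      exact ((congrArg F.map hf).trans ((F.map_smul _ _).trans (congrArg _ (F.map_id _)))).symm
  · intro i hi
    rcases lt_or_gt_of_ne hi with h | h
    · exact hneg A i h
    · obtain ⟨k, rfl⟩ := Int.eq_ofNat_of_zero_le (show 0 ≤ i by omega)
      obtain ⟨j, rfl⟩ : ∃ j, k = j + 1 := ⟨k - 1, by omega⟩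
      haveI : Projective (ModuleCat.of A A) := (IsProjective.iff_projective (R := A) A).1 inferInstance
      haveI : Subsingleton (Abelian.Ext (ModuleCat.of A A) (ModuleCat.of A A) (j + 1)) :=
        subsingleton_of_forall_eq 0 fun e => Abelian.Ext.eq_zero_of_projective e
      exact Abelian.Ext.homEquiv.symm.subsingleton

end GrothLib.DualRing
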