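import Groth.Agent.Lib.DualRing.Hom
import Groth.Agent.Lib.DCxRing.Basic
import Groth.Agent.Lib.DCxRHom.HomCx
import Mathlib.Algebra.Homology.ShortComplex.ModuleCat

/-! # The cohomology of complexes of homomorphisms into K-injective complexes -/

set_option autoImplicit false
universe u

open CategoryTheory CategoryTheory.Limits CochainComplex CochainComplex.HomComplex

attribute [local instance] HasDerivedCategory.standard

namespace GrothLib.DualRing

variable {A : Type u} [CommRing A]

theorem equivHomShift_symm_smul {K I : DRing.Cx A} {n : ℤ} (a : A) (z : Cocycle K I n) (w : Cocycle K I n)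
    (hw : w.1 = a • z.1) : Cocycle.equivHomShift.symm w = a • Cocycle.equivHomShift.symm z := by
  refine HomologicalComplex.hom_ext _ _ fun p => ?_
  rw [HomologicalComplex.smul_f_apply, Cocycle.equivHomShift_symm_apply, Cocycle.equivHomShift_symm_apply,
    Cocycle.homOf_f, Cocycle.homOf_f, Cocycle.rightShift_coe, Cocycle.rightShift_coe, hw,
    Cochain.rightShift_smul, Cochain.smul_v]

/-- The morphism in `D(A)` of a cocycle. -/
noncomputable def cocycleHom (K I : DRing.Cx A) (n : ℤ) (z : Cocycle K I n) : DRing.toD K ⟶ (DRing.toD I)⟦n⟧ :=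
  DerivedCategory.Q.map (Cocycle.equivHomShift.symm z) ≫ (DerivedCategory.Q.commShiftIso n).hom.app I

theorem Qmap_bijective_of_kInjective (K J : DRing.Cx A) [J.IsKInjective] :
    Function.Bijective (fun f : (HomotopyCategory.quotient (ModuleCat.{u} A) (ComplexShape.up ℤ)).obj K ⟶
      (HomotopyCategory.quotient (ModuleCat.{u} A) (ComplexShape.up ℤ)).obj J =>
        (DerivedCategory.quotientCompQhIso (ModuleCat.{u} A)).inv.app K ≫ DerivedCategory.Qh.map f ≫
          (DerivedCategory.quotientCompQhIso (ModuleCat.{u} A)).hom.app J) :=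
  ((Iso.homCongr ((DerivedCategory.quotientCompQhIso (ModuleCat.{u} A)).app K)
    ((DerivedCategory.quotientCompQhIso (ModuleCat.{u} A)).app J)).bijective).comp
      (CochainComplex.IsKInjective.Qh_map_bijective _ J)

theorem cocycleHom_eq (K I : DRing.Cx A) (n : ℤ) (z : Cocycle K I n) :
    cocycleHom K I n z = ((DerivedCategory.quotientCompQhIso (ModuleCat.{u} A)).inv.app K ≫
      DerivedCategory.Qh.map (CohomologyClass.toHom (CohomologyClass.mk z)) ≫
        (DerivedCategory.quotientCompQhIso (ModuleCat.{u} A)).hom.app _) ≫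
          (DerivedCategory.Q.commShiftIso n).hom.app I := by
  rw [CohomologyClass.toHom_mk, cocycleHom]
  refine congrArg (· ≫ _) ?_
  refine Eq.trans ?_ (congrArg (_ ≫ ·) ((DerivedCategory.quotientCompQhIso (ModuleCat.{u} A)).hom.naturality _)).symm
  rw [Iso.inv_hom_id_app_assoc]

theorem cocycleHom_eq_zero_iff (K I : DRing.Cx A) [I.IsKInjective] (n : ℤ) (z : Cocycle K I n) :
    cocycleHom K I n z = 0 ↔ z ∈ coboundaries K I n := by
  rw [← CohomologyClass.toHom_mk_eq_zero_iff, cocycleHom_eq]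
  constructor
  · intro h
    apply (Qmap_bijective_of_kInjective K (I⟦n⟧)).1
    rw [← cancel_mono ((DerivedCategory.Q.commShiftIso n).hom.app I), h]
    simp
  · intro h
    rw [h]
    simp

theorem cocycleHom_surjective (K I : DRing.Cx A) [I.IsKInjective] (n : ℤ) :
    Function.Surjective (cocycleHom K I n) := by
  intro φ
  obtain ⟨f, hf⟩ := (Qmap_bijective_of_kInjective K (I⟦n⟧)).2 (φ ≫ (DerivedCategory.Q.commShiftIso n).inv.app I)
  obtain ⟨c, rfl⟩ := (CohomologyClass.toHom_bijective K I n).2 f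
  obtain ⟨z, rfl⟩ := c.mk_surjective
  refine ⟨z, ?_⟩
  rw [cocycleHom_eq]
  refine (congrArg (· ≫ _) hf).trans ?_
  rw [Category.assoc, Iso.inv_hom_id_app]
  exact Category.comp_id _

/-- Cocycles to morphisms, as a linear map. -/
noncomputable def cocycleLin (K I : DRing.Cx A) (n : ℤ) :
    LinearMap.ker ((DRing.homCx K I).d n (n + 1)).hom →ₗ[A] (DRing.toD K ⟶ (DRing.toD I)⟦n⟧) where
  toFun z := cocycleHom K I n (Cocycle.mk z.1 (n + 1) rfl z.2)
  map_add' z w := by
    rw [show Cocycle.mk (z + w).1 (n + 1) rfl (z + w).2 = Cocycle.mk z.1 (n + 1) rfl z.2 + Cocycle.mk w.1 (n + 1) rfl w.2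
      from Subtype.ext rfl, cocycleHom, map_add, Functor.map_add, Preadditive.add_comp]
    rfl
  map_smul' a z := by
    rw [cocycleHom, equivHomShift_symm_smul a (Cocycle.mk z.1 (n + 1) rfl z.2) (Cocycle.mk (a • z).1 (n + 1) rfl (a • z).2) rfl,
      Functor.map_smul, Linear.smul_comp]
    rfl

/-- `Hⁿ(Hom(K, I)) = Hom_D(K, I⟦n⟧)` for K-injective `I`. -/
theorem exists_HD_homCx_equiv (K I : DRing.Cx A) [I.IsKInjective] (n : ℤ) :
    Nonempty (Dual.HD A (DRing.toD (DRing.homCx K I)) n ≃ₗ[A] (DRing.toD K ⟶ (DRing.toD I)⟦n⟧)) := by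
  let S := (DRing.homCx K I).sc' (n - 1) n (n + 1)
  have hsurj : Function.Surjective (cocycleLin K I n) := fun φ => by
    obtain ⟨z, hz⟩ := cocycleHom_surjective K I n φ
    exact ⟨⟨z.1, z.δ_eq_zero (n + 1)⟩, hz⟩
  have hker : LinearMap.range S.moduleCatToCycles = LinearMap.ker (cocycleLin K I n) := by
    ext z
    change z ∈ LinearMap.range S.moduleCatToCycles ↔ cocycleHom K I n (Cocycle.mk z.1 (n + 1) rfl z.2) = 0
    refine Iff.trans ?_ (cocycleHom_eq_zero_iff K I n _).symm
    rw [mem_coboundaries_iff _ (n - 1) (by omega)]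
    exact ⟨fun ⟨b, hb⟩ => ⟨b, congrArg Subtype.val hb⟩, fun ⟨b, hb⟩ => ⟨b, Subtype.ext hb⟩⟩
  exact ⟨((GrothLib.DR.homologyIso (DRing.homCx K I) n ≪≫
      ShortComplex.homologyMapIso ((DRing.homCx K I).isoSc' (n - 1) n (n + 1) (by simp) (by simp)) ≪≫
      S.moduleCatHomologyIso).toLinearEquiv).trans
    ((Submodule.quotEquivOfEq _ _ hker).trans ((cocycleLin K I n).quotKerEquivOfSurjective hsurj))⟩

end GrothLib.DualRing
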