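import Groth.Agent.Lib.DualRing.ShriekFinite
import Groth.Agent.Lib.DCxRing.RestrictTor
import Groth.Agent.Lib.PerfHom.Perfect
import Groth.Agent.Lib.PerfHom.Examples
import Groth.Agent.Lib.DCxRHom.Rep
import Groth.Agent.Lib.DualCx22.HomDerived
import Mathlib.RingTheory.TensorProduct.MvPolynomial

/-! # The relative dualizing complex of a flat algebra -/

set_option autoImplicit false
set_option linter.style.haveILetI false
set_option maxHeartbeats 400000
universe u

open CategoryTheory CategoryTheory.Limits GrothLib.DualCx22 TensorProduct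

attribute [local instance] HasDerivedCategory.standard

namespace GrothLib.DualRing.Shriek

/-- The dual of a perfect algebra is perfect over the base. -/
theorem isPerfect_restrictD_RA_self {P A : Type u} [CommRing P] [CommRing A] [Algebra P A]
    (h : DRing.IsPerfectModule P A) :
    DRing.IsPerfect P ((DRing.restrictD (algebraMap P A)).obj ((RA (algebraMap P A)).obj (Dual.inD P P))) := by
  obtain ⟨E, a, b, hv, hE, ⟨e⟩⟩ := h
  haveI : E.IsKProjective := DR.isKProjective E b (fun i hi => hv i (Or.inr hi)) (fun i => (hE i).2)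
  obtain ⟨eB⟩ := restrictScalarsAlgebraIso (P := P) A
  let eS : DRing.toD (srcCx (algebraMap P A)) ≅ Dual.inD P A :=
    ((DerivedCategory.singleFunctorIsoCompQ (ModuleCat.{u} P) 0).app _).symm ≪≫
      (DerivedCategory.singleFunctor (ModuleCat.{u} P) 0).mapIso eB
  obtain ⟨f, hf⟩ := DR.exists_lift E (e ≪≫ eS.symm).hom
  haveI : QuasiIso f := (DerivedCategory.isIso_Q_map_iff_quasiIso (ModuleCat.{u} P) f).1 (by rw [hf]; infer_instance)
  obtain ⟨I, hI, ⟨eI⟩⟩ := RH.exists_kInjective_rep (Dual.inD P P)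
  haveI := RH.quasiIso_homCxPre f I
  let e1 : DRing.toD (RH.oneCx P) ≅ Dual.inD P P :=
    ((DerivedCategory.singleFunctorIsoCompQ (ModuleCat.{u} P) 0).app _).symm
  obtain ⟨u, hu⟩ := Q_map_surjective_kInj (RH.oneCx P) I (e1 ≪≫ eI).hom
  replace hu : DerivedCategory.Q.map u = (e1 ≪≫ eI).hom := hu
  haveI : QuasiIso u := (DerivedCategory.isIso_Q_map_iff_quasiIso (ModuleCat.{u} P) u).1 (by rw [hu]; infer_instance)
  haveI := RH.quasiIso_homCxMap_of_isKProjective E u
  obtain ⟨eR⟩ := nonempty_coI_iso (algebraMap P A) I (RA (algebraMap P A)) (radj (algebraMap P A))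
  let i : DRing.toD (DRing.homCx E (RH.oneCx P)) ≅
      (DRing.restrictD (algebraMap P A)).obj ((RA (algebraMap P A)).obj (Dual.inD P P)) :=
    asIso (DerivedCategory.Q.map (DRing.homCxMap E u)) ≪≫
      (asIso (DerivedCategory.Q.map (RH.homCxPre f I))).symm ≪≫ resCoIsoD (algebraMap P A) I ≪≫
      (DRing.restrictD (algebraMap P A)).mapIso (eR ≪≫ (RA (algebraMap P A)).mapIso eI.symm)
  exact ⟨_, -b, -a, fun j hj => RH.vanishesOutside_dual hv j hj, fun j => RH.termwiseFiniteProjective_dual hE j, ⟨i⟩⟩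

attribute [local instance] pfl_of_flat

/-- The relative dualizing complex is perfect relative to the base. -/
theorem isRelPerfect_GP {R A : Type u} [CommRing R] [CommRing A] [IsNoetherianRing R] [Algebra R A] [Module.Flat R A]
    [Algebra.FinitePresentation R A] {n : ℕ} (ψ : MvPolynomial (Fin n) R →ₐ[R] A) (hψ : Function.Surjective ψ) :
    DRing.IsPseudoCoherent' A (GP ψ (Dual.inD R R)) ∧
      DRing.HasFiniteTorDimCx R ((DRing.restrictD (algebraMap R A)).obj (GP ψ (Dual.inD R R))) := by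
  letI : Algebra (MvPolynomial (Fin n) R) A := ψ.toRingHom.toAlgebra
  have hA : DRing.IsPerfectModule (MvPolynomial (Fin n) R) A :=
    PHom.isPerfectModule_pres PHom.isPerfectHom_of_flat ψ hψ
  obtain ⟨eb⟩ := DR.nonempty_map_inD (bcMod (A := R) (MvPolynomial (Fin n) R)) R
  let eP : (bcD (A := R) (MvPolynomial (Fin n) R)).obj (Dual.inD R R) ≅
      Dual.inD (MvPolynomial (Fin n) R) (MvPolynomial (Fin n) R) :=
    (bcD (A := R) (MvPolynomial (Fin n) R)).mapIso (DCpl.eSingle (ModuleCat.of R R)) ≪≫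
      (bcMod (A := R) (MvPolynomial (Fin n) R)).mapDerivedCategoryFactors.app _ ≪≫ eb ≪≫
      (DerivedCategory.singleFunctor (ModuleCat.{u} (MvPolynomial (Fin n) R)) 0).mapIso
        ((DR.nonempty_extendScalars_iso (B := MvPolynomial (Fin n) R) R).some.symm ≪≫
          (TensorProduct.AlgebraTensorModule.rid R (MvPolynomial (Fin n) R) (MvPolynomial (Fin n) R)).toModuleIso)
  have hK : DRing.IsPerfect (MvPolynomial (Fin n) R)
      ((DRing.restrictD ψ.toRingHom).obj (GP ψ (Dual.inD R R))) := by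
    obtain ⟨E, a, b, hv, hE, ⟨e⟩⟩ := DR.isPerfect_shift (isPerfect_restrictD_RA_self hA) (n : ℤ)
    exact ⟨E, a, b, hv, hE, ⟨e ≪≫ (((DRing.restrictD ψ.toRingHom).commShiftIso (n : ℤ)).app _).symm ≪≫
      (DRing.restrictD ψ.toRingHom).mapIso
        ((shiftFunctor (Dual.D A) (n : ℤ)).mapIso ((RA ψ.toRingHom).mapIso eP.symm))⟩⟩
  obtain ⟨hpc, a, b, ht⟩ := DR.isPerfect_iff.1 hK
  refine ⟨(DR.isPseudoCoherent'_restrictD_iff (DR.ringPseudoCoherent_algebraMap (DR.isPerfect_iff.1 hA).1) _).2 hpc,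
    a, b, ?_⟩
  obtain ⟨eT⟩ := restrictScalarsAlgebraIso (P := R) (MvPolynomial (Fin n) R)
  have h0 := DR.hasTorAmplitudeIn_restrictD (algebraMap R (MvPolynomial (Fin n) R)) 0 (DR.hasTorAmplitudeIn_of_iso
    ((DerivedCategory.singleFunctor (ModuleCat.{u} R) 0).mapIso eT).symm
    (by simpa using DR.hasTorAmplitudeIn_flat (A := R) (MvPolynomial (Fin n) R))) ht
  exact DR.hasTorAmplitudeIn_of_iso ((resTrans (algebraMap R A) ψ.toRingHom (algebraMap R (MvPolynomial (Fin n) R))
    ψ.comp_algebraMap.symm).app _) (by simpa using h0)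

/-- Flat base change of the upper shriek, on the left factor. -/
theorem nonempty_bc_GP {R A R' : Type u} [CommRing R] [CommRing A] [CommRing R'] [IsNoetherianRing R]
    [Algebra R A] [Algebra R R'] [Module.Flat R R'] {n : ℕ} (ψ : MvPolynomial (Fin n) R →ₐ[R] A)
    (hψ : Function.Surjective ψ) (ψb : MvPolynomial (Fin n) R' →+* A ⊗[R] R')
    (hC : ∀ r : R', ψb (MvPolynomial.C r) = (1 : A) ⊗ₜ[R] r)
    (hX : ∀ j, ψb (MvPolynomial.X j) = ψ (MvPolynomial.X j) ⊗ₜ[R] (1 : R')) (K : Dual.D R) (c : ℤ) [K.IsGE c] :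
    Nonempty ((bcD (A := A) (A ⊗[R] R')).obj (GP ψ K) ≅
      ((RA ψb).obj ((extD (algebraMap R' (MvPolynomial (Fin n) R'))).obj ((bcD (A := R) R').obj K)))⟦(n : ℤ)⟧) := by
  letI : Algebra (MvPolynomial (Fin n) R) A := ψ.toRingHom.toAlgebra
  letI : Algebra (MvPolynomial (Fin n) R) (MvPolynomial (Fin n) R') := MvPolynomial.algebraMvPolynomial
  letI : Algebra (MvPolynomial (Fin n) R') (A ⊗[R] R') := ψb.toAlgebra
  letI : Algebra R' (A ⊗[R] R') := Algebra.TensorProduct.rightAlgebra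
  haveI : IsScalarTower R (MvPolynomial (Fin n) R) A := IsScalarTower.of_algebraMap_eq' ψ.comp_algebraMap.symm
  haveI : IsScalarTower R (MvPolynomial (Fin n) R) (MvPolynomial (Fin n) R') :=
    IsScalarTower.of_algebraMap_eq fun r => (MvPolynomial.map_C _ r).symm
  haveI : IsScalarTower R' (MvPolynomial (Fin n) R') (A ⊗[R] R') :=
    IsScalarTower.of_algebraMap_eq fun r => (hC r).symm
  haveI : IsScalarTower (MvPolynomial (Fin n) R) (MvPolynomial (Fin n) R') (A ⊗[R] R') := by
    refine IsScalarTower.of_algebraMap_eq' (MvPolynomial.ringHom_ext (fun r => ?_) fun j => ?_)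
    · simp [RingHom.algebraMap_toAlgebra, hC, Algebra.TensorProduct.algebraMap_apply, Algebra.algebraMap_eq_smul_one r]
      rw [TensorProduct.smul_tmul']
    · simp [RingHom.algebraMap_toAlgebra, hX, Algebra.TensorProduct.algebraMap_apply]
  haveI : IsScalarTower R (MvPolynomial (Fin n) R') (A ⊗[R] R') := by
    refine IsScalarTower.of_algebraMap_eq fun r => ?_
    rw [IsScalarTower.algebraMap_apply R R' (MvPolynomial (Fin n) R'),
      ← IsScalarTower.algebraMap_apply R' (MvPolynomial (Fin n) R') (A ⊗[R] R'), ← IsScalarTower.algebraMap_apply]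
  have hRA : Algebra.IsPushout R A R' (A ⊗[R] R') := inferInstance
  have hpush : Algebra.IsPushout (MvPolynomial (Fin n) R) A (MvPolynomial (Fin n) R') (A ⊗[R] R') :=
    (Algebra.IsPushout.comp_iff R (MvPolynomial (Fin n) R) R' (MvPolynomial (Fin n) R')).1 hRA
  have hp : ∃ e : A ⊗[MvPolynomial (Fin n) R] MvPolynomial (Fin n) R' ≃ₗ[A] A ⊗[R] R',
      ∀ (b : A) q, e (b ⊗ₜ[MvPolynomial (Fin n) R] q) =
        algebraMap A (A ⊗[R] R') b * algebraMap (MvPolynomial (Fin n) R') (A ⊗[R] R') q :=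
    ⟨(Algebra.IsPushout.equiv _ A _ (A ⊗[R] R')).toLinearEquiv, fun b q => Algebra.IsPushout.equiv_tmul _ _ _ _ b q⟩
  haveI : Module.Flat (MvPolynomial (Fin n) R) (MvPolynomial (Fin n) R') :=
    Module.Flat.isBaseChange R (MvPolynomial (Fin n) R) R' (MvPolynomial (Fin n) R')
      (Algebra.IsPushout.symm (inferInstance : Algebra.IsPushout R R' (MvPolynomial (Fin n) R) (MvPolynomial (Fin n) R'))).out
  haveI : Module.Flat R (MvPolynomial (Fin n) R') := Module.Flat.trans R R' _
  haveI := isGE_bcD (MvPolynomial (Fin n) R) K c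
  let M := (bcD (A := R) (MvPolynomial (Fin n) R)).obj K
  haveI : Module.Finite (MvPolynomial (Fin n) R) A :=
    Module.Finite.of_surjective (Algebra.linearMap (MvPolynomial (Fin n) R) A) hψ
  haveI hi := isIso_baseChangeMap hp M fun i =>
    isBC_inD (MvPolynomial (Fin n) R') M c (i - c + 1).toNat A i (by omega)
  exact ⟨shiftBc (A ⊗[R] R') _ (n : ℤ) ≪≫ (shiftFunctor (Dual.D (A ⊗[R] R')) (n : ℤ)).mapIso
    (asIso (baseChangeMap hp M) ≪≫ (RA ψb).mapIso
      ((extTrans (algebraMap R (MvPolynomial (Fin n) R))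
          (algebraMap (MvPolynomial (Fin n) R) (MvPolynomial (Fin n) R')) (algebraMap R (MvPolynomial (Fin n) R'))
          (IsScalarTower.algebraMap_eq _ _ _)).app K ≪≫
        ((extTrans (algebraMap R R') (algebraMap R' (MvPolynomial (Fin n) R'))
          (algebraMap R (MvPolynomial (Fin n) R')) (IsScalarTower.algebraMap_eq _ _ _)).app K).symm))⟩

/-- The diagonal takes the relative dualizing complex to the algebra. -/
theorem nonempty_RA_mul_GP {R A : Type u} [CommRing R] [CommRing A] [IsNoetherianRing R] [Algebra R A]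
    [Module.Flat R A] {n : ℕ} (ψ : MvPolynomial (Fin n) R →ₐ[R] A) (hψ : Function.Surjective ψ) :
    Nonempty ((RA (Algebra.TensorProduct.lmul' R (S := A)).toRingHom).obj
      ((bcD (A := A) (A ⊗[R] A)).obj (GP ψ (Dual.inD R R))) ≅ Dual.inD A A) := by
  let ψb : MvPolynomial (Fin n) A →+* A ⊗[R] A :=
    MvPolynomial.eval₂Hom (Algebra.TensorProduct.includeRight : A →ₐ[R] A ⊗[R] A).toRingHom
      fun j => ψ (MvPolynomial.X j) ⊗ₜ[R] (1 : A)
  haveI : (Dual.inD R R).IsGE 0 := inferInstance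
  obtain ⟨e1⟩ := nonempty_bc_GP ψ hψ ψb (fun r => by simp [ψb]) (fun j => by simp [ψb]) (Dual.inD R R) 0
  let μ := (Algebra.TensorProduct.lmul' R (S := A)).toRingHom
  let s : MvPolynomial (Fin n) A →ₐ[A] A := MvPolynomial.aeval fun j => ψ (MvPolynomial.X j)
  have hs : s.toRingHom = μ.comp ψb :=
    MvPolynomial.ringHom_ext (fun r => by simp [s, μ, ψb]) (fun j => by simp [s, μ, ψb])
  let L := (bcD (A := R) A).obj (Dual.inD R R)
  obtain ⟨e2⟩ := nonempty_GP_self s L
  obtain ⟨eb⟩ := DR.nonempty_map_inD (bcMod (A := R) A) R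
  let eL : L ≅ Dual.inD A A :=
    (bcD (A := R) A).mapIso (DCpl.eSingle (ModuleCat.of R R)) ≪≫
      (bcMod (A := R) A).mapDerivedCategoryFactors.app _ ≪≫ eb ≪≫
      (DerivedCategory.singleFunctor (ModuleCat.{u} A) 0).mapIso
        ((DR.nonempty_extendScalars_iso (B := A) R).some.symm ≪≫ (TensorProduct.AlgebraTensorModule.rid R A A).toModuleIso)
  obtain ⟨es⟩ := nonempty_RA_shift μ ((RA ψb).obj ((extD (algebraMap A (MvPolynomial (Fin n) A))).obj L)) (n : ℤ)
  exact ⟨(RA μ).mapIso e1 ≪≫ es ≪≫ (shiftFunctor (Dual.D A) (n : ℤ)).mapIso ((raTrans _ _ _ hs).app _) ≪≫ e2 ≪≫ eL⟩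

end GrothLib.DualRing.Shriek
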