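import Groth.Agent.Lib.DualRing.ActTens
import Groth.Agent.Lib.DualRing.ShriekRel
import Groth.Agent.Lib.DCxRing.LBaseComp
import Mathlib.Algebra.Homology.BifunctorShift

/-! # The upper shriek is base change tensored with the relative dualizing complex -/

set_option autoImplicit false
set_option linter.style.haveILetI false
set_option maxHeartbeats 800000
universe u

open CategoryTheory CategoryTheory.Limits GrothLib.DualCx22 TensorProduct
open GrothLib.RH (tens)

attribute [local instance] HasDerivedCategory.standard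

namespace GrothLib.DualRing.Shriek

/-- A perfect algebra has a bounded resolution by finite projective modules, as a map of complexes. -/
theorem exists_eps {P A : Type u} [CommRing P] [CommRing A] (φ : P →+* A)
    (h : letI := φ.toAlgebra; DRing.IsPerfectModule P A) :
    ∃ (E : DRing.Cx P) (a b : ℤ) (ε : E ⟶ srcCx φ), DRing.TermwiseFiniteProjective E ∧
      DRing.VanishesOutside E a b ∧ QuasiIso ε := by
  letI := φ.toAlgebra
  obtain ⟨E, a, b, hv, hE, ⟨e⟩⟩ := h
  haveI : E.IsKProjective := DR.isKProjective E b (fun i hi => hv i (Or.inr hi)) (fun i => (hE i).2)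
  obtain ⟨eB⟩ := restrictScalarsAlgebraIso (P := P) A
  let eS : DRing.toD (srcCx φ) ≅ Dual.inD P A :=
    ((DerivedCategory.singleFunctorIsoCompQ (ModuleCat.{u} P) 0).app _).symm ≪≫
      (DerivedCategory.singleFunctor (ModuleCat.{u} P) 0).mapIso eB
  obtain ⟨f, hf⟩ := DR.exists_lift E (e ≪≫ eS.symm).hom
  exact ⟨E, a, b, f, hE, hv,
    (DerivedCategory.isIso_Q_map_iff_quasiIso (ModuleCat.{u} P) f).1 (by rw [hf]; infer_instance)⟩

attribute [local instance] pfl_of_flat

/-- The base change of the ring to a polynomial ring. -/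
theorem nonempty_bcD_self {R P : Type u} [CommRing R] [CommRing P] [Algebra R P] [Module.Flat R P] :
    Nonempty ((bcD (A := R) P).obj (Dual.inD R R) ≅ Dual.inD P P) := by
  obtain ⟨eb⟩ := DR.nonempty_map_inD (bcMod (A := R) P) R
  exact ⟨(bcD (A := R) P).mapIso (DCpl.eSingle (ModuleCat.of R R)) ≪≫
      (bcMod (A := R) P).mapDerivedCategoryFactors.app _ ≪≫ eb ≪≫
      (DerivedCategory.singleFunctor (ModuleCat.{u} P) 0).mapIso
        ((DR.nonempty_extendScalars_iso (B := P) R).some.symm ≪≫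
          (TensorProduct.AlgebraTensorModule.rid R P P).toModuleIso)⟩

/-- Tensor products of complexes and shifts. -/
noncomputable def tensShiftIso {A : Type u} [CommRing A] (K L : DRing.Cx A) (x : ℤ) :
    tens (K⟦x⟧) L ≅ (tens K L)⟦x⟧ :=
  CochainComplex.mapBifunctorShift₁Iso K L (MonoidalCategory.curriedTensor (ModuleCat.{u} A)) x

/-- **The upper shriek, through the relative dualizing complex.** -/
theorem nonempty_GP_iso_LTensor {R A : Type u} [CommRing R] [CommRing A] [IsNoetherianRing R] [Algebra R A]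
    [Module.Flat R A] [Algebra.FinitePresentation R A] {n : ℕ} (ψ : MvPolynomial (Fin n) R →ₐ[R] A)
    (hψ : Function.Surjective ψ) (W : DRing.Cx A) (eW : DRing.toD W ≅ GP ψ (Dual.inD R R))
    [DRing.HasLBaseChange (algebraMap R A)] [DRing.HasLTensorCx A W] (K : Dual.D R) :
    Nonempty (GP ψ K ≅ (DRing.LTensorCx A W).obj ((DRing.LBaseChange (algebraMap R A)).obj K)) := by
  let φ : MvPolynomial (Fin n) R →+* A := ψ.toRingHom
  letI : Algebra (MvPolynomial (Fin n) R) A := φ.toAlgebra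
  obtain ⟨E, a, b, ε, hE, hab, hε⟩ := exists_eps φ (PHom.isPerfectModule_pres PHom.isPerfectHom_of_flat ψ hψ)
  obtain ⟨eP⟩ := nonempty_bcD_self (R := R) (P := MvPolynomial (Fin n) R)
  let eW0 : DRing.toD (W⟦(-(n : ℤ))⟧) ≅ (RA φ).obj (Dual.inD (MvPolynomial (Fin n) R) (MvPolynomial (Fin n) R)) :=
    ((DerivedCategory.Q (C := ModuleCat.{u} A)).commShiftIso (-(n : ℤ))).app W ≪≫
      (shiftFunctor (Dual.D A) (-(n : ℤ))).mapIso eW ≪≫
      (shiftFunctorCompIsoId (Dual.D A) (n : ℤ) (-(n : ℤ)) (add_neg_cancel _)).app _ ≪≫ (RA φ).mapIso eP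
  obtain ⟨F₀, hF₀, -, ⟨e₀⟩⟩ := GrothLib.KF.exists_kflat_rep K
  let a₁ := algebraMap R (MvPolynomial (Fin n) R)
  let F := (DR.bc a₁).obj F₀
  have hF : GrothLib.KF.IsKFlat F := GrothLib.KF.isKFlat_baseChange a₁ F₀ hF₀
  haveI : DRing.HasLBaseChange a₁ := GrothLib.KF.hasLBaseChange a₁
  haveI : DRing.HasLBaseChange φ := GrothLib.KF.hasLBaseChange φ
  obtain ⟨eL⟩ := nonempty_lBase_iso_bcD (A := R) (MvPolynomial (Fin n) R)
  obtain ⟨eF⟩ := GrothLib.KF.lBase_value a₁ hF₀
  let eK : (bcD (A := R) (MvPolynomial (Fin n) R)).obj K ≅ DRing.toD F :=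
    (bcD (A := R) (MvPolynomial (Fin n) R)).mapIso e₀.symm ≪≫ (eL.app _).symm ≪≫ eF
  obtain ⟨eT⟩ := Act.nonempty_RA_iso_tens φ ε hE hab (W⟦(-(n : ℤ))⟧) eW0 F hF
  -- the value of the tensor product
  let G := (DR.bc φ).obj F
  have hG : GrothLib.KF.IsKFlat G := GrothLib.KF.isKFlat_baseChange φ F hF
  obtain ⟨eG⟩ := GrothLib.KF.lBase_value φ hF
  obtain ⟨ec⟩ := DR.nonempty_lBase_comp a₁ φ (algebraMap R A) ψ.comp_algebraMap.symm (DRing.toD F₀)
  obtain ⟨eV⟩ := GrothLib.KF.lTensorCx_value W hG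
  let eR : (DRing.LTensorCx A W).obj ((DRing.LBaseChange (algebraMap R A)).obj K) ≅ DRing.toD (tens W G) :=
    (DRing.LTensorCx A W).mapIso ((DRing.LBaseChange (algebraMap R A)).mapIso e₀.symm ≪≫ ec.symm ≪≫
      (DRing.LBaseChange φ).mapIso eF ≪≫ eG) ≪≫ eV ≪≫
      DerivedCategory.Q.mapIso (GrothLib.KF.tensorCxSymm G W).symm
  exact ⟨(shiftFunctor (Dual.D A) (n : ℤ)).mapIso ((RA φ).mapIso eK ≪≫ eT ≪≫
      DerivedCategory.Q.mapIso (tensShiftIso W G (-(n : ℤ))) ≪≫
      ((DerivedCategory.Q (C := ModuleCat.{u} A)).commShiftIso (-(n : ℤ))).app (tens W G)) ≪≫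
    (shiftFunctorCompIsoId (Dual.D A) (-(n : ℤ)) (n : ℤ) (neg_add_cancel _)).app _ ≪≫ eR.symm⟩

end GrothLib.DualRing.Shriek
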