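import Groth.Agent.Lib.DualRing.ShriekTorIndep
import Groth.Agent.Lib.DualRing.ShriekTensor
import Groth.Agent.Lib.RelPC.TorIndep
import Groth.Agent.Lib.DCxRing.TorLocalMax

/-! # Base change of the upper shriek of a flat algebra -/

set_option autoImplicit false
set_option linter.style.haveILetI false
set_option maxHeartbeats 800000
universe u

open CategoryTheory CategoryTheory.Limits HomologicalComplex GrothLib.DualCx22
open GrothLib.RH (tens oneCx)
open scoped TensorProduct

attribute [local instance] HasDerivedCategory.standard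

namespace GrothLib.DualRing.Shriek

variable {R R' A : Type u} [CommRing R] [CommRing R'] [CommRing A] [Algebra R R'] [Algebra R A] [Module.Flat R A]

/-- An algebra flat over the base is tor independent of every base change of a flat algebra. -/
theorem subsingleton_tor_of_flat {P P' : Type u} [CommRing P] [CommRing P'] [Algebra R P] [Module.Flat R P]
    [Algebra P A] [IsScalarTower R P A] [Algebra P P'] [Algebra R' P'] [Algebra R P'] [IsScalarTower R P P']
    [IsScalarTower R R' P'] [Algebra.IsPushout R P R' P'] (p : ℕ) (hp : 1 ≤ p) :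
    Subsingleton (DRing.Tor P p A P') := by
  obtain ⟨m, rfl⟩ : ∃ m, p = m + 1 := ⟨p - 1, by omega⟩
  refine (GrothLib.KF.subsingleton_tor_iff A (projectiveResolution (ModuleCat.of P P')) m).2 ?_
  let a : R →+* P := algebraMap R P
  let φ : P →+* A := algebraMap P A
  have eφ : φ.toAlgebra = ‹Algebra P A› := Algebra.algebra_ext _ _ fun _ => rfl
  let G := (projectiveResolution (ModuleCat.of P P')).cochainComplex
  suffices ((DR.bc φ).obj G).ExactAt (-((m + 1 : ℕ) : ℤ)) by
    have h1 := (DR.exactAt_bc_iff φ G _).1 this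
    rw [eφ] at h1
    exact (DR.tExact_iff G A _).1 h1
  let F := (projectiveResolution (ModuleCat.of R R')).cochainComplex
  let ε := (projectiveResolution (ModuleCat.of R R')).π'
  haveI : QuasiIso ε := inferInstanceAs (QuasiIso (projectiveResolution (ModuleCat.of R R')).π')
  haveI := pfl_of_flat R (P := P)
  haveI : PreservesFiniteLimits (ModuleCat.extendScalars.{u, u, u} a) := ‹_›
  haveI : QuasiIso ((DR.bc a).map ε) := inferInstance
  -- the two resolutions
  let F' := (DR.bc a).obj F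
  let eM : (ModuleCat.extendScalars.{u, u, u} a).obj (ModuleCat.of R R') ≅ ModuleCat.of P P' :=
    (DR.nonempty_extendScalars_iso (B := P) R').some.symm ≪≫
      (Algebra.IsPushout.equiv R P R' P').toLinearEquiv.toModuleIso
  let eS := (HomologicalComplex.singleMapHomologicalComplex (ModuleCat.extendScalars.{u, u, u} a)
      (ComplexShape.up ℤ) 0).app (ModuleCat.of R R') ≪≫
    (HomologicalComplex.single (ModuleCat.{u} P) (ComplexShape.up ℤ) 0).mapIso eM
  let g : F' ⟶ (HomologicalComplex.single (ModuleCat.{u} P) (ComplexShape.up ℤ) 0).obj (ModuleCat.of P P') :=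
    (DR.bc a).map ε ≫ eS.hom
  have hg : QuasiIso g := quasiIso_comp ((DR.bc a).map ε) eS.hom
  haveI : IsIso (DerivedCategory.Q.map g) := (DerivedCategory.isIso_Q_map_iff_quasiIso (ModuleCat.{u} P) g).2 hg
  let π : G ⟶ (HomologicalComplex.single (ModuleCat.{u} P) (ComplexShape.up ℤ) 0).obj (ModuleCat.of P P') :=
    (projectiveResolution (ModuleCat.of P P')).π'
  haveI : G.IsKProjective := inferInstanceAs ((projectiveResolution (ModuleCat.of P P')).cochainComplex.IsKProjective)
  obtain ⟨h, hh⟩ := DR.exists_lift G (DerivedCategory.Q.map π ≫ inv (DerivedCategory.Q.map g))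
  haveI : QuasiIso h := (DerivedCategory.isIso_Q_map_iff_quasiIso (ModuleCat.{u} P) h).1 (by
    rw [hh]
    haveI : QuasiIso π := inferInstanceAs (QuasiIso (projectiveResolution (ModuleCat.of P P')).π')
    infer_instance)
  haveI : QuasiIso ((DR.bc φ).map h) := GrothLib.KF.quasiIso_bc_map φ h (GrothLib.KF.isKFlat_cochainComplex _)
    (GrothLib.KF.isKFlat_baseChange a F (GrothLib.KF.isKFlat_cochainComplex _))
  -- the resolution over the algebra
  let ι : R →+* A := algebraMap R A
  let c : (DR.bc φ).obj F' ≅ (DR.bc ι).obj F :=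
    (Functor.mapHomologicalComplexCompIso ((ModuleCat.extendScalarsComp.{u, u} a φ).symm ≪≫
      eqToIso (congrArg ModuleCat.extendScalars.{u, u, u} (IsScalarTower.algebraMap_eq R P A).symm))
      (ComplexShape.up ℤ)).app F
  haveI := pfl_of_flat R (P := A)
  haveI : PreservesFiniteLimits (ModuleCat.extendScalars.{u, u, u} ι) := ‹_›
  let t : (DR.bc φ).obj G ⟶ (HomologicalComplex.single (ModuleCat.{u} A) (ComplexShape.up ℤ) 0).obj
      ((ModuleCat.extendScalars.{u, u, u} ι).obj (ModuleCat.of R R')) :=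
    (DR.bc φ).map h ≫ c.hom ≫ (DR.bc ι).map ε ≫
      ((HomologicalComplex.singleMapHomologicalComplex (ModuleCat.extendScalars.{u, u, u} ι) (ComplexShape.up ℤ) 0).app
        (ModuleCat.of R R')).hom
  haveI : QuasiIso t := quasiIso_comp ((DR.bc φ).map h) _ (hφ' :=
    quasiIso_comp c.hom _ (hφ' := quasiIso_comp ((DR.bc ι).map ε) _ (hφ' := inferInstance)))
  rw [HomologicalComplex.exactAt_iff_isZero_homology]
  refine IsZero.of_iso ?_ (asIso (HomologicalComplex.homologyMap t _))
  exact (HomologicalComplex.exactAt_iff_isZero_homology _ _).1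
    (ShortComplex.exact_of_isZero_X₂ _ (HomologicalComplex.isZero_single_obj_X (ComplexShape.up ℤ) 0
      ((ModuleCat.extendScalars.{u, u, u} ι).obj (ModuleCat.of R R')) (-((m + 1 : ℕ) : ℤ)) (by omega)))

/-- **Base change of the upper shriek of a flat algebra.** -/
theorem nonempty_GP_baseChange [IsNoetherianRing R] [IsNoetherianRing R'] [Algebra.FinitePresentation R A]
    {n : ℕ} (ψ : MvPolynomial (Fin n) R →ₐ[R] A) (hψ : Function.Surjective ψ)
    [DRing.HasLBaseChange (Algebra.TensorProduct.includeRight : A →ₐ[R] R' ⊗[R] A).toRingHom]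
    [DRing.HasLBaseChange (algebraMap R R')] (K : Dual.D R) :
    Nonempty ((DRing.LBaseChange (Algebra.TensorProduct.includeRight : A →ₐ[R] R' ⊗[R] A).toRingHom).obj (GP ψ K) ≅
      GP (RelPC.bcPres (R' := R') ψ) ((DRing.LBaseChange (algebraMap R R')).obj K)) := by
  let α : A →+* R' ⊗[R] A := (Algebra.TensorProduct.includeRight : A →ₐ[R] R' ⊗[R] A).toRingHom
  let ψb := RelPC.bcPres (R' := R') ψ
  have hψb : Function.Surjective ψb := RelPC.bcPres_surjective ψ hψ
  let φ : MvPolynomial (Fin n) R →+* A := ψ.toRingHom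
  let ρ : MvPolynomial (Fin n) R →+* MvPolynomial (Fin n) R' := MvPolynomial.map (algebraMap R R')
  let φ' : MvPolynomial (Fin n) R' →+* R' ⊗[R] A := ψb.toRingHom
  haveI : Algebra.FinitePresentation R' (R' ⊗[R] A) := inferInstance
  letI algP : Algebra (MvPolynomial (Fin n) R) A := φ.toAlgebra
  obtain ⟨E, a, b, ε, hE, hab, hε⟩ := exists_eps φ (PHom.isPerfectModule_pres PHom.isPerfectHom_of_flat ψ hψ)
  haveI := hε
  haveI := pfl_of_flat R (P := MvPolynomial (Fin n) R)
  haveI := pfl_of_flat R' (P := MvPolynomial (Fin n) R')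
  -- a representative of the relative dual
  obtain ⟨W, hWK, -, ⟨eW⟩⟩ := GrothLib.KF.exists_kflat_rep
    ((RA φ).obj (Dual.inD (MvPolynomial (Fin n) R) (MvPolynomial (Fin n) R)))
  have hT : letI := φ.toAlgebra; letI := ρ.toAlgebra;
      ∀ p : ℕ, 1 ≤ p → Subsingleton (DRing.Tor (MvPolynomial (Fin n) R) p A (MvPolynomial (Fin n) R')) := by
    letI : Algebra (MvPolynomial (Fin n) R) (MvPolynomial (Fin n) R') := ρ.toAlgebra
    haveI : IsScalarTower R (MvPolynomial (Fin n) R) A := IsScalarTower.of_algebraMap_eq fun r => (ψ.commutes r).symm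
    haveI : IsScalarTower R (MvPolynomial (Fin n) R) (MvPolynomial (Fin n) R') :=
      IsScalarTower.of_algebraMap_eq fun r => by
        refine Eq.trans ?_ (MvPolynomial.map_C (algebraMap R R') r).symm
        exact IsScalarTower.algebraMap_apply R R' (MvPolynomial (Fin n) R') r
    have hpush : Algebra.IsPushout R (MvPolynomial (Fin n) R) R' (MvPolynomial (Fin n) R') := by
      letI := MvPolynomial.algebraMvPolynomial (σ := Fin n) (R := R) (S := R')
      have := Algebra.IsPushout.symm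
        (inferInstance : Algebra.IsPushout R R' (MvPolynomial (Fin n) R) (MvPolynomial (Fin n) R'))
      convert this using 1
      all_goals rfl
    exact fun p hp => subsingleton_tor_of_flat (R := R) (R' := R') p hp
  have hcomp : α.comp φ = φ'.comp ρ := RelPC.bcPres_comp (R' := R') ψ
  have hpo : DR.IsPushoutHom φ ρ α φ' hcomp := RelPC.isPushoutHom_pres ψ
  obtain ⟨eW'⟩ := Act.nonempty_RA_bc hcomp hpo hT hE hab ε W hWK eW
  -- the representatives of the upper shrieks
  obtain ⟨eP⟩ := nonempty_bcD_self (R := R) (P := MvPolynomial (Fin n) R)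
  obtain ⟨eP'⟩ := nonempty_bcD_self (R := R') (P := MvPolynomial (Fin n) R')
  let V := W⟦(n : ℤ)⟧
  have hV : GrothLib.KF.IsKFlat V := GrothLib.KF.isKFlat_shift hWK _
  let eV : DRing.toD V ≅ GP ψ (Dual.inD R R) :=
    ((DerivedCategory.Q (C := ModuleCat.{u} A)).commShiftIso (n : ℤ)).app W ≪≫
      (shiftFunctor (Dual.D A) (n : ℤ)).mapIso (eW ≪≫ (RA φ).mapIso eP.symm)
  let V' := (DR.bc α).obj V
  let eS : V' ≅ ((DR.bc α).obj W)⟦(n : ℤ)⟧ :=
    ((ModuleCat.extendScalars.{u, u, u} α).mapHomologicalComplex (ComplexShape.up ℤ)).commShiftIso (n : ℤ) |>.app W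
  let eV' : DRing.toD V' ≅ GP ψb (Dual.inD R' R') :=
    DerivedCategory.Q.mapIso eS ≪≫
      ((DerivedCategory.Q (C := ModuleCat.{u} (R' ⊗[R] A))).commShiftIso (n : ℤ)).app ((DR.bc α).obj W) ≪≫
      (shiftFunctor (Dual.D (R' ⊗[R] A)) (n : ℤ)).mapIso (eW'.symm ≪≫ (RA φ').mapIso eP'.symm)
  haveI := GrothLib.KF.hasLBaseChange (algebraMap R A)
  haveI := GrothLib.KF.hasLBaseChange (algebraMap R' (R' ⊗[R] A))
  haveI := GrothLib.KF.hasLBaseChange (algebraMap R (R' ⊗[R] A))
  haveI := GrothLib.KF.hasLTensorCx V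
  haveI := GrothLib.KF.hasLTensorCx V'
  obtain ⟨e1⟩ := nonempty_GP_iso_LTensor ψ hψ V eV K
  obtain ⟨e2⟩ := nonempty_GP_iso_LTensor ψb hψb V' eV' ((DRing.LBaseChange (algebraMap R R')).obj K)
  -- the base change
  obtain ⟨X, hX, -, ⟨eX⟩⟩ := GrothLib.KF.exists_kflat_rep ((DRing.LBaseChange (algebraMap R A)).obj K)
  obtain ⟨t1⟩ := GrothLib.KF.lTensorCx_value V hX
  obtain ⟨t2⟩ := GrothLib.KF.lBase_value α (GrothLib.RH.isKFlat_tens hX hV)
  let X' := (DR.bc α).obj X
  have hX' : GrothLib.KF.IsKFlat X' := GrothLib.KF.isKFlat_baseChange α X hX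
  obtain ⟨t3⟩ := GrothLib.KF.lTensorCx_value V' hX'
  obtain ⟨t4⟩ := GrothLib.KF.lBase_value α hX
  obtain ⟨c1⟩ := DR.nonempty_lBase_comp (algebraMap R A) α (algebraMap R (R' ⊗[R] A))
    (Algebra.TensorProduct.includeRight : A →ₐ[R] R' ⊗[R] A).comp_algebraMap.symm K
  obtain ⟨c2⟩ := DR.nonempty_lBase_comp (algebraMap R R') (algebraMap R' (R' ⊗[R] A)) (algebraMap R (R' ⊗[R] A))
    (IsScalarTower.algebraMap_eq R R' (R' ⊗[R] A)) K
  let eX' : DRing.toD X' ≅ (DRing.LBaseChange (algebraMap R' (R' ⊗[R] A))).obj ((DRing.LBaseChange (algebraMap R R')).obj K) :=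
    t4.symm ≪≫ (DRing.LBaseChange α).mapIso eX ≪≫ c1 ≪≫ c2.symm
  exact ⟨(DRing.LBaseChange α).mapIso (e1 ≪≫ (DRing.LTensorCx A V).mapIso eX.symm ≪≫ t1) ≪≫ t2 ≪≫
    DerivedCategory.Q.mapIso (DR.bcTensorIso α X V) ≪≫ t3.symm ≪≫
    (DRing.LTensorCx (R' ⊗[R] A) V').mapIso eX' ≪≫ e2.symm⟩

end GrothLib.DualRing.Shriek
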