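import Groth.Agent.Lib.DualRing.ShriekEnd
import Groth.Agent.Lib.DualRing.ShriekBaseChange
import Groth.Agent.Lib.DualRing.SelfDualizing
import Groth.Agent.Lib.DualRing.Shift
import Groth.Agent.Lib.GorFlat.Rings
import Groth.Agent.S0345
import Mathlib.RingTheory.KrullDimension.Polynomial

/-! # Properties of the relative dualizing complex of a flat algebra -/

set_option autoImplicit false
set_option linter.style.haveILetI false
set_option maxHeartbeats 800000
universe u

open CategoryTheory CategoryTheory.Limits HomologicalComplex GrothLib.DualCx22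
open scoped TensorProduct

attribute [local instance] HasDerivedCategory.standard

namespace GrothLib.DualRing.Shriek

variable {R A : Type u} [CommRing R] [CommRing A] [IsNoetherianRing R] [IsNoetherianRing A] [Algebra R A]
  [Module.Flat R A] [Algebra.FinitePresentation R A] {n : ℕ} (ψ : MvPolynomial (Fin n) R →ₐ[R] A)

attribute [local instance] pfl_of_flat

theorem finite_HD_of_isPseudoCoherent' {B : Type u} [CommRing B] [IsNoetherianRing B] {K : Dual.D B}
    (h : DRing.IsPseudoCoherent' B K) (i : ℤ) : Module.Finite B (Dual.HD B K i) := by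
  obtain ⟨E, b, -, hf, ⟨e⟩⟩ := h
  haveI : Module.Finite B (E.sc i).moduleCatLeftHomologyData.H := by
    haveI := (hf i).1
    haveI : Module.Finite B (E.sc i).X₂ := inferInstanceAs (Module.Finite B (E.X i))
    change Module.Finite B (_ ⧸ LinearMap.range (E.sc i).moduleCatToCycles)
    infer_instance
  exact Module.Finite.equiv
    (((DerivedCategory.homologyFunctor (ModuleCat.{u} B) i).mapIso e.symm) ≪≫
      (DerivedCategory.homologyFunctorFactors (ModuleCat.{u} B) i).app E ≪≫
      (E.sc i).moduleCatHomologyIso).toLinearEquiv.symm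

/-- **Boundedness, finiteness and tor dimension.** -/
theorem props_GP (hψ : Function.Surjective ψ) :
    (∃ a b : ℤ, ∀ i : ℤ, (i < a ∨ b < i) → Subsingleton (Dual.HD A (GP ψ (Dual.inD R R)) i)) ∧
      (∀ i : ℤ, Module.Finite A (Dual.HD A (GP ψ (Dual.inD R R)) i)) ∧
      DRing.HasFiniteTorDimCx R ((DRing.restrictD (algebraMap R A)).obj (GP ψ (Dual.inD R R))) := by
  obtain ⟨hpc, ht⟩ := isRelPerfect_GP ψ hψ
  refine ⟨?_, fun i => finite_HD_of_isPseudoCoherent' hpc i, ht⟩
  obtain ⟨a, b, E, hv, -, ⟨e⟩⟩ := ht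
  refine ⟨a, b, fun i hi => ?_⟩
  have h0 : IsZero ((DerivedCategory.homologyFunctor (ModuleCat.{u} R) i).obj (DRing.toD E)) :=
    (isZero_homology_of_X (hv i hi)).of_iso ((DerivedCategory.homologyFunctorFactors (ModuleCat.{u} R) i).app E)
  have h1 := (h0.of_iso ((DerivedCategory.homologyFunctor (ModuleCat.{u} R) i).mapIso e.symm)).of_iso
    ((DerTrunc.homologyMapIso (ModuleCat.restrictScalars.{u} (algebraMap R A)) i).app (GP ψ (Dual.inD R R))).symm
  have h2 : Subsingleton ((ModuleCat.restrictScalars.{u} (algebraMap R A)).obj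
      ((DerivedCategory.homologyFunctor (ModuleCat.{u} A) i).obj (GP ψ (Dual.inD R R)))) :=
    ModuleCat.subsingleton_of_isZero h1
  exact h2

/-- **Simplicity.** -/
theorem simple_GP (hψ : Function.Surjective ψ) :
    Function.Bijective (fun a : A => a • 𝟙 (GP ψ (Dual.inD R R))) ∧
      ∀ i : ℤ, i ≠ 0 → Subsingleton (GP ψ (Dual.inD R R) ⟶ (GP ψ (Dual.inD R R))⟦i⟧) := by
  letI : Algebra (MvPolynomial (Fin n) R) A := ψ.toRingHom.toAlgebra
  obtain ⟨E, a, b, ε, hE, hab, hε⟩ :=
    exists_eps ψ.toRingHom (PHom.isPerfectModule_pres PHom.isPerfectHom_of_flat ψ hψ)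
  haveI := hε
  obtain ⟨hb, hi⟩ := ShriekEnd.simple_RA ψ.toRingHom hE hab ε
  obtain ⟨eP⟩ := nonempty_bcD_self (R := R) (P := MvPolynomial (Fin n) R)
  let e : GP ψ (Dual.inD R R) ≅ ((RA ψ.toRingHom).obj (Dual.inD (MvPolynomial (Fin n) R) (MvPolynomial (Fin n) R)))⟦(n : ℤ)⟧ :=
    (shiftFunctor (Dual.D A) (n : ℤ)).mapIso ((RA ψ.toRingHom).mapIso eP)
  let X := (RA ψ.toRingHom).obj (Dual.inD (MvPolynomial (Fin n) R) (MvPolynomial (Fin n) R))
  let S := shiftFunctor (Dual.D A) (n : ℤ)
  constructor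
  · have h : (fun a : A => a • 𝟙 (GP ψ (Dual.inD R R))) =
        (Linear.homCongr A e.symm e.symm) ∘ (fun f : X ⟶ X => S.map f) ∘ fun a : A => a • 𝟙 X := by
      funext a
      change _ = (Linear.homCongr A e.symm e.symm) (S.map (a • 𝟙 X))
      rw [Functor.map_smul, CategoryTheory.Functor.map_id, map_smul]
      refine congrArg (a • ·) ?_
      change 𝟙 _ = (e.hom ≫ 𝟙 _) ≫ e.inv
      erw [Category.comp_id, e.hom_inv_id]
    rw [h]
    exact (Linear.homCongr A e.symm e.symm).bijective.comp (((Functor.FullyFaithful.ofFullyFaithful S).map_bijective X X).comp hb)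
  · intro i hi'
    haveI := hi i hi'
    haveI : Subsingleton (X⟦(n : ℤ)⟧ ⟶ (X⟦i⟧)⟦(n : ℤ)⟧) :=
      ((Functor.FullyFaithful.ofFullyFaithful S).homEquiv).symm.subsingleton
    exact (e.homCongr ((shiftFunctor (Dual.D A) i).mapIso e ≪≫ shiftComm X (n : ℤ) i)).subsingleton

omit [IsNoetherianRing R] [IsNoetherianRing A] [Module.Flat R A] [Algebra.FinitePresentation R A] in
theorem isDualizing_self_mvPolynomial (k : Type u) [Field k] (n : ℕ) :
    Dual.IsDualizing (MvPolynomial (Fin n) k) (Dual.inD (MvPolynomial (Fin n) k) (MvPolynomial (Fin n) k)) := by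
  refine GrothLib.DualRing.isDualizing_self_of_injDim _ ((Groth.Agent.S0345.result _).2
    ⟨GrothLib.GorFlat.isGorensteinRing_mvPolynomial (GrothLib.GorFlat.isGorensteinRing_of_isRegularRing k) n, ?_⟩)
  rw [MvPolynomial.ringKrullDim_of_isNoetherianRing, ringKrullDim_eq_zero_of_field, zero_add]
  exact WithBot.coe_lt_coe.2 (ENat.coe_lt_top _)

/-- **The fibres of the relative dualizing complex are dualizing.** -/
theorem isDualizing_lBase_GP (hψ : Function.Surjective ψ) (k : Type u) [Field k] [Algebra R k]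
    [DRing.HasLBaseChange (Algebra.TensorProduct.includeRight : A →ₐ[R] k ⊗[R] A).toRingHom] :
    Dual.IsDualizing (k ⊗[R] A)
      ((DRing.LBaseChange (Algebra.TensorProduct.includeRight : A →ₐ[R] k ⊗[R] A).toRingHom).obj
        (GP ψ (Dual.inD R R))) := by
  haveI := GrothLib.KF.hasLBaseChange (algebraMap R k)
  obtain ⟨e⟩ := nonempty_GP_baseChange (R' := k) ψ hψ (Dual.inD R R)
  obtain ⟨eP⟩ := nonempty_bcD_self (R := k) (P := MvPolynomial (Fin n) k)
  let ψb := RelPC.bcPres (R' := k) ψ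
  let eR : DRing.toD (GrothLib.RH.oneCx R) ≅ Dual.inD R R :=
    ((DerivedCategory.singleFunctorIsoCompQ (ModuleCat.{u} R) 0).app _).symm
  obtain ⟨eL⟩ := GrothLib.KF.lBase_value (algebraMap R k)
    (GrothLib.KF.isKFlat_single (ModuleCat.of R R) (inferInstanceAs (Module.Flat R R)) 0)
  let eK : (DRing.LBaseChange (algebraMap R k)).obj (Dual.inD R R) ≅ Dual.inD k k :=
    (DRing.LBaseChange (algebraMap R k)).mapIso eR.symm ≪≫ eL ≪≫
      DerivedCategory.Q.mapIso (Act.bcOne (algebraMap R k)) ≪≫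
      ((DerivedCategory.singleFunctorIsoCompQ (ModuleCat.{u} k) 0).app _).symm
  letI : Algebra (MvPolynomial (Fin n) k) (k ⊗[R] A) := ψb.toRingHom.toAlgebra
  haveI : Module.Finite (MvPolynomial (Fin n) k) (k ⊗[R] A) :=
    Module.Finite.of_surjective (Algebra.linearMap (MvPolynomial (Fin n) k) (k ⊗[R] A))
      (RelPC.bcPres_surjective ψ hψ)
  haveI : IsNoetherianRing (k ⊗[R] A) := IsNoetherianRing.of_finite (MvPolynomial (Fin n) k) (k ⊗[R] A)
  have h := isDualizing_rightAdjoint (RA (algebraMap (MvPolynomial (Fin n) k) (k ⊗[R] A)))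
    (radj (algebraMap (MvPolynomial (Fin n) k) (k ⊗[R] A))) (isDualizing_self_mvPolynomial k n)
  exact GrothLib.DualCx22.isDualizing_of_iso
    (e ≪≫ (shiftFunctor (Dual.D (k ⊗[R] A)) (n : ℤ)).mapIso
      ((RA ψb.toRingHom).mapIso ((bcD (A := k) (MvPolynomial (Fin n) k)).mapIso eK ≪≫ eP))).symm
    (GrothLib.DualRing.isDualizing_shift h (n : ℤ))

end GrothLib.DualRing.Shriek
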