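import Groth.Agent.Lib.DualRing.RelVanish
import Groth.Agent.Lib.DualRing.ShriekRel
import Groth.Agent.Lib.DualRing.HomHD

/-! # The cohomology of the relative dualizing complex as duals over affine space -/

set_option autoImplicit false
set_option linter.style.haveILetI false
set_option maxHeartbeats 800000
universe u

open CategoryTheory CategoryTheory.Limits GrothLib.DualCx22

attribute [local instance] HasDerivedCategory.standard

namespace GrothLib.DualRing.Shriek

/-- The cohomology of the coinduced ring is given by the duals. -/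
theorem nonempty_HD_restrictD_RA {P A : Type u} [CommRing P] [CommRing A] [Algebra P A] (j : ℤ) :
    Nonempty (Dual.HD P ((DRing.restrictD (algebraMap P A)).obj ((RA (algebraMap P A)).obj (Dual.inD P P))) j
      ≃ₗ[P] EH (Dual.inD P P) (Dual.inD P A) j) := by
  obtain ⟨I, hI, ⟨eI⟩⟩ := RH.exists_kInjective_rep (Dual.inD P P)
  haveI := hI
  obtain ⟨eR⟩ := nonempty_coI_iso (algebraMap P A) I (RA (algebraMap P A)) (radj (algebraMap P A))
  obtain ⟨eB⟩ := restrictScalarsAlgebraIso (P := P) A
  let eS : DRing.toD (srcCx (algebraMap P A)) ≅ Dual.inD P A :=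
    ((DerivedCategory.singleFunctorIsoCompQ (ModuleCat.{u} P) 0).app _).symm ≪≫
      (DerivedCategory.singleFunctor (ModuleCat.{u} P) 0).mapIso eB
  obtain ⟨e⟩ := exists_HD_homCx_equiv (srcCx (algebraMap P A)) I j
  exact ⟨((DerivedCategory.homologyFunctor (ModuleCat.{u} P) j).mapIso
      ((DRing.restrictD (algebraMap P A)).mapIso ((RA (algebraMap P A)).mapIso eI) ≪≫
        (DRing.restrictD (algebraMap P A)).mapIso eR.symm ≪≫
          (resCoIsoD (algebraMap P A) I).symm)).toLinearEquiv ≪≫ₗ e ≪≫ₗ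
    Linear.homCongr P eS ((shiftFunctor (Dual.D P) j).mapIso eI.symm)⟩

variable {R A : Type u} [CommRing R] [CommRing A] [Algebra R A] {n : ℕ} (ψ : MvPolynomial (Fin n) R →ₐ[R] A)

attribute [local instance] pfl_of_flat

/-- The cohomology of the relative dualizing complex, seen over affine space. -/
theorem exists_HD_GP_semilinear (i : ℤ) :
    letI := ψ.toRingHom.toAlgebra
    ∃ e : Dual.HD A (GP ψ (Dual.inD R R)) i ≃+
        EH (Dual.inD (MvPolynomial (Fin n) R) (MvPolynomial (Fin n) R)) (Dual.inD (MvPolynomial (Fin n) R) A) (i + n),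
      ∀ (s : MvPolynomial (Fin n) R) (x : Dual.HD A (GP ψ (Dual.inD R R)) i), e (ψ s • x) = s • e x := by
  letI : Algebra (MvPolynomial (Fin n) R) A := ψ.toRingHom.toAlgebra
  let P := MvPolynomial (Fin n) R
  obtain ⟨eP⟩ := nonempty_bcD_self (R := R) (P := P)
  let X := (RA (algebraMap P A)).obj (Dual.inD P P)
  let eW : (DRing.restrictD (algebraMap P A)).obj (GP ψ (Dual.inD R R)) ≅
      ((DRing.restrictD (algebraMap P A)).obj X)⟦(n : ℤ)⟧ :=
    (DRing.restrictD (algebraMap P A)).mapIso ((shiftFunctor (Dual.D A) (n : ℤ)).mapIso ((RA ψ.toRingHom).mapIso eP)) ≪≫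
      ((DRing.restrictD (algebraMap P A)).commShiftIso (n : ℤ)).app X
  obtain ⟨e2⟩ := nonempty_HD_shift ((DRing.restrictD (algebraMap P A)).obj X) (n : ℤ) i (i + n) (add_comm _ _)
  obtain ⟨e3⟩ := nonempty_HD_restrictD_RA (P := P) (A := A) (i + n)
  let e1 : _ ≅
      (DerivedCategory.homologyFunctor (ModuleCat.{u} P) i).obj ((DRing.restrictD (algebraMap P A)).obj (GP ψ (Dual.inD R R))) :=
    ((DerTrunc.homologyMapIso (ModuleCat.restrictScalars.{u} (algebraMap P A)) i).app (GP ψ (Dual.inD R R))).symm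
  let E := e1.toLinearEquiv ≪≫ₗ
    ((DerivedCategory.homologyFunctor (ModuleCat.{u} P) i).mapIso eW).toLinearEquiv ≪≫ₗ e2 ≪≫ₗ e3
  exact ⟨E.toAddEquiv, fun s x => E.map_smul s x⟩

open FibreDim in
/-- **The relative dualizing complex vanishes below minus the fibre dimension.** -/
theorem le_of_nontrivial_localized_HD [IsNoetherianRing R] [Algebra.FiniteType R A] (hψ : Function.Surjective ψ)
    (q : PrimeSpectrum A) {d : ℕ}
    (hd : FlatMor.fibreDimAt (AlgebraicGeometry.Spec.map (CommRingCat.ofHom (algebraMap R A))) q ≤ (d : WithBot ℕ∞))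
    (i : ℤ) (h : Nontrivial (LocalizedModule q.asIdeal.primeCompl (Dual.HD A (GP ψ (Dual.inD R R)) i))) :
    -(d : ℤ) ≤ i := by
  by_contra hlt
  letI : Algebra (MvPolynomial (Fin n) R) A := ψ.toRingHom.toAlgebra
  have h0 := subsingleton_localized_EH_low ψ hψ q hd (i + n) (by omega)
  rw [subsingleton_tensor_localization_iff (PrimeSpectrum.comap ψ.toRingHom q).asIdeal.primeCompl] at h0
  obtain ⟨e, he⟩ := exists_HD_GP_semilinear ψ i
  refine not_subsingleton_iff_nontrivial.2 h (LocalizedModule.subsingleton_iff.2 fun x => ?_)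
  obtain ⟨s, hs, hsx⟩ := h0 (e x)
  exact ⟨ψ s, hs, e.injective (by rw [he, hsx, map_zero])⟩

end GrothLib.DualRing.Shriek
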