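import Groth.Agent.Lib.DualRing.RelBridge
import Groth.Agent.Lib.PerfHom.Perfect

/-! # Top degree vanishing of the relative dualizing complex of a flat algebra -/

set_option autoImplicit false
set_option linter.style.haveILetI false
set_option maxHeartbeats 800000
universe u

open CategoryTheory CategoryTheory.Limits TensorProduct GrothLib.DualCx22 GrothLib.DR

attribute [local instance] HasDerivedCategory.standard

namespace GrothLib.DualRing.Shriek

variable {R A : Type u} [CommRing R] [CommRing A] [Algebra R A]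
  [Module.Flat R A] [Algebra.FinitePresentation R A] {n : ℕ} (ψ : MvPolynomial (Fin n) R →ₐ[R] A)

/-- A flat quotient of affine space has a finite projective resolution of length `n`. -/
theorem exists_finiteProjective_pres (hψ : Function.Surjective ψ) :
    letI := ψ.toRingHom.toAlgebra
    ∃ E : DRing.Cx (MvPolynomial (Fin n) R), DRing.VanishesOutside E (-(n : ℤ)) 0 ∧
      DRing.TermwiseFiniteProjective E ∧ Nonempty (DRing.toD E ≅ Dual.inD (MvPolynomial (Fin n) R) A) := by
  letI := ψ.toRingHom.toAlgebra
  let P := MvPolynomial (Fin n) R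
  haveI : IsScalarTower R P A := IsScalarTower.of_algebraMap_eq fun x => (ψ.commutes x).symm
  have hperf : DRing.IsPerfectModule P A := PHom.isPerfectModule_pres PHom.isPerfectHom_of_flat ψ hψ
  haveI : ∀ (p : PrimeSpectrum R) (M : ModuleCat.{u} (p.asIdeal.ResidueField ⊗[R] P)),
      DRing.HasLTensor (p.asIdeal.ResidueField ⊗[R] P) M := fun _ M => KF.hasLTensor M
  haveI : ∀ m : Ideal P, DRing.HasLBaseChange (Ideal.Quotient.mk m) := fun _ => KF.hasLBaseChange _
  obtain ⟨hpc, -⟩ := DR.isPerfect_iff.1 hperf
  have h := (Groth.Agent.S7035.result (A := R) (B := P) n (fun p M _ _ => ?_) (-((0 : ℕ) : ℤ)) 0 (Dual.inD P A) hpc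
    (hasTorAmplitudeIn_of_iso
      (((ModuleCat.restrictScalars.{u} (algebraMap R P)).mapDerivedCategorySingleFunctor 0).app
        (ModuleCat.of P A)).symm
      (hasTorAmplitudeIn_of_equiv (PHom.towerRestrictEquiv A) (by simpa using DR.hasTorAmplitudeIn_flat (A := R) A)))).2
  · exact DR.exists_finiteProjective (by omega) (DR.isPseudoCoherent_of_prime hpc _) (hasTorAmplitudeIn_mono (by omega) le_rfl h)
  let k := p.asIdeal.ResidueField
  let e : k ⊗[R] P ≃+* MvPolynomial (Fin n) k := (MvPolynomial.algebraTensorAlgEquiv R k).toRingEquiv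
  haveI : IsRegularRing (k ⊗[R] P) := IsRegularRing.of_ringEquiv e.symm
  have hd' : ringKrullDim (k ⊗[R] P) = (n : WithBot ℕ∞) := by
    rw [ringKrullDim_eq_of_ringEquiv e, MvPolynomial.ringKrullDim_of_isNoetherianRing,
      ringKrullDim_eq_zero_of_field]
    simp
  exact pdLE_of_regular (fun q => inferInstance) n hd' M

/-- Duals into the ring of a short complex of projectives vanish in high degrees. -/
theorem subsingleton_EH_of_vanishesOutside {P : Type u} [CommRing P] {X : Dual.D P} {E : DRing.Cx P} {a b : ℤ}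
    (hv : DRing.VanishesOutside E a b) (hE : DRing.TermwiseFiniteProjective E) (e : DRing.toD E ≅ X)
    (j : ℤ) (hj : -j < a) : Subsingleton (EH (Dual.inD P P) X j) := by
  haveI : E.IsKProjective := DR.isKProjective E b (fun i hi => hv i (Or.inr hi)) (fun i => (hE i).2)
  let Y := (RH.oneCx P)⟦j⟧
  let eY : DRing.toD Y ≅ (Dual.inD P P)⟦j⟧ :=
    ((DerivedCategory.Q (C := ModuleCat.{u} P)).commShiftIso j).app _ ≪≫
      (shiftFunctor (Dual.D P) j).mapIso ((DerivedCategory.singleFunctorIsoCompQ (ModuleCat.{u} P) 0).app _).symm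
  haveI : Subsingleton (DRing.toD E ⟶ DRing.toD Y) := by
    refine subsingleton_of_forall_eq 0 fun φ => ?_
    obtain ⟨f, rfl⟩ := DR.exists_lift E φ
    have hf : f = 0 := by
      refine HomologicalComplex.hom_ext _ _ fun i => ?_
      rcases eq_or_ne (i + j) 0 with h | h
      · exact (hv i (Or.inl (by omega))).eq_of_src _ _
      · exact (HomologicalComplex.isZero_single_obj_X (ComplexShape.up ℤ) 0 (ModuleCat.of P P) (i + j) h).eq_of_tgt _ _
    rw [hf, Functor.map_zero]
  exact (e.homCongr eY).symm.subsingleton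

/-- **The relative dualizing complex of a flat algebra vanishes in positive degrees.** -/
theorem subsingleton_HD_GP_pos (hψ : Function.Surjective ψ) (i : ℤ) (hi : 0 < i) :
    Subsingleton (Dual.HD A (GP ψ (Dual.inD R R)) i) := by
  letI := ψ.toRingHom.toAlgebra
  obtain ⟨E, hv, hE, ⟨e⟩⟩ := exists_finiteProjective_pres ψ hψ
  obtain ⟨e', -⟩ := exists_HD_GP_semilinear ψ i
  haveI := subsingleton_EH_of_vanishesOutside hv hE e (i + n) (by omega)
  exact e'.toEquiv.subsingleton

end GrothLib.DualRing.Shriek
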