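import Groth.Agent.Lib.DualRing.Finite
import Mathlib.RingTheory.KrullDimension.NonZeroDivisors
import Mathlib.RingTheory.KrullDimension.Module

/-! # The dimension function of a dualizing complex -/

set_option autoImplicit false
universe u

open CategoryTheory CategoryTheory.Limits Pretriangulated

attribute [local instance] HasDerivedCategory.standard

namespace GrothLib.DualRing

variable {A : Type u} [CommRing A] [IsNoetherianRing A] {ω : Dual.D A} (hω : Dual.IsDualizing A ω)

/-- The degree in which `Hom(A/p, ω⟦i⟧)` survives at `p`. -/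
noncomputable def deg (p : Ideal A) [p.IsPrime] : ℤ := (exists_mu_eq_one hω (p := p)).choose

theorem mu_deg (p : Ideal A) [p.IsPrime] : mu ω p (deg hω p) = 1 := (exists_mu_eq_one hω (p := p)).choose_spec.1

theorem mu_ne_deg (p : Ideal A) [p.IsPrime] {i : ℤ} (h : i ≠ deg hω p) : mu ω p i = 0 :=
  (exists_mu_eq_one hω (p := p)).choose_spec.2 i h

theorem mu_ne_zero_iff (p : Ideal A) [p.IsPrime] (i : ℤ) : mu ω p i ≠ 0 ↔ i = deg hω p :=
  ⟨fun h => not_not.1 fun hne => h (mu_ne_deg hω p hne), fun h => by rw [h, mu_deg]; exact one_ne_zero⟩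

omit [IsNoetherianRing A] in
/-- Nonvanishing at a prime passes to larger primes. -/
theorem len_ne_zero_of_le {p q : Ideal A} [p.IsPrime] [q.IsPrime] (h : p ≤ q) {M : Type*} [AddCommGroup M]
    [Module A M] (hM : len p M ≠ 0) : len q M ≠ 0 := fun h0 =>
  hM (len_eq_zero_iff.2 fun x => let ⟨s, hs, hx⟩ := len_eq_zero_iff.1 h0 x; ⟨s, fun hp => hs (h hp), hx⟩)

/-- Finite length at a prime minimal among those containing an ideal killing the module. -/
theorem len_ne_top_of_minimal {q : Ideal A} [q.IsPrime] (I : Ideal A)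
    (hmin : ∀ s : Ideal A, s.IsPrime → I ≤ s → s ≤ q → s = q)
    (M : Type*) [AddCommGroup M] [Module A M] [hM : Module.Finite A M] :
    (∀ a ∈ I, ∀ x : M, a • x = 0) → len q M ≠ ⊤ := by
  induction hM using IsNoetherianRing.induction_on_isQuotientEquivQuotientPrime A with
  | subsingleton N => intro _; rw [len_eq_zero_of_subsingleton]; exact ENat.zero_ne_top
  | quotient N r e =>
    intro h
    haveI := r.2
    rw [len_congr e]
    by_cases hr : r.1 ≤ q
    · have hI : I ≤ r.1 := fun a ha => by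
        have h1 := congrArg e (h a ha (e.symm 1))
        rw [map_smul, e.apply_symm_apply, map_zero] at h1
        refine Ideal.Quotient.eq_zero_iff_mem.1 (Eq.trans ?_ h1)
        rw [← map_one (Ideal.Quotient.mk r.1)]
        exact congrArg _ (mul_one a).symm
      rw [len_congr (Submodule.quotEquivOfEq _ _ (hmin r.1 r.2 hI hr)), len_quotient_prime]
      exact ENat.one_ne_top
    · rw [len_quotient_eq_zero (p := q) hr]
      exact ENat.zero_ne_top
  | exact N₁ N₂ N₃ f g hf hg hfg h₁ h₃ =>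
    intro h
    rw [len_eq_add hf hg hfg]
    refine WithTop.add_ne_top.2 ⟨h₁ fun a ha x => hf (by rw [map_smul, h a ha (f x), map_zero]),
      h₃ fun a ha y => ?_⟩
    obtain ⟨x, rfl⟩ := hg y
    rw [← map_smul, h a ha x, map_zero]

variable (ω) in
/-- Reduction to quotients by primes. -/
theorem len_EH_eq_zero_of_quotients {q : Ideal A} [q.IsPrime] {i : ℤ} (N : Type u) [AddCommGroup N] [Module A N]
    [hN : Module.Finite A N] :
    (∀ r : Ideal A, r.IsPrime → r ≤ q → (∀ a : A, (∀ x : N, a • x = 0) → a ∈ r) →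
      len q (EH ω (Dual.inD A (A ⧸ r)) i) = 0) →
    len q (EH ω (Dual.inD A N) i) = 0 := by
  induction hN using IsNoetherianRing.induction_on_isQuotientEquivQuotientPrime A with
  | subsingleton N => exact fun _ => len_EH_of_len_eq_zero ω q len_eq_zero_of_subsingleton i
  | quotient N r e =>
    intro h
    haveI := r.2
    rw [len_EH_inD_congr ω q e]
    by_cases hr : r.1 ≤ q
    · refine h r.1 r.2 hr fun a ha => ?_
      have h1 := congrArg e (ha (e.symm 1))
      rw [map_smul, e.apply_symm_apply, map_zero] at h1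
      refine Ideal.Quotient.eq_zero_iff_mem.1 (Eq.trans ?_ h1)
      rw [← map_one (Ideal.Quotient.mk r.1)]
      exact congrArg _ (mul_one a).symm
    · exact len_EH_of_len_eq_zero ω q (len_quotient_eq_zero (p := q) hr) i
  | exact N₁ N₂ N₃ f g hf hg hfg h₁ h₃ =>
    intro h
    obtain ⟨T, hT, e₁, e₂, e₃⟩ := exists_triangle hf hg hfg
    have := len_mid (ω := ω) q T hT i
      (e₃ ▸ h₃ fun r hr hrq ha => h r hr hrq fun a hx => ha a fun y => by
        obtain ⟨x, rfl⟩ := hg y
        rw [← map_smul, hx x, map_zero])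
      (e₁ ▸ h₁ fun r hr hrq ha => h r hr hrq fun a hx => ha a fun x => hf (by rw [map_smul, hx (f x), map_zero]))
    rwa [e₂] at this

include hω in
/-- One step up: from `A/r` at `q` to `A/s` at `q` for some larger prime `s`. -/
theorem exists_next {r q : Ideal A} [r.IsPrime] [q.IsPrime] (h : r < q) {i : ℤ}
    (hi : len q (EH ω (Dual.inD A (A ⧸ r)) i) ≠ 0) :
    ∃ s : Ideal A, s.IsPrime ∧ r < s ∧ s ≤ q ∧ len q (EH ω (Dual.inD A (A ⧸ s)) (i + 1)) ≠ 0 := by
  obtain ⟨x, hxq, hxr⟩ := SetLike.exists_of_lt h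
  have hx : Function.Injective (x • (LinearMap.id : A ⧸ r →ₗ[A] A ⧸ r)) :=
    (injective_iff_map_eq_zero _).2 fun y hy => by
      obtain ⟨y, rfl⟩ := Ideal.Quotient.mk_surjective y
      refine Ideal.Quotient.eq_zero_iff_mem.2 ((‹r.IsPrime›.mem_or_mem ?_).resolve_left hxr)
      exact Ideal.Quotient.eq_zero_iff_mem.1 hy
  by_contra! hne
  refine hi (len_EH_eq_zero_of_next hω (A ⧸ r) hx hxq i (len_EH_eq_zero_of_quotients ω _ fun s hs hsq ha => ?_))
  refine hne s hs (lt_of_le_of_ne (fun a har => ha a fun z => ?_) fun e => hxr (e ▸ ha x fun z => ?_)) hsq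
  · obtain ⟨z, rfl⟩ := Submodule.mkQ_surjective _ z
    obtain ⟨z, rfl⟩ := Ideal.Quotient.mk_surjective z
    rw [← map_smul, show a • Ideal.Quotient.mk r z = 0 from
      Ideal.Quotient.eq_zero_iff_mem.2 (r.mul_mem_right z har), map_zero]
  · obtain ⟨z, rfl⟩ := Submodule.mkQ_surjective _ z
    rw [← map_smul, Submodule.mkQ_apply, Submodule.Quotient.mk_eq_zero]
    exact ⟨z, rfl⟩

/-- The degrees in which `Hom(A/r, ω⟦i⟧)` survives at `q ⊇ r`. -/
theorem deg_bounds : ∀ (r : Ideal A) [r.IsPrime] (q : Ideal A) [q.IsPrime], r ≤ q → ∀ i : ℤ,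
    len q (EH ω (Dual.inD A (A ⧸ r)) i) ≠ 0 → deg hω r ≤ i ∧ i ≤ deg hω q := by
  intro r
  induction r using WellFoundedGT.induction with
  | _ r ih =>
    intro _ q _ hrq i hi
    rcases hrq.eq_or_lt with rfl | hlt
    · obtain rfl := (mu_ne_zero_iff hω r i).1 hi
      exact ⟨le_rfl, le_rfl⟩
    obtain ⟨s, hs, hrs, hsq, hs1⟩ := exists_next hω hlt hi
    obtain ⟨h1, h2⟩ := ih s hrs q hsq (i + 1) hs1
    -- strictness between `r` and `s`
    have h0 : len s (EH ω (Dual.inD A (A ⧸ r)) (deg hω r)) ≠ 0 :=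
      len_ne_zero_of_le hrs.le ((mu_ne_zero_iff hω r _).2 rfl)
    obtain ⟨t, ht, hrt, hts, ht1⟩ := exists_next hω hrs h0
    obtain ⟨-, h4⟩ := ih t hrt s hts _ ht1
    exact ⟨by omega, by omega⟩

theorem deg_lt {r q : Ideal A} [r.IsPrime] [q.IsPrime] (h : r < q) : deg hω r < deg hω q := by
  obtain ⟨s, hs, hrs, hsq, hs1⟩ := exists_next hω h (len_ne_zero_of_le h.le ((mu_ne_zero_iff hω r _).2 rfl))
  have := (deg_bounds hω s q hsq _ hs1).2
  omega

/-- The degree as a function on the spectrum. -/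
noncomputable def degS (x : PrimeSpectrum A) : ℤ := deg hω x.asIdeal

theorem degS_strictMono : StrictMono (degS hω) := fun _ _ h => deg_lt hω h

theorem degS_covBy {x y : PrimeSpectrum A} (h : x ⋖ y) : degS hω y = degS hω x + 1 := by
  obtain ⟨s, hs, hrs, hsq, hs1⟩ :=
    exists_next hω (show x.asIdeal < y.asIdeal from h.1)
      (len_ne_zero_of_le (le_of_lt (show x.asIdeal < y.asIdeal from h.1)) ((mu_ne_zero_iff hω x.asIdeal _).2 rfl))
  rcases hsq.eq_or_lt with he | hlt
  · subst he
    exact ((mu_ne_zero_iff hω _ _).1 hs1).symm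
  · exact absurd (show (⟨s, hs⟩ : PrimeSpectrum A) < y from hlt) (h.2 (show x < ⟨s, hs⟩ from hrs))

include hω in
theorem exists_deg_range : ∃ a b : ℤ, ∀ x : PrimeSpectrum A, a ≤ degS hω x ∧ degS hω x ≤ b := by
  obtain ⟨a, b, h⟩ := hω.finite_injective_dimension
  refine ⟨a, b, fun x => ?_⟩
  by_contra hne
  refine (mu_ne_zero_iff hω x.asIdeal _).2 rfl ?_
  haveI : Subsingleton (EH ω (Dual.inD A (A ⧸ x.asIdeal)) (deg hω x.asIdeal)) :=
    h (A ⧸ x.asIdeal) (degS hω x) (by omega)
  exact len_eq_zero_of_subsingleton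

include hω in
theorem ringKrullDim_lt_top : ringKrullDim A < ⊤ := by
  obtain ⟨a, b, h⟩ := exists_deg_range hω
  let f : PrimeSpectrum A → Fin ((b - a).toNat + 1) := fun x => ⟨(degS hω x - a).toNat, by have := h x; omega⟩
  have hf : StrictMono f := fun x y hxy => by
    have := degS_strictMono hω hxy
    have := h x
    have := h y
    exact Fin.mk_lt_mk.2 (by omega)
  refine lt_of_le_of_lt (iSup_le fun l => ?_ : ringKrullDim A ≤ (((b - a).toNat : ℕ∞) : WithBot ℕ∞))
    (WithBot.coe_lt_coe.2 (ENat.coe_lt_top _))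
  have h1 := Fintype.card_le_of_injective _ (hf.comp l.strictMono).injective
  simp only [Fintype.card_fin, Nat.add_le_add_iff_right] at h1
  exact WithBot.coe_le_coe.2 (Nat.cast_le.2 h1)

include hω in
theorem exists_covBy_le {x y : PrimeSpectrum A} (h : x < y) : ∃ z, x ⋖ z ∧ z ≤ y := by
  obtain ⟨d, ⟨z, hxz, hzy, hd⟩, hmin⟩ := Int.exists_least_of_bdd
    (P := fun d => ∃ z, x < z ∧ z ≤ y ∧ degS hω z = d)
    ⟨degS hω x, fun d ⟨z, hxz, _, hd⟩ => hd ▸ (degS_strictMono hω hxz).le⟩ ⟨_, y, h, le_rfl, rfl⟩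
  refine ⟨z, ⟨hxz, fun w hxw hwz => ?_⟩, hzy⟩
  have := hmin _ ⟨w, hxw, hwz.le.trans hzy, rfl⟩
  have := degS_strictMono hω hwz
  omega

/-- Coheights in a local ring. -/
theorem coheight_eq [IsLocalRing A] (x : PrimeSpectrum A) :
    (Order.coheight x : ℕ∞) = ((degS hω (IsLocalRing.closedPoint A) - degS hω x).toNat : ℕ) := by
  have hle : ∀ y : PrimeSpectrum A, y ≤ IsLocalRing.closedPoint A := fun y =>
    IsLocalRing.le_maximalIdeal y.2.ne_top
  generalize hn : (degS hω (IsLocalRing.closedPoint A) - degS hω x).toNat = n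
  induction n using Nat.strong_induction_on generalizing x with
  | _ n ih =>
    refine le_antisymm (Order.coheight_le_coe_iff.2 fun y hy => ?_) ?_
    · have h1 := degS_strictMono hω hy
      have h2 := (degS_strictMono hω).monotone (hle y)
      rw [ih _ (by omega) y rfl]
      exact Nat.cast_lt.2 (by omega)
    · rcases (hle x).eq_or_lt with he | hlt
      · subst he
        simp at hn
        simp [← hn]
      · obtain ⟨z, hxz, hz⟩ := exists_covBy_le hω hlt
        have h1 := degS_covBy hω hxz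
        have h2 := (degS_strictMono hω).monotone hz
        have h3 := Order.coheight_add_one_le hxz.1
        rw [ih _ (by omega) z rfl] at h3
        refine le_trans ?_ h3
        rw [show n = (degS hω (IsLocalRing.closedPoint A) - degS hω z).toNat + 1 by omega, Nat.cast_add,
          Nat.cast_one]

theorem ringKrullDim_quotient_prime [IsLocalRing A] (x : PrimeSpectrum A) :
    ringKrullDim (A ⧸ x.asIdeal) =
      (((degS hω (IsLocalRing.closedPoint A) - degS hω x).toNat : ℕ) : WithBot ℕ∞) := by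
  have h : PrimeSpectrum.zeroLocus (x.asIdeal : Set A) = Set.Ici x := Set.ext fun y => Iff.rfl
  rw [ringKrullDim_quotient, h, ← Order.coheight_eq_krullDim_Ici, coheight_eq hω x]
  rfl

end GrothLib.DualRing
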