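import Groth.Agent.Lib.DualRing.GorFlatBC
import Groth.Agent.Lib.DualCx22.EssFT
import Groth.Agent.Lib.DualCx22.Pointwise
import Groth.Agent.Lib.Excellent.FlatFibres
import Groth.Agent.Lib.GorFlat.Rings

/-! # Dualizing complexes along flat maps with Gorenstein fibres -/

set_option autoImplicit false
set_option linter.style.haveILetI false
universe u

open CategoryTheory CategoryTheory.Limits IsLocalRing GrothLib.DualCx22 TensorProduct

attribute [local instance] HasDerivedCategory.standard

namespace GrothLib.DualRing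

variable {A : Type u} [CommRing A]

theorem nonempty_bcD_comp (B C : Type u) [CommRing B] [CommRing C] [Algebra A B] [Algebra B C] [Algebra A C]
    [IsScalarTower A B C] [PreservesFiniteLimits (bcMod (A := A) B)] [PreservesFiniteLimits (bcMod (A := B) C)]
    [PreservesFiniteLimits (bcMod (A := A) C)] (ω : Dual.D A) :
    Nonempty ((bcD (A := B) C).obj ((bcD B).obj ω) ≅ (bcD (A := A) C).obj ω) := by
  obtain ⟨e⟩ : Nonempty (bcMod (A := A) C ≅ bcMod (A := A) B ⋙ bcMod (A := B) C) := by
    have h : algebraMap A C = (algebraMap B C).comp (algebraMap A B) := IsScalarTower.algebraMap_eq A B C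
    show Nonempty (ModuleCat.extendScalars.{u, u, u} (algebraMap A C) ≅ _)
    rw [h]
    exact ⟨ModuleCat.extendScalarsComp (algebraMap A B) (algebraMap B C)⟩
  obtain ⟨P, ⟨k⟩⟩ : ∃ P : DRing.Cx A, Nonempty (DRing.toD P ≅ ω) :=
    ⟨_, ⟨DerivedCategory.Q.objObjPreimageIso ω⟩⟩
  exact ⟨(bcD (A := B) C).mapIso ((bcD B).mapIso k.symm ≪≫ (bcMod B).mapDerivedCategoryFactors.app P) ≪≫
    (bcMod (A := B) C).mapDerivedCategoryFactors.app _ ≪≫
    DerivedCategory.Q.mapIso (((NatIso.mapHomologicalComplex e (ComplexShape.up ℤ)).app P).symm) ≪≫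
    ((bcMod (A := A) C).mapDerivedCategoryFactors.app P).symm ≪≫ (bcD (A := A) C).mapIso k⟩

theorem isDualizing_bcD_gorenstein (B : Type u) [CommRing B] [Algebra A B] [IsNoetherianRing B] [Module.Flat A B]
    [PreservesFiniteLimits (bcMod (A := A) B)] {ω : Dual.D A} (hω : Dual.IsDualizing A ω) (D : ℕ)
    (hD : ringKrullDim B ≤ D)
    (hG : ∀ (m : Ideal B) [m.IsMaximal], LocCoh.IsGorensteinLocalRing (EGA4.FibLocRing A B m)) :
    Dual.IsDualizing B ((bcD B).obj ω) := by
  haveI := hω.isNoetherianRing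
  obtain ⟨a, b, hab⟩ := hω.finite_injective_dimension
  haveI : ω.IsGE a := isGE_of_hom_ring ω a fun i hi => hab A i (Or.inl hi)
  haveI := isGE_bcD B ω a
  obtain ⟨a', b', hdeg⟩ := exists_deg_range hω
  refine isDualizing_bcD B hω (b' + D) fun m _ i hi => ?_
  let C := Localization.AtPrime m
  haveI : Module.Flat B C := IsLocalization.flat C m.primeCompl
  haveI : Module.Flat A C := Module.Flat.trans A B C
  haveI : PreservesFiniteLimits (bcMod (A := B) C) :=
    GrothLib.DR.preservesFiniteLimits_extendScalars (algebraMap B C) GrothLib.DR.flat_algebraMap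
  haveI : PreservesFiniteLimits (bcMod (A := A) C) :=
    GrothLib.DR.preservesFiniteLimits_extendScalars (algebraMap A C) GrothLib.DR.flat_algebraMap
  have hmax : (maximalIdeal C).comap (algebraMap B C) = m := IsLocalization.AtPrime.under_maximalIdeal C m
  have hp : (maximalIdeal C).comap (algebraMap A C) = m.comap (algebraMap A B) := by
    conv_rhs => rw [← hmax]
    rw [Ideal.comap_comap, ← IsScalarTower.algebraMap_eq A B C]
  have hG' : LocCoh.IsGorensteinLocalRing (C ⧸ ((maximalIdeal C).comap (algebraMap A C)).map (algebraMap A C)) := by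
    rw [hp]
    exact hG m
  obtain ⟨n, hn, hvan⟩ := subsingleton_residue_of_flat_gorenstein C hω hG'
  have hC : ringKrullDim C ≤ D := by
    rw [IsLocalization.AtPrime.ringKrullDim_eq_height m C]
    exact le_trans (Ideal.height_le_ringKrullDim_of_ne_top (‹m.IsMaximal›).ne_top) hD
  have hnD : n ≤ D := by exact_mod_cast hn.trans hC
  have h1 := (hdeg ⟨(maximalIdeal C).comap (algebraMap A C), inferInstance⟩).2
  haveI h2 : Subsingleton (Dual.inD C (C ⧸ maximalIdeal C) ⟶ ((bcD C).obj ω)⟦i⟧) := hvan i (by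
    have h1' : deg hω ((maximalIdeal C).comap (algebraMap A C)) ≤ b' := h1
    omega)
  obtain ⟨ec⟩ := nonempty_bcD_comp B C ω
  have hmap : m.map (algebraMap B C) = maximalIdeal C := Localization.AtPrime.map_eq_maximalIdeal
  obtain ⟨E⟩ := nonempty_equiv_quotient_bcD C ((bcD B).obj ω) a m i
  haveI h3 : Subsingleton (EH ((bcD C).obj ((bcD B).obj ω)) (Dual.inD C (C ⧸ m.map (algebraMap B C))) i) := by
    rw [hmap]
    exact ((Iso.refl (Dual.inD C (C ⧸ maximalIdeal C))).homCongr ((shiftFunctor (Dual.D C) i).mapIso ec)).subsingleton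
  have h4 : Subsingleton (C ⊗[B] EH ((bcD B).obj ω) (Dual.inD B (B ⧸ m)) i) := E.symm.toEquiv.subsingleton
  refine subsingleton_of_forall_eq 0 fun φ => ?_
  obtain ⟨s, hs, hsφ⟩ := (subsingleton_tensor_localization_iff m.primeCompl C _).1 h4 φ
  obtain ⟨r, j, hj, hr⟩ := Ideal.IsMaximal.exists_inv ‹m.IsMaximal› hs
  calc φ = (r * s + j) • φ := by rw [hr, one_smul]
    _ = 0 := by rw [add_smul, mul_smul, hsφ, smul_zero, smul_EH_quotient m i j hj φ, add_zero]

/-- Finite type algebras over rings of finite dimension have finite dimension. -/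
theorem exists_dim_bound_finiteType [IsNoetherianRing A] (h : ringKrullDim A < ⊤) (B : Type u) [CommRing B]
    [Algebra A B] [Algebra.FiniteType A B] : ∃ D : ℕ, ringKrullDim B ≤ D := by
  obtain ⟨n, f, hf⟩ := Algebra.FiniteType.iff_quotient_mvPolynomial''.1 (inferInstance : Algebra.FiniteType A B)
  obtain ⟨d, hd⟩ : ∃ d : ℕ, ringKrullDim A ≤ d := by
    cases h' : ringKrullDim A with
    | bot => exact ⟨0, bot_le⟩
    | coe x =>
      rw [h'] at h
      obtain ⟨d, rfl⟩ := ENat.ne_top_iff_exists.1 (WithBot.coe_lt_coe.1 h).ne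
      exact ⟨d, le_rfl⟩
  refine ⟨d + n, (ringKrullDim_le_of_surjective f.toRingHom hf).trans ?_⟩
  rw [MvPolynomial.ringKrullDim_of_isNoetherianRing]
  push_cast
  exact add_le_add hd (by simp)

theorem gorenstein_fibLocRing_of_fiber (B : Type u) [CommRing B] [Algebra A B]
    (hG : ∀ p : PrimeSpectrum A, LocCoh.IsGorensteinRing (B ⊗[A] p.asIdeal.ResidueField)) (m : Ideal B) [m.IsPrime] :
    LocCoh.IsGorensteinLocalRing (EGA4.FibLocRing A B m) := by
  obtain ⟨Q, ⟨e⟩⟩ := Excellent.exists_fibre_point (A := A) m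
  have h := GorFlat.isGorensteinRing_of_ringEquiv
    (Algebra.TensorProduct.comm A B ((m.comap (algebraMap A B)).ResidueField)).toRingEquiv
    (hG ⟨m.comap (algebraMap A B), inferInstance⟩)
  haveI := h.isGorensteinLocalRing_localization Q.asIdeal
  exact (GorFlat.gorenstein_congr (R := Localization.AtPrime Q.asIdeal) (S := EGA4.FibLocRing A B m) e).1 inferInstance

end GrothLib.DualRing
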