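import Groth.Agent.Lib.DualRing.SchemeCover
import Groth.Agent.Lib.DualRing.GorGlobal
import Groth.Agent.Lib.DualRing.Dimension
import Groth.Agent.Lib.OX.Adjunction
import Groth.Agent.Lib.OX.PullbackFlat
import Groth.Agent.Lib.AlgSp.GorPoint
import Groth.Agent.Lib.KInj.Adjoint

/-! # Dualizing complexes and flat pullback -/

set_option autoImplicit false
set_option linter.style.haveILetI false
set_option maxHeartbeats 1000000
universe u

open CategoryTheory CategoryTheory.Limits AlgebraicGeometry GrothLib.OX IsLocalRing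
open GrothLib.CMMor6 (FibQuot)

attribute [local instance] HasDerivedCategory.standard

namespace GrothLib.DualRing

variable {X Y : Scheme.{u}}

/-- For a flat morphism the derived pullback is the pullback. -/
theorem nonempty_lpull_flat (f : X ⟶ Y) [Flat f] [DCoh.HasLpull f] [PreservesFiniteLimits (Scheme.Modules.pullback f)] :
    Nonempty (DCoh.Lpull f ≅ (Scheme.Modules.pullback f).mapDerivedCategory) := by
  haveI : DCoh.HasRpush f := KInj.hasRightDerivedFunctor _
  obtain ⟨adj⟩ := nonempty_lpullAdj f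
  obtain ⟨adj'⟩ := KInj.nonempty_mapDerivedCategory_adj_totalRightDerived
    (Scheme.Modules.pullbackPushforwardAdjunction f)
  exact ⟨adj.leftAdjointUniq adj'⟩

/-- Flat pullback on an affine chart is extension of scalars. -/
theorem nonempty_chart_lpull (f : X ⟶ Y) [Flat f] [DCoh.HasLpull f] {A B : Type u} [CommRing A] [CommRing B]
    [Algebra A B] [Module.Flat A B] [PreservesFiniteLimits (DualCx22.bcMod (A := A) B)]
    (i : Spec (CommRingCat.of A) ⟶ Y) [IsOpenImmersion i] (j : Spec (CommRingCat.of B) ⟶ X) [IsOpenImmersion j]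
    (w : j ≫ f = specHom (algebraMap A B) ≫ i) {K : DCoh.D Y} {ω : Dual.D A}
    (e : (resD i).obj K ≅ (DCoh.tildeD (CommRingCat.of A)).obj ω) :
    Nonempty ((resD j).obj ((DCoh.Lpull f).obj K) ≅
      (DCoh.tildeD (CommRingCat.of B)).obj ((DualCx22.bcD B).obj ω)) := by
  let s := specHom (algebraMap A B)
  haveI : Flat s := (HasRingHomProperty.Spec_iff (P := @Flat)).2 (RingHom.flat_algebraMap_iff.2 ‹_›)
  haveI := preservesFiniteLimits_pullback_of_flat f
  haveI := preservesFiniteLimits_pullback_of_flat s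
  haveI := additive_pullback f
  haveI := additive_pullback s
  obtain ⟨l⟩ := nonempty_lpull_flat f
  let H := Scheme.Modules.restrictFunctor i ⋙ Scheme.Modules.pullback s
  haveI : PreservesFiniteLimits H := comp_preservesFiniteLimits _ _
  haveI : PreservesFiniteColimits H := comp_preservesFiniteColimits _ _
  let c : Scheme.Modules.pullback f ⋙ Scheme.Modules.restrictFunctor j ≅ H :=
    Functor.isoWhiskerLeft _ (Scheme.Modules.restrictFunctorIsoPullback j) ≪≫ Scheme.Modules.pullbackComp j f ≪≫
      Scheme.Modules.pullbackCongr w ≪≫ (Scheme.Modules.pullbackComp s i).symm ≪≫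
      Functor.isoWhiskerRight (Scheme.Modules.restrictFunctorIsoPullback i).symm _
  let e1 := DerCat.mapDerivedCompIso (Scheme.Modules.pullback f) (Scheme.Modules.restrictFunctor j) H c
  let e2 := DerCat.mapDerivedCompIso (Scheme.Modules.restrictFunctor i) (Scheme.Modules.pullback s) H (Iso.refl _)
  let T := tilde.functor (CommRingCat.of A)
  let T' := tilde.functor (CommRingCat.of B)
  haveI : PreservesFiniteColimits (DualCx22.bcMod (A := A) B) := by
    dsimp [DualCx22.bcMod]; infer_instance
  let H' := DualCx22.bcMod (A := A) B ⋙ T'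
  haveI : PreservesFiniteLimits H' := comp_preservesFiniteLimits _ _
  haveI : PreservesFiniteColimits H' := comp_preservesFiniteColimits _ _
  let e3 := DerCat.mapDerivedCompIso T (Scheme.Modules.pullback s) H' (tildePullIso (algebraMap A B))
  let e4 := DerCat.mapDerivedCompIso (DualCx22.bcMod (A := A) B) T' H' (Iso.refl _)
  exact ⟨(resD j).mapIso (l.app K) ≪≫ (e1 ≪≫ e2.symm).app K ≪≫
    (Scheme.Modules.pullback s).mapDerivedCategory.mapIso e ≪≫ (e3 ≪≫ e4.symm).app ω⟩

/-- Affine charts adapted to a morphism. -/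
theorem exists_pull_chart (f : X ⟶ Y) [Flat f] {A : Type u} [CommRing A] (i : Spec (CommRingCat.of A) ⟶ Y)
    [IsOpenImmersion i] (x : X) (hx : f x ∈ Set.range i) :
    ∃ (B : Type u) (_ : CommRing B) (_ : Algebra A B) (_ : Module.Flat A B)
      (_ : PreservesFiniteLimits (DualCx22.bcMod (A := A) B))
      (j : Spec (CommRingCat.of B) ⟶ X) (_ : IsOpenImmersion j),
      j ≫ f = specHom (algebraMap A B) ≫ i ∧ x ∈ Set.range j := by
  obtain ⟨U, hU, hxU, hUV⟩ := exists_isAffineOpen_mem_and_subset (x := x) (U := f ⁻¹ᵁ i.opensRange) hx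
  have hr : Set.range (hU.fromSpec ≫ f) ⊆ Set.range i := by
    rintro _ ⟨y, rfl⟩
    have h : hU.fromSpec y ∈ (U : Set X) := hU.range_fromSpec ▸ Set.mem_range_self y
    exact hUV h
  let k : Spec Γ(X, U) ⟶ Spec (CommRingCat.of A) := IsOpenImmersion.lift i (hU.fromSpec ≫ f) hr
  have hk : k ≫ i = hU.fromSpec ≫ f := IsOpenImmersion.lift_fac _ _ _
  letI : Algebra A Γ(X, U) := (Spec.preimage k).hom.toAlgebra
  have hsk : specHom (algebraMap A Γ(X, U)) = k := Spec.map_preimage k
  haveI : Flat k := by
    have h : Flat (k ≫ i) := hk ▸ inferInstance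
    exact MorphismProperty.of_postcomp (W := @Flat) (W' := @IsOpenImmersion) k i inferInstance h
  haveI hflat : Module.Flat A Γ(X, U) := by
    have h : Flat (Spec.map (Spec.preimage k)) := by rw [Spec.map_preimage]; infer_instance
    exact (HasRingHomProperty.Spec_iff (P := @AlgebraicGeometry.Flat)).1 h
  haveI hp : PreservesFiniteLimits (DualCx22.bcMod (A := A) Γ(X, U)) :=
    DR.preservesFiniteLimits_extendScalars (algebraMap A Γ(X, U)) DR.flat_algebraMap
  refine ⟨Γ(X, U), inferInstance, inferInstance, hflat, hp, hU.fromSpec, inferInstance, ?_, mem_range_fromSpec hU hxU⟩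
  exact hk.symm.trans (congrArg (· ≫ i) hsk.symm)

/-- Being dualizing descends along flat surjective morphisms locally of finite type. -/
theorem isDualizingSch_of_lpull [IsLocallyNoetherian X] [IsLocallyNoetherian Y]
    [∀ (U V : Scheme.{u}) (j : U ⟶ V) [IsOpenImmersion j], PreservesFiniteLimits (Scheme.Modules.restrictFunctor j)]
    [∀ (R : CommRingCat.{u}), PreservesFiniteLimits (tilde.functor R)]
    (f : X ⟶ Y) [Flat f] [Surjective f] [LocallyOfFiniteType f] [DCoh.HasLpull f] {K : DCoh.D Y}
    (hK : DCoh.IsQCohD K) (h : Dual2.IsDualizingSch X ((DCoh.Lpull f).obj K)) : Dual2.IsDualizingSch Y K := by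
  intro A _ i _
  haveI : IsLocallyNoetherian (Spec (CommRingCat.of A)) := LocallyOfFiniteType.isLocallyNoetherian i
  haveI hN : IsNoetherianRing A := (isLocallyNoetherian_Spec (R := CommRingCat.of A)).1 inferInstance
  obtain ⟨ω, ⟨e⟩⟩ := exists_tildeD_rep hK i
  refine ⟨ω, ?_, ⟨e.symm⟩⟩
  have key : ∀ p : PrimeSpectrum A, ∃ (B : Type u) (_ : CommRing B) (_ : Algebra A B) (_ : Module.Flat A B)
      (_ : PreservesFiniteLimits (DualCx22.bcMod (A := A) B)),
      p ∈ Set.range (PrimeSpectrum.comap (algebraMap A B)) ∧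
      IsOpen (Set.range (PrimeSpectrum.comap (algebraMap A B))) ∧
      Dual.IsDualizing B ((DualCx22.bcD B).obj ω) := by
    intro p
    obtain ⟨x, hx⟩ := Surjective.surj (f := f) (i p)
    obtain ⟨B, _, _, _, hp, j, _, w, y, rfl⟩ := exists_pull_chart f i x ⟨p, hx.symm⟩
    refine ⟨B, inferInstance, inferInstance, inferInstance, hp, ⟨y, i.isOpenEmbedding.injective ?_⟩, ?_, ?_⟩
    · rw [← hx]
      exact (congrArg (fun g => g y) w).symm
    · haveI : LocallyOfFiniteType (specHom (algebraMap A B)) := by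
        have h : LocallyOfFiniteType (specHom (algebraMap A B) ≫ i) := w ▸ inferInstance
        exact locallyOfFiniteType_of_comp (specHom (algebraMap A B)) i
      haveI : Flat (specHom (algebraMap A B)) :=
        (HasRingHomProperty.Spec_iff (P := @Flat)).2 (RingHom.flat_algebraMap_iff.2 ‹_›)
      haveI : LocallyOfFinitePresentation (specHom (algebraMap A B)) := inferInstance
      exact (specHom (algebraMap A B)).isOpenMap.isOpen_range
    · obtain ⟨c⟩ := nonempty_chart_lpull f i j w e.symm
      obtain ⟨ωB, hωB, ⟨eB⟩⟩ := h B j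
      haveI := (tildeD_full_faithful_essImage (R := CommRingCat.of B)).1
      haveI := (tildeD_full_faithful_essImage (R := CommRingCat.of B)).2.1
      exact DualCx22.isDualizing_of_iso ((DCoh.tildeD (CommRingCat.of B)).preimageIso (eB.symm ≪≫ c)) hωB
  choose B iC iA hF hL hmem hopen hdual using key
  obtain ⟨s, hs⟩ := (CompactSpace.isCompact_univ (X := PrimeSpectrum A)).elim_finite_subcover _ hopen
    fun p _ => Set.mem_iUnion.2 ⟨p, hmem p⟩
  have hd : ∀ p : PrimeSpectrum A, ∃ k : s, p ∈ Set.range (PrimeSpectrum.comap (algebraMap A (B k.1))) := fun p => by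
    obtain ⟨k, hk, hy⟩ := Set.mem_iUnion₂.1 (hs (Set.mem_univ p))
    exact ⟨⟨k, hk⟩, hy⟩
  exact DualCx22.isDualizing_of_finite_family (fun k : s => B k.1) (detectsZero_of_surjective _ hd)
    (detectsZero_of_surjective _ hd) fun k => hdual k.1

/-- The fibre local ring of a ring map. -/
theorem nonempty_fibQuot_spec {A B : Type u} [CommRing A] [CommRing B] [Algebra A B] (q : PrimeSpectrum B) :
    Nonempty (FibQuot (specHom (algebraMap A B)) q ≃+* EGA4.FibLocRing A B q.asIdeal) := by
  let s := specHom (algebraMap A B)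
  let q' : (Spec (CommRingCat.of B) : Scheme.{u}) := q
  letI : Algebra A ((Spec (CommRingCat.of A)).presheaf.stalk (s q')) := StructureSheaf.stalkAlgebra A (s q')
  letI : Algebra B ((Spec (CommRingCat.of B)).presheaf.stalk q') := StructureSheaf.stalkAlgebra B q'
  haveI : IsLocalization.AtPrime ((Spec (CommRingCat.of B)).presheaf.stalk q') q.asIdeal :=
    StructureSheaf.IsLocalization.to_stalk B q'
  haveI : IsLocalization.AtPrime ((Spec (CommRingCat.of A)).presheaf.stalk (s q'))
      (q.asIdeal.comap (algebraMap A B)) :=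
    StructureSheaf.IsLocalization.to_stalk A (s q')
  have hc : (s.stalkMap q').hom.comp (algebraMap A ((Spec (CommRingCat.of A)).presheaf.stalk (s q'))) =
      (algebraMap B ((Spec (CommRingCat.of B)).presheaf.stalk q')).comp (algebraMap A B) :=
    congrArg CommRingCat.Hom.hom
      (stalkMap_toStalk (CommRingCat.ofHom (algebraMap A B)) q')
  let e := IsLocalization.algEquiv q.asIdeal.primeCompl ((Spec (CommRingCat.of B)).presheaf.stalk q')
    (Localization.AtPrime q.asIdeal)
  refine ⟨Ideal.quotientEquiv _ _ e.toRingEquiv ?_⟩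
  rw [← IsLocalization.AtPrime.map_eq_maximalIdeal (q.asIdeal.comap (algebraMap A B))
    ((Spec (CommRingCat.of A)).presheaf.stalk (s q')), Ideal.map_map]
  refine Eq.trans (congrArg (fun g => Ideal.map g _) (RingHom.ext fun a => ?_)) (Ideal.map_map _ _).symm
  refine ((IsScalarTower.algebraMap_apply A B (Localization.AtPrime q.asIdeal) a).trans (e.commutes _).symm).trans ?_
  exact (congrArg e (RingHom.congr_fun hc a)).symm

/-- Pullback along flat Gorenstein morphisms of finite type preserves dualizing complexes. -/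
theorem isDualizingSch_lpull [IsLocallyNoetherian X] [IsLocallyNoetherian Y]
    [∀ (U V : Scheme.{u}) (j : U ⟶ V) [IsOpenImmersion j], PreservesFiniteLimits (Scheme.Modules.restrictFunctor j)]
    [∀ (R : CommRingCat.{u}), PreservesFiniteLimits (tilde.functor R)]
    (f : X ⟶ Y) [Flat f] [LocallyOfFiniteType f] [DCoh.HasLpull f]
    (hG : ∀ x : X, LocCoh.IsGorensteinLocalRing (FibQuot f x)) {K : DCoh.D Y}
    (h : Dual2.IsDualizingSch Y K) : Dual2.IsDualizingSch X ((DCoh.Lpull f).obj K) := by
  refine isDualizingSch_of_dualCharts fun x => ?_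
  obtain ⟨V, hV, hxV, -⟩ := exists_isAffineOpen_mem_and_subset (x := f x) (U := ⊤) trivial
  obtain ⟨ω, hω, ⟨e⟩⟩ := h Γ(Y, V) hV.fromSpec
  haveI := hω.isNoetherianRing
  obtain ⟨B, _, _, _, hp, j, _, w, hx⟩ := exists_pull_chart f hV.fromSpec x (mem_range_fromSpec hV hxV)
  haveI hft : LocallyOfFiniteType (specHom (algebraMap Γ(Y, V) B)) := by
    have h : LocallyOfFiniteType (specHom (algebraMap Γ(Y, V) B) ≫ hV.fromSpec) := w ▸ inferInstance
    exact locallyOfFiniteType_of_comp (specHom (algebraMap Γ(Y, V) B)) hV.fromSpec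
  haveI : Algebra.FiniteType Γ(Y, V) B :=
    RingHom.finiteType_algebraMap.1 ((HasRingHomProperty.Spec_iff (P := @LocallyOfFiniteType)).1 hft)
  haveI : IsNoetherianRing B := Algebra.FiniteType.isNoetherianRing Γ(Y, V) B
  obtain ⟨D, hD⟩ := exists_dim_bound_finiteType (ringKrullDim_lt_top hω) B
  obtain ⟨c⟩ := nonempty_chart_lpull f hV.fromSpec j w e
  refine ⟨B, inferInstance, j, inferInstance, hx, _, isDualizing_bcD_gorenstein B hω D hD fun m _ => ?_, ⟨c⟩⟩
  obtain ⟨em⟩ := nonempty_fibQuot_spec (A := Γ(Y, V)) (⟨m, inferInstance⟩ : PrimeSpectrum B)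
  refine (GorFlat.gorenstein_congr em).1 ?_
  let q' : (Spec (CommRingCat.of B) : Scheme.{u}) := ⟨m, inferInstance⟩
  haveI : LocallyOfFiniteType (f.fiberToSpecResidueField (f (j q'))) :=
    inferInstanceAs (LocallyOfFiniteType (pullback.snd _ _))
  haveI : IsLocallyNoetherian (f.fiber (f (j q'))) :=
    LocallyOfFiniteType.isLocallyNoetherian (f.fiberToSpecResidueField (f (j q')))
  exact (AlgSp.gor_fibQuot_etale_right (j ≫ f) (specHom (algebraMap Γ(Y, V) B)) hV.fromSpec w.symm q').1
    ((AlgSp.gor_fibQuot_etale_left f j q').2 (hG _))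

end GrothLib.DualRing
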