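import Groth.Agent.Lib.DualCx22.CoindDual
import Groth.Agent.Lib.DualRing.ShriekTensor

/-! # Endomorphisms of the relative dual of a perfect algebra -/

set_option autoImplicit false
set_option linter.style.haveILetI false
set_option maxHeartbeats 800000
universe u

open CategoryTheory CategoryTheory.Limits CochainComplex CochainComplex.HomComplex HomologicalComplex GrothLib.DualCx22
open GrothLib.RH (oneCx)

attribute [local instance] HasDerivedCategory.standard

namespace GrothLib.DualRing.ShriekEnd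

variable {A B : Type u} [CommRing A] [CommRing B] (φ : A →+* B)

/-- A bounded complex of finite projective modules is bidual for a resolution of the ring. -/
theorem quasiIso_evI_of_perfect {E I : DRing.Cx A} [I.IsKInjective] {a b : ℤ} (hE : DRing.TermwiseFiniteProjective E)
    (hab : DRing.VanishesOutside E a b) (u : oneCx A ⟶ I) [QuasiIso u] : QuasiIso (evI I E) := by
  let D := DRing.homCx E (oneCx A)
  haveI : E.IsKProjective := DR.isKProjective E b (fun i hi => hab i (Or.inr hi)) (fun i => (hE i).2)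
  haveI : D.IsKProjective := DR.isKProjective D (-a)
    (fun i hi => GrothLib.RH.vanishesOutside_dual hab i (Or.inr hi))
    (fun i => (GrothLib.RH.termwiseFiniteProjective_dual hE i).2)
  haveI := GrothLib.RH.quasiIso_homCxMap_of_isKProjective E u
  haveI := GrothLib.RH.quasiIso_homCxMap_of_isKProjective D u
  haveI := GrothLib.RH.quasiIso_homCxPre (DRing.homCxMap E u) I
  haveI := GrothLib.RH.isIso_ev hE
  have key : evI I E ≫ GrothLib.RH.homCxPre (DRing.homCxMap E u) I = GrothLib.RH.ev E ≫ DRing.homCxMap D u := by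
    refine HomologicalComplex.hom_ext _ _ fun n => ModuleCat.hom_ext (LinearMap.ext fun x => ?_)
    refine Cochain.ext _ _ fun m t h => ModuleCat.hom_ext (LinearMap.ext fun (f : Cochain E (oneCx A) m) => ?_)
    change ((Cochain.ofHom (DRing.homCxMap E u)).comp (evIFun I E n x) (zero_add n)).v m t h f =
      ((GrothLib.RH.evFun E n x).comp (Cochain.ofHom u) (add_zero n)).v m t h f
    rw [Cochain.zero_cochain_comp_v, Cochain.ofHom_v, Cochain.comp_zero_cochain_v, Cochain.ofHom_v]
    change ((m * n).negOnePow : ℤ) • (f.comp (Cochain.ofHom u) (add_zero m)).v n t _ x =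
      u.f t ((n.negOnePow : ℤ) • f.v n t _ x)
    rw [Cochain.comp_zero_cochain_v, Cochain.ofHom_v, map_zsmul]
    by_cases ht : t = 0
    · subst ht
      obtain rfl : m = -n := by omega
      rw [show (-n * n).negOnePow = n.negOnePow from (Int.negOnePow_eq_iff _ _).2 (by
        obtain ⟨k, hk | hk⟩ := Int.even_or_odd' n <;> subst hk
        · exact ⟨-2 * k * k - k, by ring⟩
        · exact ⟨-2 * k * k - 3 * k - 1, by ring⟩)]
      rfl
    · have h0 : f.v n t (by omega) = 0 := (isZero_single_obj_X (ComplexShape.up ℤ) 0 _ t ht).eq_of_tgt _ _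
      rw [h0]
      simp
  haveI : QuasiIso (evI I E ≫ GrothLib.RH.homCxPre (DRing.homCxMap E u) I) := by rw [key]; infer_instance
  exact quasiIso_of_comp_right (evI I E) (GrothLib.RH.homCxPre (DRing.homCxMap E u) I)

/-- **Endomorphisms of the coinduced complex**, from biduality of the algebra. -/
theorem bijective_toEnd_coI (I : DRing.Cx A) [I.IsKInjective] [hq : QuasiIso (evI I (srcCx φ))] :
    Function.Bijective fun b : B => b • 𝟙 (DRing.toD (coI φ I)) := by
  haveI := isKInjective_coI φ I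
  let M := (ModuleCat.restrictScalars.{u} φ).obj (ModuleCat.of B B)
  let η := singleObjXSelf (ComplexShape.up ℤ) 0 M
  let D := DRing.homCx (srcCx φ) I
  have hc : ∀ x : (srcCx φ).X 0, δ 0 1 (evIFun I (srcCx φ) 0 x) = 0 := fun x => by
    have h := ConcreteCategory.congr_hom ((evI I (srcCx φ)).comm 0 1) x
    change δ 0 1 (evIFun I (srcCx φ) 0 x) = evIFun I (srcCx φ) 1 ((srcCx φ).d 0 1 x) at h
    rw [h, HomologicalComplex.single_obj_d]
    exact map_zero _
  let Ψ : (srcCx φ).X 0 → (DRing.toD D ⟶ (DRing.toD I)⟦(0 : ℤ)⟧) := fun x =>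
    GrothLib.DualRing.cocycleHom D I 0 (Cocycle.mk (evIFun I (srcCx φ) 0 x) 1 rfl (hc x))
  have hΨ : Function.Bijective Ψ := by
    refine ⟨fun x x' hx => ?_, fun t => ?_⟩
    · have h0 : GrothLib.DualRing.cocycleHom D I 0 (Cocycle.mk (evIFun I (srcCx φ) 0 x) 1 rfl (hc x) -
          Cocycle.mk (evIFun I (srcCx φ) 0 x') 1 rfl (hc x')) = 0 := by
        rw [GrothLib.DualRing.cocycleHom, map_sub, Functor.map_sub, Preadditive.sub_comp]
        exact sub_eq_zero.2 hx
      obtain ⟨w, hw⟩ := (mem_coboundaries_iff _ (0 - 1) (by omega)).1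
        ((GrothLib.DualRing.cocycleHom_eq_zero_iff D I 0 _).1 h0)
      have hd : ∀ z : (srcCx φ).X 0, (srcCx φ).d 0 (0 + 1) z = 0 := fun z => by
        rw [HomologicalComplex.single_obj_d]; rfl
      obtain ⟨a, ha⟩ := exists_boundary_of_quasiIso (evI I (srcCx φ)) 0 (x - x') (hd _) w
        (hw.trans (map_sub (evIFun I (srcCx φ) 0) x x').symm)
      rw [HomologicalComplex.single_obj_d] at ha
      exact sub_eq_zero.1 ha.symm
    · obtain ⟨z, rfl⟩ := GrothLib.DualRing.cocycleHom_surjective D I 0 t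
      obtain ⟨x, _, w, hw⟩ := exists_cycle_of_quasiIso (evI I (srcCx φ)) 0 z.1 (z.δ_eq_zero 1)
      have h0 : GrothLib.DualRing.cocycleHom D I 0 (Cocycle.mk (evIFun I (srcCx φ) 0 x) 1 rfl (hc x) - z) = 0 :=
        (GrothLib.DualRing.cocycleHom_eq_zero_iff D I 0 _).2
          ((mem_coboundaries_iff _ (0 - 1) (by omega)).2 ⟨w, hw⟩)
      rw [GrothLib.DualRing.cocycleHom, map_sub, Functor.map_sub, Preadditive.sub_comp] at h0
      exact ⟨x, sub_eq_zero.1 h0⟩
  have hmul : ∀ (b : B) (x : (srcCx φ).X 0),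
      DerivedCategory.Q.map (GrothLib.RH.homCxPre (srcMul φ b) I) ≫ Ψ x = Ψ ((srcMul φ b).f 0 x) := by
    intro b x
    have hz : Cocycle.mk (evIFun I (srcCx φ) 0 ((srcMul φ b).f 0 x)) 1 rfl (hc _) =
        (Cocycle.mk (evIFun I (srcCx φ) 0 x) 1 rfl (hc x)).precomp (GrothLib.RH.homCxPre (srcMul φ b) I) :=
      Subtype.ext (ConcreteCategory.congr_hom (congrArg (fun k => HomologicalComplex.Hom.f k 0)
        (evI_naturality I (srcMul φ b))) x)
    change _ = GrothLib.DualRing.cocycleHom D I 0 _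
    rw [hz, GrothLib.DualRing.cocycleHom, Cocycle.equivHomShift_symm_precomp, Functor.map_comp, Category.assoc]
    rfl
  let sh : (DRing.toD I)⟦(0 : ℤ)⟧ ≅ DRing.toD I := (shiftFunctorZero (Dual.D A) ℤ).app _
  let E : (DRing.toD (coI φ I) ⟶ DRing.toD (coI φ I)) → (DRing.toD D ⟶ (DRing.toD I)⟦(0 : ℤ)⟧) := fun h =>
    (resCoIsoD φ I).hom ≫ ((DRing.restrictD φ).map h ≫ coCounit φ I) ≫ sh.inv
  have hE : Function.Bijective E := by
    have : E = (fun t => (resCoIsoD φ I).hom ≫ t) ∘ (fun t => t ≫ sh.inv) ∘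
        fun h => (DRing.restrictD φ).map h ≫ coCounit φ I := rfl
    rw [this]
    exact (resCoIsoD φ I).symm.homFromEquiv.bijective.comp
      (sh.symm.homToEquiv.bijective.comp (coI_bijective φ I _))
  let Ψe := Equiv.ofBijective Ψ hΨ
  refine bijective_toEnd_of_equiv (fun h => (η.hom (Ψe.symm (E h)) : B)) ?_ fun b h => ?_
  · exact ((asIso η.hom).toLinearEquiv.bijective).comp (Ψe.symm.bijective.comp hE)
  · have hb : E (b • h) = DerivedCategory.Q.map (GrothLib.RH.homCxPre (srcMul φ b) I) ≫ E h := by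
      rw [show b • h = (b • 𝟙 (DRing.toD (coI φ I))) ≫ h by rw [Linear.smul_comp, Category.id_comp]]
      change (resCoIsoD φ I).hom ≫ ((DRing.restrictD φ).map _ ≫ coCounit φ I) ≫ sh.inv = _
      rw [Functor.map_comp, Category.assoc, Category.assoc, ← Category.assoc, resCoIsoD_smul]
      simp only [Category.assoc, E]
    have hx : Ψe.symm (E (b • h)) = (srcMul φ b).f 0 (Ψe.symm (E h)) := by
      apply Ψe.injective
      rw [Equiv.apply_symm_apply, hb]
      change _ = Ψ _
      rw [← hmul]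
      exact (congrArg (fun t => DerivedCategory.Q.map (GrothLib.RH.homCxPre (srcMul φ b) I) ≫ t)
        (Ψe.apply_symm_apply (E h))).symm
    change (η.hom (Ψe.symm (E (b • h))) : B) = @HMul.hMul B B B _ b (η.hom (Ψe.symm (E h)))
    rw [hx, srcMul, HomologicalComplex.single_map_f_self]
    change (η.hom (η.inv (b • (η.hom (Ψe.symm (E h)) : B) : M)) : B) = _
    exact ConcreteCategory.congr_hom η.inv_hom_id _

/-- **The relative dual of a perfect algebra is simple.** -/
theorem simple_RA {a b : ℤ} {E : DRing.Cx A} (hE : DRing.TermwiseFiniteProjective E)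
    (hab : DRing.VanishesOutside E a b) (ε : E ⟶ srcCx φ) [QuasiIso ε] :
    (Function.Bijective fun x : B => x • 𝟙 ((GrothLib.DualRing.Shriek.RA φ).obj (Dual.inD A A))) ∧
      ∀ i : ℤ, i ≠ 0 → Subsingleton ((GrothLib.DualRing.Shriek.RA φ).obj (Dual.inD A A) ⟶
        ((GrothLib.DualRing.Shriek.RA φ).obj (Dual.inD A A))⟦i⟧) := by
  obtain ⟨I, hI, ⟨eI⟩⟩ := GrothLib.RH.exists_kInjective_rep (Dual.inD A A)
  let e1 : DRing.toD (oneCx A) ≅ Dual.inD A A :=
    ((DerivedCategory.singleFunctorIsoCompQ (ModuleCat.{u} A) 0).app _).symm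
  obtain ⟨u, hu⟩ := GrothLib.DR.exists_lift_inj (e1 ≪≫ eI).hom
  haveI : QuasiIso u := (DerivedCategory.isIso_Q_map_iff_quasiIso (ModuleCat.{u} A) u).1 (by rw [hu]; infer_instance)
  haveI hq : QuasiIso (evI I (srcCx φ)) :=
    (isBidual_iff_of_quasiIso I ε).1 (quasiIso_evI_of_perfect hE hab u)
  obtain ⟨c⟩ := nonempty_coI_iso φ I (GrothLib.DualRing.Shriek.RA φ) (GrothLib.DualRing.Shriek.radj φ)
  let e := c ≪≫ (GrothLib.DualRing.Shriek.RA φ).mapIso eI.symm
  constructor
  · have h : (fun x : B => x • 𝟙 ((GrothLib.DualRing.Shriek.RA φ).obj (Dual.inD A A))) =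
        (Linear.homCongr B e e) ∘ fun x : B => x • 𝟙 (DRing.toD (coI φ I)) := by
      funext x
      simp [Linear.homCongr_apply]
    rw [h]
    exact (Linear.homCongr B e e).bijective.comp (bijective_toEnd_coI φ I)
  · intro i hi
    obtain ⟨d⟩ := GrothLib.DualRing.exists_HD_homCx_equiv (DRing.homCx (srcCx φ) I) I i
    haveI : Subsingleton (Dual.HD A (DRing.toD (dd I (srcCx φ))) i) :=
      (GrothLib.DR.subsingleton_iff_isZero _).2
        (((isZero_homology_of_X (isZero_single_obj_X _ _ _ _ hi)).of_iso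
          (asIso (homologyMap (evI I (srcCx φ)) i)).symm).of_iso
          ((DerivedCategory.homologyFunctorFactors (ModuleCat.{u} A) i).app _))
    haveI : Subsingleton (DRing.toD (DRing.homCx (srcCx φ) I) ⟶ (DRing.toD I)⟦i⟧) := d.symm.toEquiv.subsingleton
    haveI : Subsingleton ((DRing.restrictD φ).obj ((GrothLib.DualRing.Shriek.RA φ).obj (Dual.inD A A)) ⟶ (Dual.inD A A)⟦i⟧) :=
      ((((DRing.restrictD φ).mapIso e).symm ≪≫ (resCoIsoD φ I).symm).homCongr
        ((CategoryTheory.shiftFunctor (Dual.D A) i).mapIso eI)).subsingleton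
    exact (homEquivShift φ (GrothLib.DualRing.Shriek.radj φ) _ (Dual.inD A A) i).subsingleton

end GrothLib.DualRing.ShriekEnd
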