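import Groth.Agent.Lib.DualRing.GorBC

/-! # Residue fields along flat local maps with Gorenstein closed fibre -/

set_option autoImplicit false
set_option linter.style.haveILetI false
universe u v w

open CategoryTheory CategoryTheory.Limits IsLocalRing GrothLib.DualCx22 TensorProduct

attribute [local instance] HasDerivedCategory.standard

namespace GrothLib.DualRing

section Tensor

variable {A : Type u} [CommRing A] (B : Type u) [CommRing B] [Algebra A B] {H : Type v} [AddCommGroup H] [Module A H]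

/-- Modules killed outside a prime die in a local algebra over it. -/
theorem subsingleton_tensor_of_killed (h : ∀ y : H, ∃ s : A, IsUnit (algebraMap A B s) ∧ s • y = 0) :
    Subsingleton (B ⊗[A] H) := by
  refine subsingleton_of_forall_eq 0 fun z => ?_
  induction z using TensorProduct.induction_on with
  | zero => rfl
  | tmul b y =>
    obtain ⟨s, ⟨u, hu⟩, hs⟩ := h y
    calc b ⊗ₜ[A] y = (s • (b * ↑u⁻¹)) ⊗ₜ[A] y := by
          rw [Algebra.smul_def, ← hu, mul_comm b, ← mul_assoc, Units.mul_inv, one_mul]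
      _ = (b * ↑u⁻¹) ⊗ₜ[A] (s • y) := TensorProduct.smul_tmul s _ y
      _ = 0 := by rw [hs, TensorProduct.tmul_zero]
  | add z z' h1 h2 => rw [h1, h2, add_zero]

/-- A module of length one at a prime becomes the quotient. -/
theorem nonempty_tensor_equiv [Module.Flat A B] (p : Ideal A) [p.IsPrime]
    (hp : ∀ s : A, s ∉ p → IsUnit (algebraMap A B s)) (hk : ∀ a ∈ p, ∀ y : H, a • y = 0) (h1 : len p H = 1) :
    Nonempty (B ⊗[A] (A ⧸ p) ≃ₗ[B] B ⊗[A] H) := by
  obtain ⟨y, hy⟩ : ∃ y : H, ∀ s ∉ p, s • y ≠ 0 := by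
    by_contra! hne
    exact one_ne_zero (h1.symm.trans (len_eq_zero_iff.2 hne))
  let f : (A ⧸ p) →ₗ[A] H := Submodule.liftQ p (LinearMap.toSpanSingleton A H y) fun a ha => hk a ha y
  have hf : Function.Injective f := by
    rw [injective_iff_map_eq_zero]
    intro z hz
    obtain ⟨z, rfl⟩ := Submodule.Quotient.mk_surjective p z
    exact (Submodule.Quotient.mk_eq_zero p).2 (not_not.1 fun hzp => hy z hzp hz)
  let N := Submodule.span A {y}
  have hN : len p N ≠ 0 := fun h0 => by
    obtain ⟨s, hs, hsy⟩ := len_eq_zero_iff.1 h0 ⟨y, Submodule.mem_span_singleton_self y⟩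
    exact hy s hs (congrArg Subtype.val hsy)
  have hsum := len_eq_add (p := p) (f := N.subtype) (g := N.mkQ) (Submodule.subtype_injective N)
    (Submodule.mkQ_surjective N) (LinearMap.exact_subtype_mkQ N)
  rw [h1] at hsum
  have hq : len p (H ⧸ N) = 0 := by
    by_contra hne
    have h2 : (1 : ℕ∞) + 1 ≤ 1 :=
      le_trans (add_le_add (Order.one_le_iff_ne_zero.2 hN) (Order.one_le_iff_ne_zero.2 hne)) hsum.ge
    exact absurd h2 (by decide)
  refine ⟨LinearEquiv.ofBijective (f.baseChange B) ⟨?_, ?_⟩⟩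
  · exact Module.Flat.lTensor_preserves_injective_linearMap f hf
  · intro z
    induction z using TensorProduct.induction_on with
    | zero => exact ⟨0, map_zero _⟩
    | tmul b v =>
      obtain ⟨s, hs, hsv⟩ := len_eq_zero_iff.1 hq (Submodule.Quotient.mk v)
      rw [← Submodule.Quotient.mk_smul, Submodule.Quotient.mk_eq_zero, Submodule.mem_span_singleton] at hsv
      obtain ⟨t, ht⟩ := hsv
      obtain ⟨u, hu⟩ := hp s hs
      refine ⟨(b * ↑u⁻¹) ⊗ₜ Submodule.Quotient.mk t, ?_⟩
      rw [LinearMap.baseChange_tmul, show f (Submodule.Quotient.mk t) = t • y from rfl, ht,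
        ← TensorProduct.smul_tmul, Algebra.smul_def, ← hu, mul_comm b, ← mul_assoc, Units.mul_inv, one_mul]
    | add z z' h1 h2 =>
      obtain ⟨w, rfl⟩ := h1
      obtain ⟨w', rfl⟩ := h2
      exact ⟨w + w', map_add _ _ _⟩

end Tensor

section BC

variable {A : Type u} [CommRing A] (B : Type u) [CommRing B] [Algebra A B] [PreservesFiniteLimits (bcMod (A := A) B)]

/-- The comparison map is linear over the target. -/
theorem θ_smul (X Y : Dual.D A) (b : B) (z : B ⊗[A] (X ⟶ Y)) : θ B X Y (b • z) = b • θ B X Y z := by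
  induction z using TensorProduct.induction_on with
  | zero => rw [smul_zero, map_zero, smul_zero]
  | tmul c f => rw [TensorProduct.smul_tmul', θ_tmul, θ_tmul, smul_smul, smul_eq_mul]
  | add x y hx hy => rw [smul_add, map_add, map_add, smul_add, hx, hy]

/-- The comparison as an equivalence. -/
noncomputable def θEquiv {X Y : Dual.D A} (h : IsBC B X Y) :
    B ⊗[A] (X ⟶ Y) ≃ₗ[B] ((bcD B).obj X ⟶ (bcD B).obj Y) :=
  LinearEquiv.ofBijective { (θ B X Y : B ⊗[A] (X ⟶ Y) →+ _) with map_smul' := θ_smul B X Y } h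

theorem nonempty_equiv_quotient_bcD [IsNoetherianRing A] [Module.Flat A B] (ω : Dual.D A) (a : ℤ) [ω.IsGE a]
    (p : Ideal A) (i : ℤ) :
    Nonempty (EH ((bcD B).obj ω) (Dual.inD B (B ⧸ p.map (algebraMap A B))) i ≃ₗ[B]
      B ⊗[A] EH ω (Dual.inD A (A ⧸ p)) i) := by
  obtain ⟨e⟩ := nonempty_bcD_inD (A := A) B (A ⧸ p)
  let e' : Dual.inD B (B ⊗[A] (A ⧸ p)) ≅ Dual.inD B (B ⧸ p.map (algebraMap A B)) :=
    (DerivedCategory.singleFunctor (ModuleCat.{u} B) 0).mapIso
      (Algebra.TensorProduct.quotIdealMapEquivTensorQuot B p).symm.toLinearEquiv.toModuleIso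
  exact ⟨(Linear.homCongr B (e ≪≫ e').symm (shiftBc B ω i).symm) ≪≫ₗ
    (θEquiv B (isBC_inD B ω a (i - a + 1).toNat (A ⧸ p) i (by omega))).symm⟩

end BC

variable {A : Type u} [CommRing A] [IsNoetherianRing A] (B : Type u) [CommRing B] [IsLocalRing B]
  [IsNoetherianRing B] [Algebra A B] [Module.Flat A B] [PreservesFiniteLimits (bcMod (A := A) B)]
  {ω : Dual.D A} (hω : Dual.IsDualizing A ω)

/-- **Residue fields along a flat map with Gorenstein closed fibre.** -/
theorem subsingleton_residue_of_flat_gorenstein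
    (hG : LocCoh.IsGorensteinLocalRing (B ⧸ ((maximalIdeal B).comap (algebraMap A B)).map (algebraMap A B))) :
    ∃ n : ℕ, (n : WithBot ℕ∞) ≤ ringKrullDim B ∧ ∀ i, i ≠ deg hω ((maximalIdeal B).comap (algebraMap A B)) + n →
      Subsingleton (Dual.inD B (B ⧸ maximalIdeal B) ⟶ ((bcD B).obj ω)⟦i⟧) := by
  let p := (maximalIdeal B).comap (algebraMap A B)
  obtain ⟨a, b, hab⟩ := hω.finite_injective_dimension
  haveI : ω.IsGE a := isGE_of_hom_ring ω a fun i hi => hab A i (Or.inl hi)
  haveI := isGE_bcD B ω a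
  have hp : ∀ s : A, s ∉ p → IsUnit (algebraMap A B s) := fun s hs => by
    by_contra h
    exact hs (show algebraMap A B s ∈ maximalIdeal B from h)
  have hT : ∀ i, i ≠ deg hω p →
      Subsingleton (EH ((bcD B).obj ω) (Dual.inD B (B ⧸ p.map (algebraMap A B))) i) := fun i hi => by
    haveI : Subsingleton (B ⊗[A] EH ω (Dual.inD A (A ⧸ p)) i) := subsingleton_tensor_of_killed B fun y => by
      obtain ⟨s, hs, hsy⟩ := len_eq_zero_iff.1 (mu_ne_deg hω p hi) y
      exact ⟨s, hp s hs, hsy⟩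
    exact (nonempty_equiv_quotient_bcD B ω a p i).some.toEquiv.subsingleton
  obtain ⟨e⟩ := nonempty_tensor_equiv B p hp (smul_EH_quotient (ω := ω) p (deg hω p)) (mu_deg hω p)
  let e' : EH ((bcD B).obj ω) (Dual.inD B (B ⧸ p.map (algebraMap A B))) (deg hω p) ≃ₗ[B] B ⧸ p.map (algebraMap A B) :=
    (nonempty_equiv_quotient_bcD B ω a p (deg hω p)).some ≪≫ₗ e.symm ≪≫ₗ
      (Algebra.TensorProduct.quotIdealMapEquivTensorQuot B p).symm.toLinearEquiv
  haveI := hG
  obtain ⟨n, hn, -⟩ := Gor.exists_dim (B ⧸ p.map (algebraMap A B))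
  refine ⟨n, ?_, subsingleton_residue_of_gorenstein _ a
    (fun M _ _ i hi => subsingleton_hom_of_isLE _ a (Dual.inD B M) 0 i (by omega)) n _ _
    (Ideal.map_le_iff_le_comap.2 le_rfl) hG hn hT ⟨e'⟩⟩
  have h := ringKrullDim_quotient_le (R := B) (p.map (algebraMap A B))
  rw [hn] at h
  exact h

end GrothLib.DualRing
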