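import Groth.Agent.Lib.DualRing.BottomExt
import Groth.Agent.Lib.CMPoly.Basic
import Groth.Agent.Lib.Props8.CMGen
import Groth.Agent.Lib.Equidim6.CondTOpen
import Groth.Prelude.Def_Dual3

/-! # Codimensions along a closed subscheme of affine space over a Cohen–Macaulay point -/

set_option autoImplicit false
set_option linter.style.haveILetI false
set_option maxHeartbeats 800000
universe u

open CategoryTheory CategoryTheory.Limits TensorProduct

attribute [local instance] HasDerivedCategory.standard

namespace GrothLib.DualRing.FibreDim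

open GrothLib.FibPd GrothLib.DualCx22

attribute [local instance] MvPolynomial.algebraMvPolynomial in
/-- Affine space over a Cohen–Macaulay point is Cohen–Macaulay. -/
theorem isCM_atPrime_mvPolynomial {R : Type u} [CommRing R] (p : Ideal R) [p.IsPrime]
    [LocCoh.IsCohenMacaulayLocalRing (Localization.AtPrime p)] {n : ℕ} (x : Ideal (Pol R n)) [x.IsPrime]
    (hx : x.comap (algebraMap R (Pol R n)) ≤ p) :
    LocCoh.IsCohenMacaulayLocalRing (Localization.AtPrime x) := by
  let Rp := Localization.AtPrime p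
  haveI : LocCoh.IsCohenMacaulayRing Rp :=
    ⟨fun q _ => GrothLib.Props8.isCohenMacaulayLocalRing_localization Rp q⟩
  haveI := GrothLib.CMPoly.isCohenMacaulayRing_mvPolynomial Rp n
  let S := Pol Rp n
  let pc := p.primeCompl.map (MvPolynomial.C : R →+* Pol R n)
  haveI : IsLocalization pc S := MvPolynomial.isLocalization p.primeCompl Rp
  have disj : Disjoint (pc : Set (Pol R n)) (x : Set (Pol R n)) := by
    rw [Set.disjoint_left]
    rintro _ ⟨a, ha, rfl⟩ hax
    exact ha (hx hax)
  let xS := x.map (algebraMap (Pol R n) S)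
  haveI : xS.IsPrime := IsLocalization.isPrime_of_isPrime_disjoint pc _ _ ‹_› disj
  haveI : IsLocalization.AtPrime (Localization.AtPrime xS) x := by
    convert IsLocalization.isLocalization_isLocalization_atPrime_isLocalization pc
      (Localization.AtPrime xS) xS
    exact (IsLocalization.under_map_of_isPrime_disjoint pc _ ‹_› disj).symm
  haveI := LocCoh.IsCohenMacaulayRing.isCohenMacaulayLocalRing_localization (R := S) xS
  exact @HB26.isCohenMacaulayLocalRing_of_ringEquiv _ _ _ _
    (IsLocalization.algEquiv x.primeCompl (Localization.AtPrime xS) (Localization.AtPrime x)).toRingEquiv ‹_›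

variable {R A : Type u} [CommRing R] [CommRing A] [Algebra R A] {n : ℕ}
  (ψ : MvPolynomial (Fin n) R →ₐ[R] A) (hψ : Function.Surjective ψ)

include hψ in
/-- The codimension of a component in affine space. -/
theorem le_height_minimal (q₀ : PrimeSpectrum A) (hmin : q₀.asIdeal ∈ minimalPrimes A) (r : ℕ)
    (hr : Dual3.resTrdeg (AlgebraicGeometry.Spec.map (CommRingCat.ofHom (algebraMap R A))) q₀ ≤ (r : Cardinal.{u})) :
    ((n - r : ℕ) : ℕ∞) ≤ Order.height (PrimeSpectrum.comap ψ.toRingHom q₀) := by
  let f := AlgebraicGeometry.Spec.map (CommRingCat.ofHom (algebraMap R A))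
  haveI : Algebra.FiniteType R A := Algebra.FiniteType.of_surjective ψ hψ
  haveI : AlgebraicGeometry.LocallyOfFiniteType f :=
    (AlgebraicGeometry.HasRingHomProperty.Spec_iff (P := @AlgebraicGeometry.LocallyOfFiniteType)).mpr
      (RingHom.finiteType_algebraMap.mpr inferInstance)
  obtain ⟨d, hd, hdim⟩ := GrothLib.Equidim6.fibreDimAt_eq_resTrdeg f q₀ fun z _ hz => by
    have hle : z.asIdeal ≤ q₀.asIdeal := (PrimeSpectrum.le_iff_specializes z q₀).2 hz
    exact PrimeSpectrum.ext (le_antisymm hle (hmin.2 ⟨z.isPrime, bot_le⟩ hle))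
  have hdr : d ≤ r := by
    have : (d : Cardinal.{u}) ≤ (r : Cardinal.{u}) := hd.symm.trans_le hr
    exact_mod_cast this
  obtain ⟨D, hD, hn⟩ := exists_fibre_dims ψ hψ q₀ hdim.le
  let x := PrimeSpectrum.comap ψ.toRingHom q₀
  have h1 : ringKrullDim (EGA4.FibLocRing R (Pol R n) x.asIdeal) ≤ ringKrullDim (Localization.AtPrime x.asIdeal) :=
    ringKrullDim_quotient_le _
  rw [hD, IsLocalization.AtPrime.ringKrullDim_eq_height x.asIdeal, PrimeSpectrum.height_eq_orderHeight] at h1
  refine le_trans ?_ (WithBot.coe_le_coe.1 h1)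
  exact_mod_cast (show n - r ≤ D by omega)

include hψ in
/-- Heights along the closed subscheme. -/
theorem height_add_le (c : ℕ)
    (hmin : ∀ q₀ : PrimeSpectrum A, q₀.asIdeal ∈ minimalPrimes A →
      (c : ℕ∞) ≤ Order.height (PrimeSpectrum.comap ψ.toRingHom q₀)) (q : PrimeSpectrum A) :
    Order.height q + c ≤ Order.height (PrimeSpectrum.comap ψ.toRingHom q) := by
  let G : PrimeSpectrum A → PrimeSpectrum (Pol R n) := PrimeSpectrum.comap ψ.toRingHom
  have hG : StrictMono G := fun a b hab => lt_of_le_of_ne (Ideal.comap_mono hab.le)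
    fun h => hab.ne (PrimeSpectrum.comap_injective_of_surjective _ hψ h)
  have hbase : ∀ a : PrimeSpectrum A, (c : ℕ∞) ≤ Order.height (G a) := fun a => by
    obtain ⟨p₀, hp₀, hle⟩ := Ideal.exists_minimalPrimes_le (bot_le : (⊥ : Ideal A) ≤ a.asIdeal)
    haveI := hp₀.isPrime
    exact (hmin ⟨p₀, inferInstance⟩ hp₀).trans (Order.height_mono (Ideal.comap_mono hle))
  have key : ∀ (m : ℕ) (l : LTSeries (PrimeSpectrum A)), l.length = m →
      (m : ℕ∞) + c ≤ Order.height (G l.last) := by
    intro m
    induction m with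
    | zero => intro l _; simpa using hbase l.last
    | succ m ih =>
      intro l hl
      have h1 := ih l.eraseLast (by simp [hl])
      have h2 : l.eraseLast.last < l.last := l.eraseLast_last_rel_last (by omega)
      refine le_trans ?_ ((add_le_add h1 le_rfl).trans (Order.height_add_one_le (hG h2)))
      push_cast
      rw [add_assoc, add_assoc, add_comm (c : ℕ∞) 1]
  haveI : Nonempty (LTSeries (PrimeSpectrum A)) := ⟨RelSeries.singleton _ q⟩
  rw [Order.height_eq_iSup_last_eq, ENat.iSup_add]
  refine iSup_le fun l => ?_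
  by_cases hl : l.last = q
  · rw [iSup_pos hl, ← hl]
    exact key _ l rfl
  · rw [iSup_neg hl, bot_eq_zero, zero_add]
    exact hbase q

theorem isLocalRing_of_algebraMap_surjective {S T : Type u} [CommRing S] [IsLocalRing S] [CommRing T] [Nontrivial T]
    [Algebra S T] (h : Function.Surjective (algebraMap S T)) : IsLocalRing T :=
  IsLocalRing.of_surjective' (algebraMap S T) h

/-- The depth of affine space over a Cohen–Macaulay point is the height. -/
theorem depth_localization_eq_height [IsNoetherianRing R] (p : Ideal R) [p.IsPrime]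
    [LocCoh.IsCohenMacaulayLocalRing (Localization.AtPrime p)] (x : PrimeSpectrum (Pol R n))
    (hx : x.asIdeal.comap (algebraMap R (Pol R n)) ≤ p) :
    LocCoh.depth (Localization.AtPrime x.asIdeal) (Localization.AtPrime x.asIdeal) = Order.height x := by
  haveI := isCM_atPrime_mvPolynomial p x.asIdeal hx
  have h := LocCoh.IsCohenMacaulayLocalRing.supportDim_eq_depth (R := Localization.AtPrime x.asIdeal)
  rw [Module.supportDim_self_eq_ringKrullDim, IsLocalization.AtPrime.ringKrullDim_eq_height x.asIdeal,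
    PrimeSpectrum.height_eq_orderHeight] at h
  exact (WithBot.coe_injective h).symm

set_option maxHeartbeats 1600000 in
include hψ in
/-- **Depth of the lowest dual along the closed subscheme over a Cohen–Macaulay point.** -/
theorem le_depth_EH_bottom [IsNoetherianRing R] [IsNoetherianRing A] (q : PrimeSpectrum A) (c D k : ℕ)
    (hdep : ∀ q' : PrimeSpectrum A, q'.asIdeal ≤ q.asIdeal → (c : ℕ∞) ≤
      LocCoh.depth (Localization.AtPrime (PrimeSpectrum.comap ψ.toRingHom q').asIdeal)
        (LocalizedModule (PrimeSpectrum.comap ψ.toRingHom q').asIdeal.primeCompl (Pol R n)))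
    (hD : (D : ℕ∞) ≤ LocCoh.depth (Localization.AtPrime (PrimeSpectrum.comap ψ.toRingHom q).asIdeal)
      (Localization.AtPrime (PrimeSpectrum.comap ψ.toRingHom q).asIdeal))
    (hk : k ≤ 2) (hck : c + k ≤ D) (M : Type u) [AddCommGroup M] [Module (Pol R n) M] [Module.Finite (Pol R n) M]
    (E : letI := ψ.toRingHom.toAlgebra
      M ≃ₗ[Pol R n] EH (Dual.inD (Pol R n) (Pol R n)) (Dual.inD (Pol R n) A) c) :
    (k : ℕ∞) ≤ LocCoh.depth (Localization.AtPrime (PrimeSpectrum.comap ψ.toRingHom q).asIdeal)
      (LocalizedModule (PrimeSpectrum.comap ψ.toRingHom q).asIdeal.primeCompl M) := by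
  letI : Algebra (Pol R n) A := ψ.toRingHom.toAlgebra
  haveI : Module.Finite (Pol R n) A := Module.Finite.of_surjective (Algebra.linearMap (Pol R n) A) hψ
  let P := Pol R n
  let Q := (PrimeSpectrum.comap ψ.toRingHom q).asIdeal
  let S := Localization.AtPrime Q
  haveI : IsNoetherianRing S := GrothLib.Depth.isNoetherian_atPrime Q
  haveI := Shriek.pfl_of_flat P (P := S)
  haveI : (Dual.inD P P).IsGE 0 := inferInstance
  let B' := S ⊗[P] A
  have hf : Function.Surjective (algebraMap S B') := by
    intro z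
    induction z using TensorProduct.induction_on with
    | zero => exact ⟨0, map_zero _⟩
    | tmul s a =>
      obtain ⟨b, rfl⟩ := hψ a
      refine ⟨b • s, ?_⟩
      show (b • s) ⊗ₜ[P] (1 : A) = s ⊗ₜ ψ b
      rw [TensorProduct.smul_tmul]
      exact congrArg _ (mul_one _)
    | add a b ha hb =>
      obtain ⟨a', rfl⟩ := ha
      obtain ⟨b', rfl⟩ := hb
      exact ⟨a' + b', map_add _ _ _⟩
  haveI : Nontrivial B' := by
    let Aq := Localization.AtPrime q.asIdeal
    let g : S →ₐ[P] Aq := IsLocalization.liftAlgHom (M := Q.primeCompl) (f := Algebra.ofId P Aq) fun s => by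
      exact IsLocalization.map_units Aq (⟨ψ s, s.2⟩ : q.asIdeal.primeCompl)
    exact (Algebra.TensorProduct.lift g (IsScalarTower.toAlgHom P A Aq) fun _ _ => Commute.all _ _).toRingHom.domain_nontrivial
  haveI : IsLocalRing B' := isLocalRing_of_algebraMap_surjective (S := S) (T := B') hf
  haveI : IsNoetherianRing B' := isNoetherianRing_of_surjective S B' _ hf
  have hc := le_idealDepth_annihilator ψ hψ Q q rfl c hdep
  have hc' : (c : ℕ∞) ≤ LocCoh.idealDepth (Module.annihilator S B') S := by
    refine le_of_le_of_eq hc ?_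
    congr 1
  have h := le_depth_RA_bottom (B := S) (B' := B') hf c D k hc' hD hk hck
  obtain ⟨eA⟩ := nonempty_bcD_inD (A := P) S A
  obtain ⟨eP⟩ := Shriek.nonempty_bcD_self (R := P) (P := S)
  obtain ⟨e3⟩ := Shriek.nonempty_HD_restrictD_RA (P := S) (A := B') (c : ℤ)
  let θ := (θEquiv S (isBC_inD S (Dual.inD P P) 0 ((c : ℤ) + 1).toNat A (c : ℤ) (by omega))) ≪≫ₗ
    Linear.homCongr S eA (shiftBc S (Dual.inD P P) (c : ℤ) ≪≫ (shiftFunctor (Dual.D S) (c : ℤ)).mapIso eP)
  let e := ((LocalizedModule.equivTensorProduct Q.primeCompl M).trans (TensorProduct.AlgebraTensorModule.congr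
    (LinearEquiv.refl S S) E)).trans (θ.trans e3.symm)
  haveI : Module.Finite S (LocalizedModule Q.primeCompl M) :=
    Module.Finite.of_isLocalizedModule Q.primeCompl (LocalizedModule.mkLinearMap Q.primeCompl M)
  haveI := Module.Finite.equiv e
  exact h.trans (GrothLib.Depth.idealDepth_eq_of_equiv _ e).symm.le

include hψ in
/-- Finiteness of the cohomology of the relative dualizing complex. -/
theorem finite_HD_GP_self [IsNoetherianRing R] [IsNoetherianRing A] (i : ℤ) :
    haveI := Shriek.pfl_of_flat R (P := Pol R n)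
    Module.Finite A (Dual.HD A (Shriek.GP ψ (Dual.inD R R)) i) := by
  haveI := Shriek.pfl_of_flat R (P := Pol R n)
  letI : Algebra (Pol R n) A := ψ.toRingHom.toAlgebra
  let P := Pol R n
  haveI : Module.Finite (Pol R n) A := Module.Finite.of_surjective (Algebra.linearMap (Pol R n) A) hψ
  let H := Dual.HD A (Shriek.GP ψ (Dual.inD R R)) i
  letI : Module P H := Module.compHom H ψ.toRingHom
  haveI : IsScalarTower P A H := IsScalarTower.of_algebraMap_smul fun _ _ => rfl
  obtain ⟨e, he⟩ := Shriek.exists_HD_GP_semilinear ψ i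
  let E : H ≃ₗ[P] EH (Dual.inD P P) (Dual.inD P A) (i + n) := e.toLinearEquiv he
  haveI : Module.Finite P H := by
    obtain ⟨e3⟩ := Shriek.nonempty_HD_restrictD_RA (P := P) (A := A) (i + n)
    let X := (Shriek.RA (algebraMap P A)).obj (Dual.inD P P)
    haveI : (Dual.inD P P).IsGE 0 := inferInstance
    haveI : Module.Finite A (Dual.HD A X (i + n)) :=
      finite_HD_rightAdjoint (Shriek.RA (algebraMap P A)) (Shriek.radj (algebraMap P A)) (Dual.inD P P) 0
        (fun i => by
          by_cases hi : i = 0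
          · subst hi
            haveI : Module.Finite P ↑((𝟭 (ModuleCat.{u} P)).obj (ModuleCat.of P P)) := inferInstanceAs (Module.Finite P P)
            exact Module.Finite.equiv
              ((DerivedCategory.singleFunctorCompHomologyFunctorIso (ModuleCat.{u} P) 0).app
                (ModuleCat.of P P)).toLinearEquiv.symm
          · have hz : Limits.IsZero ((DerivedCategory.homologyFunctor (ModuleCat.{u} P) i).obj (Dual.inD P P)) := by
              rcases lt_or_gt_of_ne hi with h | h
              · exact DerivedCategory.isZero_of_isGE _ 0 i h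
              · exact DerivedCategory.isZero_of_isLE _ 0 i h
            haveI := ModuleCat.subsingleton_of_isZero hz
            exact Module.Finite.of_finite) _
    let M' := (ModuleCat.restrictScalars.{u} (algebraMap P A)).obj
      ((DerivedCategory.homologyFunctor (ModuleCat.{u} A) (i + n)).obj X)
    letI : Module A M' := inferInstanceAs (Module A (Dual.HD A X (i + n)))
    haveI : IsScalarTower P A M' := IsScalarTower.of_algebraMap_smul fun _ _ => rfl
    haveI : Module.Finite A M' := ‹Module.Finite A (Dual.HD A X (i + n))›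
    haveI : Module.Finite P M' := Module.Finite.trans A M'
    let eH := ((DerTrunc.homologyMapIso (ModuleCat.restrictScalars.{u} (algebraMap P A)) (i + n)).app X).symm
    haveI : Module.Finite P ↑((DerivedCategory.homologyFunctor (ModuleCat.{u} A) (i + n) ⋙
        ModuleCat.restrictScalars.{u} (algebraMap P A)).obj X) := ‹Module.Finite P M'›
    exact Module.Finite.equiv ((eH.toLinearEquiv ≪≫ₗ e3) ≪≫ₗ E.symm)
  exact Module.Finite.of_restrictScalars_finite P A H

include hψ in
/-- **The relative dualizing complex over a Cohen–Macaulay point.** -/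
theorem le_depth_HD_GP [IsNoetherianRing R] [IsNoetherianRing A] (p : Ideal R) [p.IsPrime]
    [LocCoh.IsCohenMacaulayLocalRing (Localization.AtPrime p)] (r : ℕ)
    (hr : ∀ q : PrimeSpectrum A, q.asIdeal ∈ minimalPrimes A →
      Dual3.resTrdeg (AlgebraicGeometry.Spec.map (CommRingCat.ofHom (algebraMap R A))) q ≤ (r : Cardinal.{u}))
    (q : PrimeSpectrum A) (hq : q.asIdeal.comap (algebraMap R A) ≤ p) :
    haveI := Shriek.pfl_of_flat R (P := Pol R n)
    min ((2 : ℕ) : ℕ∞) (Order.height q) ≤ LocCoh.depth (Localization.AtPrime q.asIdeal)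
      (LocalizedModule q.asIdeal.primeCompl (Dual.HD A (Shriek.GP ψ (Dual.inD R R)) (-(r : ℤ)))) := by
  haveI := Shriek.pfl_of_flat R (P := Pol R n)
  letI : Algebra (Pol R n) A := ψ.toRingHom.toAlgebra
  haveI : Algebra.FiniteType R A := Algebra.FiniteType.of_surjective ψ hψ
  haveI : Algebra.FinitePresentation R A := Algebra.FinitePresentation.of_finiteType.1 inferInstance
  let P := Pol R n
  let H := Dual.HD A (Shriek.GP ψ (Dual.inD R R)) (-(r : ℤ))
  letI : Module P H := Module.compHom H ψ.toRingHom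
  haveI : IsScalarTower P A H := IsScalarTower.of_algebraMap_smul fun _ _ => rfl
  haveI : Module.Finite (Pol R n) A := Module.Finite.of_surjective (Algebra.linearMap (Pol R n) A) hψ
  let x := PrimeSpectrum.comap ψ.toRingHom q
  obtain ⟨e, he⟩ := Shriek.exists_HD_GP_semilinear ψ (-(r : ℤ))
  let E : H ≃ₗ[P] EH (Dual.inD P P) (Dual.inD P A) (-(r : ℤ) + n) := e.toLinearEquiv he
  haveI : Module.Finite A H := finite_HD_GP_self ψ hψ _
  haveI : Module.Finite P H := Module.Finite.trans A H
  have h1 : LocCoh.depth (Localization.AtPrime x.asIdeal) (LocalizedModule x.asIdeal.primeCompl H) =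
      LocCoh.depth (Localization.AtPrime q.asIdeal) (LocalizedModule q.asIdeal.primeCompl H) := by
    refine GrothLib.Faltings.depth_localization_comap (M := H) (M' := H) x.asIdeal q.asIdeal rfl LinearMap.id
      (fun z => ?_) (fun z => ⟨1, z, fun h => x.isPrime.ne_top ((Ideal.eq_top_iff_one _).2 h), one_smul _ _⟩)
      (fun m hm => ⟨1, fun h => x.isPrime.ne_top ((Ideal.eq_top_iff_one _).2 h), (one_smul _ _).trans hm⟩)
    obtain ⟨b, rfl⟩ := hψ z
    exact ⟨1, b, fun h => x.isPrime.ne_top ((Ideal.eq_top_iff_one _).2 h), one_smul _ _⟩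
  refine le_of_le_of_eq ?_ h1
  rcases lt_or_ge n r with hnr | hnr
  · haveI : (Dual.inD P P).IsGE 0 := inferInstance
    haveI : Subsingleton (EH (Dual.inD P P) (Dual.inD P A) (-(r : ℤ) + n)) :=
      subsingleton_hom_of_isLE _ 0 (Dual.inD P A) 0 _ (by omega)
    haveI : Subsingleton H := E.toEquiv.subsingleton
    haveI : Subsingleton (LocalizedModule x.asIdeal.primeCompl H) :=
      LocalizedModule.subsingleton_iff.2 fun z => ⟨1, Submonoid.one_mem _, Subsingleton.elim _ _⟩
    rw [GrothLib.Depth.depth_eq_top_of_subsingleton]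
    exact le_top
  have hcomap : ∀ q' : PrimeSpectrum A, q'.asIdeal ≤ q.asIdeal →
      (PrimeSpectrum.comap ψ.toRingHom q').asIdeal.comap (algebraMap R P) ≤ p := fun q' hq' a ha =>
    hq (hq' (show algebraMap R A a ∈ q'.asIdeal from ψ.commutes a ▸ ha))
  have hmin := fun q₀ hq₀ => le_height_minimal ψ hψ q₀ hq₀ r (hr q₀ hq₀)
  have hbase : ∀ q' : PrimeSpectrum A,
      ((n - r : ℕ) : ℕ∞) ≤ Order.height (PrimeSpectrum.comap ψ.toRingHom q') := fun q' =>
    le_add_self.trans (height_add_le ψ hψ _ hmin q')
  haveI : IsNoetherianRing (Localization.AtPrime x.asIdeal) := GrothLib.Depth.isNoetherian_atPrime _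
  obtain ⟨D, hD⟩ : ∃ D : ℕ, Order.height x = D := by
    have : x.asIdeal.height ≠ ⊤ := Ideal.height_ne_top x.isPrime.ne_top
    rw [PrimeSpectrum.height_eq_orderHeight] at this
    exact ⟨_, (ENat.natCast_toNat this).symm⟩
  have hcD : n - r ≤ D := by exact_mod_cast hD ▸ hbase q
  have hdepx := depth_localization_eq_height p x (hcomap q le_rfl)
  refine le_trans ?_ (le_depth_EH_bottom ψ hψ q (n - r) D (min 2 (D - (n - r)))
    (fun q' hq' => ?_) (le_of_eq (hdepx.trans hD).symm) (min_le_left _ _) (by omega) H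
    ((show -(r : ℤ) + n = ((n - r : ℕ) : ℤ) by omega) ▸ E))
  · have h2 := height_add_le ψ hψ _ hmin q
    rw [hD] at h2
    obtain ⟨a, ha⟩ : ∃ a : ℕ, Order.height q = a :=
      ⟨_, (ENat.natCast_toNat (ne_top_of_le_ne_top (ENat.natCast_ne_top D) (le_self_add.trans h2))).symm⟩
    rw [ha] at h2 ⊢
    have h3 : a + (n - r) ≤ D := by exact_mod_cast h2
    rw [show ((2 : ℕ) : ℕ∞) = ((2 : ℕ) : ℕ∞) from rfl, ← Nat.mono_cast.map_min]
    exact_mod_cast (show min 2 a ≤ min 2 (D - (n - r)) by omega)
  · rw [GrothLib.Depth.depth_localization_self, depth_localization_eq_height p _ (hcomap q' hq')]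
    exact hbase q'

include hψ in
/-- Vanishing below minus the dimension of the generic fibres over a Cohen–Macaulay point. -/
theorem neg_le_of_nontrivial_localized [IsNoetherianRing R] [IsNoetherianRing A] (p : Ideal R) [p.IsPrime]
    [LocCoh.IsCohenMacaulayLocalRing (Localization.AtPrime p)] (r : ℕ)
    (hr : ∀ q : PrimeSpectrum A, q.asIdeal ∈ minimalPrimes A →
      Dual3.resTrdeg (AlgebraicGeometry.Spec.map (CommRingCat.ofHom (algebraMap R A))) q ≤ (r : Cardinal.{u}))
    (i : ℤ)
    (h : haveI := Shriek.pfl_of_flat R (P := Pol R n)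
      Nontrivial (LocalizedModule (Algebra.algebraMapSubmonoid A p.primeCompl)
        (Dual.HD A (Shriek.GP ψ (Dual.inD R R)) i))) :
    -(r : ℤ) ≤ i := by
  haveI := Shriek.pfl_of_flat R (P := Pol R n)
  by_contra hlt
  letI : Algebra (Pol R n) A := ψ.toRingHom.toAlgebra
  let H := Dual.HD A (Shriek.GP ψ (Dual.inD R R)) i
  obtain ⟨z, hz⟩ : ∃ z : H, ∀ a ∈ Algebra.algebraMapSubmonoid A p.primeCompl, a • z ≠ 0 := by
    by_contra hne
    push_neg at hne
    exact not_subsingleton_iff_nontrivial.2 h (LocalizedModule.subsingleton_iff.2 fun z => by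
      obtain ⟨a, ha, h0⟩ := hne z
      exact ⟨a, ha, h0⟩)
  obtain ⟨q, hq, hIq, hdisj⟩ := Ideal.exists_le_prime_disjoint (Ideal.torsionOf A H z)
    (Algebra.algebraMapSubmonoid A p.primeCompl)
    (Set.disjoint_left.2 fun a ha haS => hz a haS ((Ideal.mem_torsionOf_iff z a).1 ha))
  haveI := hq
  have hqp : ∀ q' : PrimeSpectrum A, q'.asIdeal ≤ q →
      (PrimeSpectrum.comap ψ.toRingHom q').asIdeal.comap (algebraMap R (Pol R n)) ≤ p := fun q' hq' a ha => by
    by_contra hap
    exact Set.disjoint_left.1 hdisj (hq' (show algebraMap R A a ∈ q'.asIdeal from ψ.commutes a ▸ ha))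
      (Algebra.mem_algebraMapSubmonoid_of_mem ⟨a, hap⟩)
  have hmin := fun q₀ hq₀ => le_height_minimal ψ hψ q₀ hq₀ r (hr q₀ hq₀)
  have h0 := subsingleton_localized_EH_of_depth ψ hψ ⟨q, hq⟩ (n - r) (fun q' hq' => ?_) (i + n) (by omega)
  · rw [subsingleton_tensor_localization_iff (PrimeSpectrum.comap ψ.toRingHom ⟨q, hq⟩).asIdeal.primeCompl] at h0
    obtain ⟨e, he⟩ := Shriek.exists_HD_GP_semilinear ψ i
    obtain ⟨s, hs, hsz⟩ := h0 (e z)
    exact hs (hIq ((Ideal.mem_torsionOf_iff z _).2 (e.injective ((he s z).trans (hsz.trans e.map_zero.symm)))))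
  · rw [GrothLib.Depth.depth_localization_self, depth_localization_eq_height p _ (hqp q' hq')]
    exact le_add_self.trans (height_add_le ψ hψ _ hmin q')

end GrothLib.DualRing.FibreDim
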