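import Mathlib.RingTheory.Length
import Mathlib.RingTheory.LocalRing.Module
import Mathlib.Algebra.Module.LocalizedModule.Exact
import Mathlib.RingTheory.Localization.AtPrime.Basic
import Mathlib.RingTheory.Localization.Finiteness
import Mathlib.RingTheory.Support

/-! # Lengths after localisation at a prime -/

set_option autoImplicit false
universe u v w

namespace GrothLib.DualRing

variable {A : Type u} [CommRing A] (p : Ideal A) [p.IsPrime]

/-- The length of `M_p` over `A_p`. -/
noncomputable def len (M : Type v) [AddCommGroup M] [Module A M] : ℕ∞ :=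
  Module.length (Localization.AtPrime p) (LocalizedModule p.primeCompl M)

variable {p}
variable {M N : Type v} [AddCommGroup M] [Module A M] [AddCommGroup N] [Module A N]

/-- The localisation of a linear map at `p`. -/
noncomputable abbrev locMap (p : Ideal A) [p.IsPrime] (f : M →ₗ[A] N) :
    LocalizedModule p.primeCompl M →ₗ[Localization.AtPrime p] LocalizedModule p.primeCompl N :=
  LocalizedModule.map p.primeCompl f

theorem len_eq_zero_iff : len p M = 0 ↔ ∀ x : M, ∃ s ∉ p, s • x = 0 := by
  rw [len, Module.length_eq_zero_iff, LocalizedModule.subsingleton_iff]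
  exact ⟨fun h x => let ⟨s, hs, hx⟩ := h x; ⟨s, hs, hx⟩, fun h x => let ⟨s, hs, hx⟩ := h x; ⟨s, hs, hx⟩⟩

theorem len_eq_zero_of_subsingleton [Subsingleton M] : len p M = 0 :=
  len_eq_zero_iff.2 fun x => ⟨1, p.one_notMem, Subsingleton.elim _ _⟩

theorem len_eq_zero_of_smul_eq_zero {s : A} (hs : s ∉ p) (h : ∀ x : M, s • x = 0) : len p M = 0 :=
  len_eq_zero_iff.2 fun x => ⟨s, hs, h x⟩

theorem len_congr {M' : Type v} {N' : Type w} [AddCommGroup M'] [Module A M'] [AddCommGroup N'] [Module A N']
    (e : M' ≃ₗ[A] N') : len p M' = len p N' :=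
  LinearEquiv.length_eq (IsLocalizedModule.mapEquiv p.primeCompl (LocalizedModule.mkLinearMap p.primeCompl M')
    (LocalizedModule.mkLinearMap p.primeCompl N') (Localization.AtPrime p) e)

theorem len_eq_add {f : M →ₗ[A] N} {P : Type v} [AddCommGroup P] [Module A P] {g : N →ₗ[A] P}
    (hf : Function.Injective f) (hg : Function.Surjective g) (h : Function.Exact f g) :
    len p N = len p M + len p P :=
  Module.length_eq_add_of_exact (locMap p f) (locMap p g) (LocalizedModule.map_injective _ _ hf)
    (LocalizedModule.map_surjective _ _ hg) (LocalizedModule.map_exact _ _ _ h)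

variable {X₀ X₁ X₂ X₃ X₄ : Type v} [AddCommGroup X₀] [AddCommGroup X₁] [AddCommGroup X₂] [AddCommGroup X₃]
  [AddCommGroup X₄] [Module A X₀] [Module A X₁] [Module A X₂] [Module A X₃] [Module A X₄]
  {f₀ : X₀ →ₗ[A] X₁} {f₁ : X₁ →ₗ[A] X₂} {f₂ : X₂ →ₗ[A] X₃} {f₃ : X₃ →ₗ[A] X₄}

/-- The middle of an exact sequence of five modules whose outer terms vanish at `p`. -/
theorem len_five (h₁ : Function.Exact f₀ f₁) (h₂ : Function.Exact f₁ f₂) (h₃ : Function.Exact f₂ f₃)
    (h₀ : len p X₀ = 0) (h₄ : len p X₄ = 0) : len p X₂ = len p X₁ + len p X₃ := by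
  have hs₀ : Subsingleton (LocalizedModule p.primeCompl X₀) := Module.length_eq_zero_iff.1 h₀
  have hs₄ : Subsingleton (LocalizedModule p.primeCompl X₄) := Module.length_eq_zero_iff.1 h₄
  refine Module.length_eq_add_of_exact (locMap p f₁) (locMap p f₂) ?_ ?_ (LocalizedModule.map_exact _ _ _ h₂)
  · refine (injective_iff_map_eq_zero _).2 fun x hx => ?_
    obtain ⟨w, rfl⟩ := ((LocalizedModule.map_exact p.primeCompl _ _ h₁) x).1 hx
    rw [Subsingleton.elim w 0, map_zero]
  · intro y
    exact ((LocalizedModule.map_exact p.primeCompl _ _ h₃) y).1 (Subsingleton.elim _ _)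

theorem len_middle_eq_zero (h₂ : Function.Exact f₁ f₂) (h₁ : len p X₁ = 0) (h₃ : len p X₃ = 0) :
    len p X₂ = 0 := by
  have hs₁ : Subsingleton (LocalizedModule p.primeCompl X₁) := Module.length_eq_zero_iff.1 h₁
  have hs₃ : Subsingleton (LocalizedModule p.primeCompl X₃) := Module.length_eq_zero_iff.1 h₃
  refine Module.length_eq_zero_iff.2 ⟨fun a b => ?_⟩
  obtain ⟨w, hw⟩ := ((LocalizedModule.map_exact p.primeCompl _ _ h₂) (a - b)).1 (Subsingleton.elim _ _)
  rw [Subsingleton.elim w 0, map_zero] at hw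
  exact sub_eq_zero.1 hw.symm

theorem len_le_of_left (h₁ : Function.Exact f₀ f₁) (h₀ : len p X₀ = 0) : len p X₁ ≤ len p X₂ := by
  have hs₀ : Subsingleton (LocalizedModule p.primeCompl X₀) := Module.length_eq_zero_iff.1 h₀
  refine Module.length_le_of_injective (locMap p f₁) ((injective_iff_map_eq_zero _).2 fun x hx => ?_)
  obtain ⟨w, rfl⟩ := ((LocalizedModule.map_exact p.primeCompl _ _ h₁) x).1 hx
  rw [Subsingleton.elim w 0, map_zero]

theorem len_le_of_right (h₃ : Function.Exact f₂ f₃) (h₄ : len p X₄ = 0) : len p X₃ ≤ len p X₂ := by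
  have hs₄ : Subsingleton (LocalizedModule p.primeCompl X₄) := Module.length_eq_zero_iff.1 h₄
  refine Module.length_le_of_surjective (locMap p f₂) fun y => ?_
  exact ((LocalizedModule.map_exact p.primeCompl _ _ h₃) y).1 (Subsingleton.elim _ _)

theorem len_quotient_prime : len p (A ⧸ p) = 1 := by
  rw [len, Module.length_eq_one_iff, isSimpleModule_iff_quot_maximal]
  refine ⟨IsLocalRing.maximalIdeal _, inferInstance, ⟨?_⟩⟩
  refine ((localizedQuotientEquiv p.primeCompl p).symm).trans (Submodule.quotEquivOfEq _ _ ?_)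
  rw [Submodule.localized, Submodule.localized'_eq_span]
  exact (IsLocalization.AtPrime.map_eq_maximalIdeal p (Localization.AtPrime p))

theorem len_quotient_eq_zero {q : Ideal A} (h : ¬ q ≤ p) : len p (A ⧸ q) = 0 := by
  obtain ⟨s, hsq, hsp⟩ := SetLike.not_le_iff_exists.1 h
  refine len_eq_zero_of_smul_eq_zero hsp fun x => ?_
  obtain ⟨x, rfl⟩ := Ideal.Quotient.mk_surjective x
  exact Ideal.Quotient.eq_zero_iff_mem.2 (q.mul_mem_right x hsq)

end GrothLib.DualRing
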