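import Groth.Prelude.Def_Wider
import Groth.Agent.Lib.DualRing.Len
import Mathlib.Algebra.Homology.DerivedCategory.SingleTriangle
import Mathlib.CategoryTheory.Linear.LinearFunctor
import Mathlib.CategoryTheory.Triangulated.Yoneda
import Mathlib.RingTheory.Noetherian.Basic
import Mathlib.Algebra.Homology.ShortComplex.ModuleCat

/-! # The modules of morphisms into a fixed object of the derived category of a ring -/

set_option autoImplicit false
universe u

open CategoryTheory CategoryTheory.Limits Pretriangulated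

attribute [local instance] HasDerivedCategory.standard

namespace GrothLib.DualRing

variable {A : Type u} [CommRing A]

noncomputable instance linearDerived : Linear A (Dual.D A) :=
  inferInstanceAs (Linear A (DerivedCategory (ModuleCat.{u} A)))

instance linearShiftDerived (n : ℤ) : (shiftFunctor (Dual.D A) n).Linear A :=
  inferInstanceAs ((shiftFunctor (DerivedCategory (ModuleCat.{u} A)) n).Linear A)

/-- `Hom_D(X, ω⟦i⟧)`. -/
abbrev EH (ω : Dual.D A) (X : Dual.D A) (i : ℤ) : Type (u + 1) := X ⟶ ω⟦i⟧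

variable {ω : Dual.D A}

/-- Precomposition. -/
noncomputable def pre {X Y : Dual.D A} (g : X ⟶ Y) (Z : Dual.D A) : (Y ⟶ Z) →ₗ[A] (X ⟶ Z) :=
  Linear.leftComp A Z g

theorem pre_exact (T : Triangle (Dual.D A)) (hT : T ∈ distTriang _) (Z : Dual.D A) :
    Function.Exact (pre T.mor₂ Z) (pre T.mor₁ Z) := by
  intro α
  constructor
  · intro h
    obtain ⟨β, hβ⟩ := Triangle.yoneda_exact₂ T hT α h
    exact ⟨β, hβ.symm⟩
  · rintro ⟨β, rfl⟩
    show T.mor₁ ≫ T.mor₂ ≫ β = 0
    rw [← Category.assoc, comp_distTriang_mor_zero₁₂ T hT, zero_comp]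

/-- Isomorphic sources. -/
noncomputable def congrLeft {X Y : Dual.D A} (e : X ≅ Y) (Z : Dual.D A) : (X ⟶ Z) ≃ₗ[A] (Y ⟶ Z) :=
  Linear.homCongr A e (Iso.refl Z)

/-- Shifting the source. -/
noncomputable def shiftLeft (ω X : Dual.D A) (n i j : ℤ) (h : j + n = i) :
    EH ω (X⟦n⟧) i ≃ₗ[A] EH ω X j :=
  ((LinearEquiv.ofBijective ((shiftFunctor (Dual.D A) n).mapLinearMap A)
    ⟨(shiftFunctor (Dual.D A) n).map_injective, (shiftFunctor (Dual.D A) n).map_surjective⟩).trans
      (Linear.homCongr A (Iso.refl (X⟦n⟧)) ((shiftFunctorAdd' (Dual.D A) j n i h).app ω).symm)).symm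

theorem len_shift (p : Ideal A) [p.IsPrime] (X : Dual.D A) (n i j : ℤ) (h : j + n = i) :
    len p (EH ω (X⟦n⟧) i) = len p (EH ω X j) :=
  len_congr (shiftLeft ω X n i j h)

theorem len_iso (p : Ideal A) [p.IsPrime] {X Y : Dual.D A} (e : X ≅ Y) (i : ℤ) :
    len p (EH ω X i) = len p (EH ω Y i) :=
  len_congr (congrLeft e _)

section Triangle

variable (p : Ideal A) [p.IsPrime] (T : Triangle (Dual.D A)) (hT : T ∈ distTriang _) (i : ℤ)

include hT

theorem len_mid (h₃ : len p (EH ω T.obj₃ i) = 0) (h₁ : len p (EH ω T.obj₁ i) = 0) :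
    len p (EH ω T.obj₂ i) = 0 :=
  len_middle_eq_zero (pre_exact T hT (ω⟦i⟧)) h₃ h₁

/-- The five term sequence of a triangle, at `p`. -/
theorem len_triangle (h₀ : len p (EH ω T.obj₁ (i - 1)) = 0) (h₄ : len p (EH ω T.obj₃ (i + 1)) = 0) :
    len p (EH ω T.obj₂ i) = len p (EH ω T.obj₃ i) + len p (EH ω T.obj₁ i) := by
  have e₁ := pre_exact _ (rot_of_distTriang _ hT) (ω⟦i⟧)
  have e₂ := pre_exact T hT (ω⟦i⟧)
  have e₃ := pre_exact _ (inv_rot_of_distTriang _ hT) (ω⟦i⟧)
  refine len_five e₁ e₂ e₃ ?_ ?_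
  · exact (len_shift p T.obj₁ 1 i (i - 1) (by omega)).trans h₀
  · exact (len_shift p T.obj₃ (-1) i (i + 1) (by omega)).trans h₄

theorem len_triangle_right (h₀ : len p (EH ω T.obj₁ (i - 1)) = 0) :
    len p (EH ω T.obj₃ i) ≤ len p (EH ω T.obj₂ i) := by
  have e₁ := pre_exact _ (rot_of_distTriang _ hT) (ω⟦i⟧)
  exact len_le_of_left (X₁ := EH ω T.obj₃ i) e₁ ((len_shift p T.obj₁ 1 i (i - 1) (by omega)).trans h₀)

theorem len_triangle_left (h₄ : len p (EH ω T.obj₃ (i + 1)) = 0) :
    len p (EH ω T.obj₁ i) ≤ len p (EH ω T.obj₂ i) := by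
  have e₃ := pre_exact _ (inv_rot_of_distTriang _ hT) (ω⟦i⟧)
  exact len_le_of_right (X₃ := EH ω T.obj₁ i) e₃ ((len_shift p T.obj₃ (-1) i (i + 1) (by omega)).trans h₄)

end Triangle

/-- The triangle of a short exact sequence of modules. -/
theorem exists_triangle {M M' M'' : Type u} [AddCommGroup M] [Module A M] [AddCommGroup M'] [Module A M']
    [AddCommGroup M''] [Module A M''] {f : M' →ₗ[A] M} {g : M →ₗ[A] M''} (hf : Function.Injective f)
    (hg : Function.Surjective g) (h : Function.Exact f g) :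
    ∃ T : Triangle (Dual.D A), T ∈ (distTriang (Dual.D A)) ∧ T.obj₁ = Dual.inD A M' ∧ T.obj₂ = Dual.inD A M ∧
      T.obj₃ = Dual.inD A M'' := by
  let S : ShortComplex (ModuleCat.{u} A) := ShortComplex.mk (ModuleCat.ofHom f) (ModuleCat.ofHom g)
    (ModuleCat.hom_ext (LinearMap.ext fun x => h.apply_apply_eq_zero x))
  have hS : S.ShortExact :=
    { exact := (ShortComplex.ShortExact.moduleCat_exact_iff_function_exact S).2 h
      mono_f := (ModuleCat.mono_iff_injective _).2 hf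
      epi_g := (ModuleCat.epi_iff_surjective _).2 hg }
  exact ⟨_, hS.singleTriangle_distinguished, rfl, rfl, rfl⟩

/-- A scalar killing the source kills the morphisms. -/
theorem smul_eq_zero_of_killed {X Z : Dual.D A} {a : A} (h : a • 𝟙 X = 0) (φ : X ⟶ Z) : a • φ = 0 := by
  rw [← Category.id_comp φ, ← Linear.smul_comp, h, zero_comp]

theorem smul_id_inD {M : Type u} [AddCommGroup M] [Module A M] {a : A} (h : ∀ x : M, a • x = 0) :
    a • 𝟙 (Dual.inD A M) = 0 := by
  rw [← (DerivedCategory.singleFunctor (ModuleCat.{u} A) 0).map_id, ← Functor.map_smul,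
    show a • 𝟙 (ModuleCat.of A M) = 0 from ModuleCat.hom_ext (LinearMap.ext h), Functor.map_zero]

theorem finite_mid [IsNoetherianRing A] (T : Triangle (Dual.D A)) (hT : T ∈ distTriang _) (Z : Dual.D A)
    (h₁ : Module.Finite A (T.obj₁ ⟶ Z)) (h₃ : Module.Finite A (T.obj₃ ⟶ Z)) : Module.Finite A (T.obj₂ ⟶ Z) := by
  haveI : IsNoetherian A (T.obj₁ ⟶ Z) := isNoetherian_of_isNoetherianRing_of_finite A _
  haveI : IsNoetherian A (T.obj₃ ⟶ Z) := isNoetherian_of_isNoetherianRing_of_finite A _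
  haveI : IsNoetherian A (T.obj₂ ⟶ Z) := isNoetherian_of_range_eq_ker (pre T.mor₂ Z) (pre T.mor₁ Z)
    (LinearMap.exact_iff.1 (pre_exact T hT Z)).symm
  infer_instance

end GrothLib.DualRing
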