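import Groth.Agent.Lib.DualRing.Locus
import Groth.Agent.Lib.DualCx22.LocalUnique
import Groth.Agent.S11179

/-! # The Gorenstein locus of a ring with a dualizing complex -/

set_option autoImplicit false
set_option linter.style.haveILetI false
universe u

open CategoryTheory CategoryTheory.Limits TensorProduct GrothLib.DualCx22

attribute [local instance] HasDerivedCategory.standard

namespace GrothLib.DualRing

section Local

variable {A : Type u} [CommRing A] [IsLocalRing A] [IsNoetherianRing A] {ω : Dual.D A}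
  (hω : Dual.IsDualizing A ω)
include hω

/-- A local ring is Gorenstein iff a dualizing complex is a free module in one degree. -/
theorem isGorenstein_iff_HD :
    LocCoh.IsGorensteinLocalRing A ↔
      (∀ i j : ℤ, Nontrivial (Dual.HD A ω i) → Nontrivial (Dual.HD A ω j) → i = j) ∧
        ∀ i : ℤ, Module.Free A (Dual.HD A ω i) := by
  constructor
  · intro hG
    obtain ⟨n, ⟨e⟩⟩ := exists_shift_iso_local ((Groth.Agent.S11179.result A).1 hG) hω
    have e' : ∀ i, Dual.HD A ω i ≃ₗ[A] Dual.HD A (Dual.inD A A) (n + i) := fun i =>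
      ((DerivedCategory.homologyFunctor (ModuleCat.{u} A) i).mapIso e).toLinearEquiv ≪≫ₗ
        (nonempty_HD_shift (Dual.inD A A) n i (n + i) rfl).some
    refine ⟨fun i j hi hj => ?_, fun i => ?_⟩
    · have key : ∀ l, Nontrivial (Dual.HD A ω l) → n + l = 0 := fun l hl => not_not.1 fun hne => by
        haveI := GrothLib.DR.subsingleton_HD_inD (A := A) A (n + l) hne
        haveI := (e' l).toEquiv.subsingleton
        exact not_subsingleton (Dual.HD A ω l) inferInstance
      have := key i hi
      have := key j hj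
      omega
    · by_cases h : n + i = 0
      · have h2 : Dual.HD A (Dual.inD A A) (n + i) ≃ₗ[A] A := by
          rw [h]
          exact (GrothLib.DR.inDHomologyIso A).toLinearEquiv
        exact Module.Free.of_equiv ((e' i).trans h2).symm
      · haveI := GrothLib.DR.subsingleton_HD_inD (A := A) A (n + i) h
        haveI := (e' i).toEquiv.subsingleton
        infer_instance
  · rintro ⟨huniq, hfree⟩
    obtain ⟨j, hj⟩ := exists_nontrivial_HD hω
    have hz : ∀ i, i ≠ 0 → IsZero ((DerivedCategory.homologyFunctor (ModuleCat.{u} A) i).obj (ω⟦j⟧)) := by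
      intro i hi
      refine (GrothLib.DR.subsingleton_iff_isZero _).1 (not_nontrivial_iff_subsingleton.1 fun h => hi ?_)
      have h' : Nontrivial (Dual.HD A ω (j + i)) :=
        (nonempty_HD_shift ω j i (j + i) rfl).some.toEquiv.nontrivial_congr.1 h
      have := huniq _ _ h' hj
      omega
    haveI : (ω⟦j⟧).IsGE 0 := (DerivedCategory.isGE_iff _ _).2 fun i hi => hz i (by omega)
    haveI : (ω⟦j⟧).IsLE 0 := (DerivedCategory.isLE_iff _ _).2 fun i hi => hz i (by omega)
    obtain ⟨Y, ⟨e⟩⟩ := DerivedCategory.exists_iso_singleFunctor_obj_of_isGE_of_isLE (ω⟦j⟧) 0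
    let eY : Dual.HD A ω (j + 0) ≃ₗ[A] Y :=
      (nonempty_HD_shift ω j 0 (j + 0) rfl).some.symm ≪≫ₗ
        ((DerivedCategory.homologyFunctor (ModuleCat.{u} A) 0).mapIso e).toLinearEquiv ≪≫ₗ
          (GrothLib.DR.inDHomologyIso Y).toLinearEquiv
    haveI := hfree (j + 0)
    haveI : Nontrivial (Dual.HD A ω (j + 0)) := by rw [add_zero]; exact hj
    let b := (Module.Free.chooseBasis A (Dual.HD A ω (j + 0))).map eY
    obtain ⟨k⟩ : Nonempty (Module.Free.ChooseBasisIndex A (Dual.HD A ω (j + 0))) :=
      (Module.Free.chooseBasis A (Dual.HD A ω (j + 0))).index_nonempty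
    let p : ModuleCat.of A A ⟶ Y := ModuleCat.ofHom (LinearMap.toSpanSingleton A Y (b k))
    let r : Y ⟶ ModuleCat.of A A := ModuleCat.ofHom (b.coord k)
    have hpr : p ≫ r = 𝟙 _ := ModuleCat.hom_ext (LinearMap.ext_ring (by simp [p, r]))
    obtain ⟨a, c, hac⟩ := (isDualizing_shift hω j).finite_injective_dimension
    refine { exists_hasInjectiveDimensionLT := ⟨c.toNat + 1, HasInjectiveDimensionLT.mk fun i hi Z x => ?_⟩ }
    haveI := hac Z (i : ℤ) (Or.inr (by omega))
    apply Abelian.Ext.homEquiv.injective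
    let F := DerivedCategory.singleFunctor (ModuleCat.{u} A) 0
    have h0 : ∀ φ : F.obj Z ⟶ (F.obj (ModuleCat.of A A))⟦(i : ℤ)⟧, φ = 0 := fun φ => by
      have h2 : φ ≫ (F.map p ≫ e.inv)⟦(i : ℤ)⟧' = 0 :=
        Subsingleton.elim (α := Dual.inD A Z ⟶ (ω⟦j⟧)⟦(i : ℤ)⟧) _ _
      calc φ = (φ ≫ (F.map p ≫ e.inv)⟦(i : ℤ)⟧') ≫ (e.hom ≫ F.map r)⟦(i : ℤ)⟧' := by
            rw [Category.assoc, ← Functor.map_comp, Category.assoc, e.inv_hom_id_assoc, ← F.map_comp, hpr, F.map_id,
              CategoryTheory.Functor.map_id, Category.comp_id]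
        _ = 0 := by rw [h2, zero_comp]
    exact (h0 _).trans (h0 _).symm

end Local

variable {A : Type u} [CommRing A] [IsNoetherianRing A] {ω : Dual.D A} (hω : Dual.IsDualizing A ω)
include hω

omit hω [IsNoetherianRing A] in
theorem free_HD_iff_mem_freeLocus (p : PrimeSpectrum A)
    {ω' : Dual.D (Localization.AtPrime p.asIdeal)} {i : ℤ}
    (e : Dual.HD (Localization.AtPrime p.asIdeal) ω' i ≃ₗ[Localization.AtPrime p.asIdeal]
        Localization.AtPrime p.asIdeal ⊗[A] Dual.HD A ω i) :
    Module.Free (Localization.AtPrime p.asIdeal) (Dual.HD (Localization.AtPrime p.asIdeal) ω' i) ↔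
      p ∈ Module.freeLocus A (Dual.HD A ω i) := by
  rw [Module.mem_freeLocus_iff_tensor p (Localization.AtPrime p.asIdeal)]
  exact ⟨fun h => Module.Free.of_equiv e, fun h => Module.Free.of_equiv e.symm⟩

theorem isOpen_gorensteinLocus :
    IsOpen {p : PrimeSpectrum A | LocCoh.IsGorensteinLocalRing (Localization.AtPrime p.asIdeal)} := by
  obtain ⟨s, hs⟩ := exists_bounds hω
  have h : {p : PrimeSpectrum A | LocCoh.IsGorensteinLocalRing (Localization.AtPrime p.asIdeal)} =
      {p : PrimeSpectrum A | LocCoh.IsCohenMacaulayLocalRing (Localization.AtPrime p.asIdeal)} ∩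
        ⋂ i ∈ s, Module.freeLocus A (Dual.HD A ω i) := by
    ext p
    obtain ⟨ω', hω', he⟩ := exists_localized hω p
    simp only [Set.mem_inter_iff, Set.mem_ofPred_eq, Set.mem_iInter, isGorenstein_iff_HD hω', isCM_iff_HD hω']
    refine and_congr_right fun _ => ⟨fun h i _ => (free_HD_iff_mem_freeLocus p (he i).some).1 (h i), fun h i => ?_⟩
    refine (free_HD_iff_mem_freeLocus p (he i).some).2 ?_
    by_cases hi : i ∈ s
    · exact h i hi
    · haveI := hs i hi
      show Module.Free (Localization.AtPrime p.asIdeal) (LocalizedModule p.asIdeal.primeCompl (Dual.HD A ω i))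
      infer_instance
  rw [h]
  refine (isOpen_CMLocus hω).inter ((Finset.finite_toSet s).isOpen_biInter fun i _ => ?_)
  haveI := hω.finite_cohomology i
  haveI := Module.finitePresentation_of_finite A (Dual.HD A ω i)
  exact Module.isOpen_freeLocus

end GrothLib.DualRing
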