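import Groth.Agent.Lib.DualRing.SchemeLocus
import Groth.Agent.Lib.DualRing.GorLocus
import Groth.Agent.Lib.GorFlat.Rings
import Groth.Agent.Lib.OX.OneDegLocus
import Groth.Agent.Lib.OX.TildeKFlat
import Groth.Agent.Lib.OX.HomVanish
import Groth.Agent.Lib.OX.AffineApps
import Groth.Agent.Lib.KSix19.Chart
import Groth.Agent.Lib.OmegaFree.Basic
import Groth.Prelude.Def_Dual3
import Groth.Agent.Lib.Seesaw26.Functions

/-! # Gorenstein schemes and invertible dualizing complexes -/

set_option autoImplicit false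
set_option linter.style.haveILetI false
set_option maxHeartbeats 1000000
universe u

open CategoryTheory CategoryTheory.Limits AlgebraicGeometry TopologicalSpace TensorProduct GrothLib.OX

attribute [local instance] HasDerivedCategory.standard

namespace GrothLib.DualRing

variable {X : Scheme.{u}} [IsLocallyNoetherian X]
  [∀ (U : Scheme.{u}) (j : U ⟶ X) [IsOpenImmersion j], PreservesFiniteLimits (Scheme.Modules.restrictFunctor j)]
  [∀ (R : CommRingCat.{u}), PreservesFiniteLimits (tilde.functor R)]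
  {K : DCoh.D X}

/-- The structure sheaf restricts to the structure sheaf. -/
noncomputable def restrictStructureIso {V W : Scheme.{u}} (g : V ⟶ W) [IsOpenImmersion g] :
    (Scheme.Modules.restrictFunctor g).obj (Coh.structureModule W) ≅ Coh.structureModule V :=
  (Scheme.Modules.restrictFunctorIsoPullback g).app _ ≪≫ PicLoc.pullbackStructureIso g

/-- The free module of rank one is the structure sheaf. -/
noncomputable def freeModOneIso (V : Scheme.{u}) : FlatMod.freeMod V 1 ≅ Coh.structureModule V :=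
  coproductUniqueIso fun _ : Fin 1 => Coh.structureModule V

omit [IsLocallyNoetherian X]
  [∀ (U : Scheme.{u}) (j : U ⟶ X) [IsOpenImmersion j], PreservesFiniteLimits (Scheme.Modules.restrictFunctor j)] in
/-- Restricting a shifted structure sheaf. -/
theorem nonempty_resD_shift {V W : Scheme.{u}} (g : V ⟶ W) [IsOpenImmersion g] (n : ℤ) :
    Nonempty ((resD g).obj ((DCoh.inD W (Coh.structureModule W))⟦n⟧) ≅ (DCoh.inD V (Coh.structureModule V))⟦n⟧) :=
  ⟨((resD g).commShiftIso n).app _ ≪≫ (shiftFunctor (DCoh.D V) n).mapIso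
    (((Scheme.Modules.restrictFunctor g).mapDerivedCategorySingleFunctor 0).app _ ≪≫
      (DerivedCategory.singleFunctor V.Modules 0).mapIso (restrictStructureIso g))⟩

omit [IsLocallyNoetherian X]
  [∀ (U : Scheme.{u}) (j : U ⟶ X) [IsOpenImmersion j], PreservesFiniteLimits (Scheme.Modules.restrictFunctor j)]
  [∀ (R : CommRingCat.{u}), PreservesFiniteLimits (tilde.functor R)] in
/-- An iso on a chart gives one on its range. -/
theorem exists_opens_iso {W : Scheme.{u}} (jj : W ⟶ X) [IsOpenImmersion jj] {n : ℤ}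
    (e : (resD jj).obj K ≅ (DCoh.inD W (Coh.structureModule W))⟦n⟧) :
    Nonempty ((resD jj.opensRange.ι).obj K ≅
      (DCoh.inD (jj.opensRange : Scheme.{u}) (Coh.structureModule (jj.opensRange : Scheme.{u})))⟦n⟧) := by
  have key : ∀ (g : (jj.opensRange : Scheme.{u}) ⟶ X) [IsOpenImmersion g],
      jj.isoOpensRange.inv ≫ jj = g → Nonempty ((resD g).obj K ≅
        (DCoh.inD (jj.opensRange : Scheme.{u}) (Coh.structureModule (jj.opensRange : Scheme.{u})))⟦n⟧) := by
    rintro g _ rfl
    exact ⟨((resDCompIso jj.isoOpensRange.inv jj).app K).symm ≪≫ (resD jj.isoOpensRange.inv).mapIso e ≪≫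
      (nonempty_resD_shift jj.isoOpensRange.inv n).some⟩
  exact key _ (by rw [Iso.inv_comp_eq, Scheme.Hom.isoOpensRange_hom_ι])

/-- Where the dualizing complex is invertible, the local ring is Gorenstein. -/
theorem gorenstein_stalk_of_invertible (hK : Dual2.IsDualizingSch X K) {U : X.Opens} {n : ℤ}
    (e : (resD U.ι).obj K ≅ (DCoh.inD (U : Scheme.{u}) (Coh.structureModule (U : Scheme.{u})))⟦n⟧) {x : X}
    (hx : x ∈ U) : LocCoh.IsGorensteinLocalRing (X.presheaf.stalk x) := by
  obtain ⟨A, j', hj', p, hp⟩ : ∃ (A : CommRingCat.{u}) (j' : Spec A ⟶ (U : Scheme.{u})) (_ : IsOpenImmersion j')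
      (p : PrimeSpectrum A), j' p = ⟨x, hx⟩ := by
    obtain ⟨V, hV, hxV, -⟩ := exists_isAffineOpen_mem_and_subset (X := (U : Scheme.{u})) (x := (⟨x, hx⟩ : U)) (U := ⊤) trivial
    obtain ⟨p, hp⟩ := mem_range_fromSpec hV hxV
    exact ⟨_, hV.fromSpec, inferInstance, p, hp⟩
  let j : Spec A ⟶ X := j' ≫ U.ι
  haveI hj : IsOpenImmersion j := inferInstanceAs (IsOpenImmersion (j' ≫ U.ι))
  haveI : IsLocallyNoetherian (Spec A) := LocallyOfFiniteType.isLocallyNoetherian j
  haveI hN : IsNoetherianRing A := isLocallyNoetherian_Spec.1 inferInstance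
  obtain ⟨ωA, hωA, ⟨e₁⟩⟩ := @hK A _ j hj
  obtain ⟨e₂⟩ := nonempty_resD_shift j' n
  let E : (DCoh.tildeD A).obj ωA ≅ (DCoh.inD (Spec A) (Coh.structureModule (Spec A)))⟦-(-n)⟧ :=
    e₁.symm ≪≫ ((resDCompIso j' U.ι).app K).symm ≪≫ (resD j').mapIso e ≪≫ e₂ ≪≫ eqToIso (by rw [neg_neg]; rfl)
  obtain ⟨hz, ⟨hn⟩⟩ := HD_oneDeg E
  let H : ℤ → ModuleCat.{u} A := fun i => (DerivedCategory.homologyFunctor (ModuleCat.{u} A) i).obj ωA
  have hH0 : ∀ i, i ≠ -n → Subsingleton (H i) := fun i hi => by
    have h1 : IsZero ((tilde.functor A).obj (H i)) := (hz i hi).of_iso (HDTildeIso (R := A) ωA i).symm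
    have h2 : IsZero (H i) := by
      rw [IsZero.iff_id_eq_zero] at h1 ⊢
      exact (tilde.functor A).map_injective (by rw [CategoryTheory.Functor.map_id, h1, Functor.map_zero])
    exact ModuleCat.subsingleton_of_isZero h2
  let t : H (-n) ≅ ModuleCat.of A A :=
    (tilde.functor A).preimageIso ((HDTildeIso (R := A) ωA (-n)).symm ≪≫ hn ≪≫ tildeSelf.symm)
  obtain ⟨ω', hω', he⟩ := exists_localized hωA p
  have hG : LocCoh.IsGorensteinLocalRing (Localization.AtPrime p.asIdeal) := by
    refine (isGorenstein_iff_HD hω').2 ⟨fun a b ha hb => ?_, fun i => ?_⟩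
    · have key : ∀ l, Nontrivial (Dual.HD (Localization.AtPrime p.asIdeal) ω' l) → l = -n := fun l hl =>
        not_not.1 fun hne => by
          haveI : Subsingleton (Dual.HD A ωA l) := hH0 l hne
          haveI := (he l).some.toEquiv.subsingleton
          exact not_subsingleton (Dual.HD (Localization.AtPrime p.asIdeal) ω' l) inferInstance
      exact (key a ha).trans (key b hb).symm
    · by_cases hi : i = -n
      · subst hi
        exact Module.Free.of_equiv ((he _).some ≪≫ₗ TensorProduct.AlgebraTensorModule.congr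
          (LinearEquiv.refl _ _) t.toLinearEquiv ≪≫ₗ TensorProduct.AlgebraTensorModule.rid _ _ _).symm
      · haveI : Subsingleton (Dual.HD A ωA i) := hH0 i hi
        haveI := (he i).some.toEquiv.subsingleton
        infer_instance
  have hjp : j p = x := by
    show U.ι (j' p) = x
    rw [hp]
    rfl
  have e' := (asIso (j.stalkMap p)).commRingCatIsoToRingEquiv.trans (StructureSheaf.stalkIso A p).symm.toRingEquiv
  exact hjp ▸ (GrothLib.GorFlat.gorenstein_congr e').2 hG

/-- Near a point with Gorenstein local ring the dualizing complex is invertible. -/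
theorem exists_invertible_of_gorenstein (hK : Dual2.IsDualizingSch X K) {x : X}
    (hG : LocCoh.IsGorensteinLocalRing (X.presheaf.stalk x)) :
    ∃ (U : X.Opens) (n : ℤ), x ∈ U ∧
      Nonempty ((resD U.ι).obj K ≅ (DCoh.inD (U : Scheme.{u}) (Coh.structureModule (U : Scheme.{u})))⟦n⟧) := by
  obtain ⟨A, j, hj, p, rfl⟩ : ∃ (A : CommRingCat.{u}) (j : Spec A ⟶ X) (_ : IsOpenImmersion j)
      (p : PrimeSpectrum A), j p = x := by
    obtain ⟨V, hV, hxV, -⟩ := exists_isAffineOpen_mem_and_subset (x := x) (U := ⊤) trivial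
    obtain ⟨p, hp⟩ := mem_range_fromSpec hV hxV
    exact ⟨_, hV.fromSpec, inferInstance, p, hp⟩
  haveI : IsLocallyNoetherian (Spec A) := LocallyOfFiniteType.isLocallyNoetherian j
  haveI : IsNoetherianRing A := isLocallyNoetherian_Spec.1 inferInstance
  obtain ⟨ωA, hωA, ⟨e₁⟩⟩ := @hK A _ j hj
  obtain ⟨ω', hω', he⟩ := exists_localized hωA p
  haveI hGp : LocCoh.IsGorensteinLocalRing (Localization.AtPrime p.asIdeal) :=
    (GrothLib.GorFlat.gorenstein_congr ((asIso (j.stalkMap p)).commRingCatIsoToRingEquiv.trans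
      (StructureSheaf.stalkIso A p).symm.toRingEquiv)).1 hG
  obtain ⟨m, ⟨es⟩⟩ := GrothLib.DualCx22.exists_shift_iso_local
    ((Groth.Agent.S11179.result (Localization.AtPrime p.asIdeal)).1 hGp) hω'
  let Ap := Localization.AtPrime p.asIdeal
  have hH : Nonempty (Ap ⊗[A] Dual.HD A ωA (-m) ≃ₗ[Ap] Ap) :=
    ⟨(he (-m)).some.symm ≪≫ₗ
      ((DerivedCategory.homologyFunctor (ModuleCat.{u} Ap) (-m)).mapIso es).toLinearEquiv ≪≫ₗ
      (nonempty_HD_shift (Dual.inD Ap Ap) m (-m) 0 (by omega)).some ≪≫ₗ (GrothLib.DR.inDHomologyIso Ap).toLinearEquiv⟩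
  have hHz : ∀ i, i ≠ -m → p ∉ Module.support A (Dual.HD A ωA i) := fun i hi hmem => by
    haveI := GrothLib.DR.subsingleton_HD_inD (A := Ap) Ap (m + i) (by omega)
    have h : Subsingleton (Dual.HD Ap ω' i) := (((DerivedCategory.homologyFunctor (ModuleCat.{u} Ap) i).mapIso es).toLinearEquiv ≪≫ₗ
      (nonempty_HD_shift (Dual.inD Ap Ap) m i (m + i) rfl).some).toEquiv.subsingleton
    exact (not_nontrivial_iff_subsingleton.2 h) ((nontrivial_HD_iff_mem_support hωA p (he i).some).2 hmem)
  -- a frame of the homology sheaf in the essential degree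
  let H : ℤ → ModuleCat.{u} A := fun i => (DerivedCategory.homologyFunctor (ModuleCat.{u} A) i).obj ωA
  haveI : ∀ i, Module.Finite A (H i) := fun i => hωA.finite_cohomology i
  let q : (Spec A : Scheme.{u}) := p
  letI : Algebra A ((Spec A).presheaf.stalk q) := (specToStalk A q).toAlgebra
  haveI hloc : IsLocalization.AtPrime ((Spec A).presheaf.stalk q) p.asIdeal := by
    exact inferInstanceAs (IsLocalization.AtPrime ((Spec.structureSheaf A).presheaf.stalk p) p.asIdeal)
  let eA : Ap ≃ₐ[A] (Spec A).presheaf.stalk q := IsLocalization.algEquiv p.asIdeal.primeCompl _ _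
  letI : Algebra Ap ((Spec A).presheaf.stalk q) := eA.toAlgHom.toRingHom.toAlgebra
  haveI : IsScalarTower A Ap ((Spec A).presheaf.stalk q) :=
    IsScalarTower.of_algebraMap_eq fun a => (eA.commutes a).symm
  let bT : ((Spec A).presheaf.stalk q ⊗[A] H (-m)) ≃ₗ[(Spec A).presheaf.stalk q] (Spec A).presheaf.stalk q :=
    (TensorProduct.AlgebraTensorModule.cancelBaseChange A Ap _ _ _).symm ≪≫ₗ
      TensorProduct.AlgebraTensorModule.congr (LinearEquiv.refl _ _) hH.some ≪≫ₗ
        TensorProduct.AlgebraTensorModule.rid _ _ _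
  let bS : ((stalk q).obj ((tilde.functor A).obj (H (-m)))) ≃ₗ[(Spec A).presheaf.stalk q] (Spec A).presheaf.stalk q :=
    ((tildeStalkIso A q).app (H (-m))).toLinearEquiv ≪≫ₗ bT
  let b : Module.Basis (Fin 1) ((Spec A).presheaf.stalk q) (((tilde.functor A).obj (H (-m))).presheaf.stalk q) :=
    (Module.Basis.singleton (Fin 1) _).map bS.symm
  obtain ⟨D, ef, hqD, hfr⟩ := GrothLib.Euler.exists_frame_of_stalk_basis
    ((isCoh_tilde_iff _).2 inferInstance) b
  -- the open set
  obtain ⟨s, hs⟩ := exists_bounds hωA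
  let G : (Spec A).Opens := ⟨⋂ i ∈ s.erase (-m), (Module.support A (H i))ᶜ,
    (Finset.finite_toSet _).isOpen_biInter fun i _ => (Module.isClosed_support (R := A) (M := H i)).isOpen_compl⟩
  have hqG : q ∈ G := Set.mem_iInter₂.2 fun i hi => hHz i (Finset.mem_erase.1 hi).1
  let D' : (Spec A).Opens := D ⊓ G
  have hfr' : GrothLib.FinCov.IsFrame ((tilde.functor A).obj (H (-m))) D'
      (fun i => ((tilde.functor A).obj (H (-m))).presheaf.map (homOfLE (inf_le_left : D' ≤ D)).op (ef i)) := by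
    intro W hW
    convert hfr W (hW.trans inf_le_left) using 2 with c
    refine Finset.sum_congr rfl fun i _ => ?_
    rw [← ConcreteCategory.comp_apply, ← Functor.map_comp]
    rfl
  obtain ⟨efree⟩ := GrothLib.FinCov.exists_iso_of_frame hfr'
  let R := (resD D'.ι).obj ((DCoh.tildeD A).obj ωA)
  let hR : ∀ k, DCoh.HD R k ≅ (Scheme.Modules.restrictFunctor D'.ι).obj ((tilde.functor A).obj (H k)) := fun k =>
    HDResIso D'.ι _ k ≪≫ (Scheme.Modules.restrictFunctor D'.ι).mapIso (HDTildeIso (R := A) ωA k)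
  have hz : ∀ k, k ≠ -m → IsZero (DCoh.HD R k) := fun k hk => by
    refine IsZero.of_iso ?_ (hR k)
    refine GrothLib.KSix19.isZero_of_stalks fun y => @ModuleCat.isZero_of_subsingleton _ _ _ ?_
    have hy : (D'.ι y : PrimeSpectrum A) ∉ Module.support A (H k) := by
      by_cases hks : k ∈ s
      · exact Set.mem_iInter₂.1 y.2.2 k (Finset.mem_erase.2 ⟨hk, hks⟩)
      · haveI := hs k hks
        rw [Module.support_eq_empty (R := A) (M := H k)]
        exact Set.notMem_empty _
    replace hy := not_nontrivial_iff_subsingleton.1 (mt (nontrivial_tilde_stalk_iff (R := A) (H k) (D'.ι y)).1 hy)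
    exact @Equiv.subsingleton _ _ (Iso.addCommGroupIsoToAddEquiv
      ((Scheme.Modules.restrictStalkNatIso D'.ι y).app ((tilde.functor A).obj (H k)))).toEquiv hy
  let hn : DCoh.HD R (-m) ≅ Coh.structureModule (D' : Scheme.{u}) := hR (-m) ≪≫ efree ≪≫ freeModOneIso _
  haveI : R.IsGE (-m) := (DerivedCategory.isGE_iff R (-m)).2 fun k hk => hz k (by omega)
  haveI : R.IsLE (-m) := (DerivedCategory.isLE_iff R (-m)).2 fun k hk => hz k (by omega)
  obtain ⟨es'⟩ := DerTrunc.nonempty_iso_single R (-m)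
  let eR : R ≅ (DCoh.inD (D' : Scheme.{u}) (Coh.structureModule (D' : Scheme.{u})))⟦m⟧ :=
    es' ≪≫ (DerivedCategory.singleFunctor _ (-m)).mapIso hn ≪≫
      (((DerivedCategory.singleFunctors _).shiftIso m (-m) 0 (by omega)).app _).symm
  obtain ⟨eV⟩ := exists_opens_iso (X := X) (K := K) (D'.ι ≫ j)
    (((resDCompIso D'.ι j).app K).symm ≪≫ (resD D'.ι).mapIso e₁ ≪≫ eR)
  exact ⟨(D'.ι ≫ j).opensRange, m, ⟨(⟨q, hqD, hqG⟩ : D'), rfl⟩, ⟨eV⟩⟩

end GrothLib.DualRing
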