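import Groth.Agent.Lib.DualRing.GorBC
import Groth.Agent.Lib.DualRing.GorFlatBC
import Groth.Agent.Lib.DualRing.Shift
import Groth.Agent.Lib.GorFlat.Artinian

/-! # Gorenstein quotients from their duals -/

set_option autoImplicit false
set_option linter.style.haveILetI false
universe u

open CategoryTheory CategoryTheory.Limits IsLocalRing Pretriangulated

attribute [local instance] HasDerivedCategory.standard

namespace GrothLib.DualRing

variable {B : Type u} [CommRing B] [IsLocalRing B] [IsNoetherianRing B] {ω : Dual.D B}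
  (hω : Dual.IsDualizing B ω)

include hω in
/-- A quotient whose dual is itself in one degree is Gorenstein. -/
theorem gorenstein_of_dual (J : Ideal B) : ∀ c : ℤ, J ≤ maximalIdeal B →
    (∀ i, i ≠ c → Subsingleton (EH ω (Dual.inD B (B ⧸ J)) i)) →
    Nonempty (EH ω (Dual.inD B (B ⧸ J)) c ≃ₗ[B] (B ⧸ J)) → LocCoh.IsGorensteinLocalRing (B ⧸ J) := by
  refine IsNoetherian.induction (P := fun J : Ideal B => ∀ c : ℤ, J ≤ maximalIdeal B →
    (∀ i, i ≠ c → Subsingleton (EH ω (Dual.inD B (B ⧸ J)) i)) →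
    Nonempty (EH ω (Dual.inD B (B ⧸ J)) c ≃ₗ[B] (B ⧸ J)) → LocCoh.IsGorensteinLocalRing (B ⧸ J)) ?_ J
  intro J ih c hJ hT he
  obtain ⟨e⟩ := he
  haveI : Nontrivial (B ⧸ J) := Ideal.Quotient.nontrivial_iff.2 fun h =>
    (maximalIdeal.isMaximal B).ne_top (top_le_iff.1 (h.ge.trans hJ))
  haveI : IsLocalRing (B ⧸ J) := IsLocalRing.of_surjective' _ Ideal.Quotient.mk_surjective
  by_cases hreg : ∃ y ∈ maximalIdeal (B ⧸ J), IsSMulRegular (B ⧸ J) y
  · obtain ⟨y, hy, hyreg⟩ := hreg
    obtain ⟨x, rfl⟩ := Ideal.Quotient.mk_surjective y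
    have hx : x ∈ maximalIdeal B := by
      rw [mem_maximalIdeal, mem_nonunits_iff]
      exact fun hu => hy (hu.map _)
    have hxJ : x ∉ J := fun h => by
      obtain ⟨z, hz⟩ := exists_ne (0 : B ⧸ J)
      refine hz (hyreg ?_)
      show Ideal.Quotient.mk J x • z = Ideal.Quotient.mk J x • 0
      rw [Ideal.Quotient.eq_zero_iff_mem.2 h, zero_smul, smul_zero]
    have hreg : IsSMulRegular (B ⧸ J) x := fun v w h => hyreg (by
      obtain ⟨v, rfl⟩ := Ideal.Quotient.mk_surjective v
      obtain ⟨w, rfl⟩ := Ideal.Quotient.mk_surjective w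
      exact h)
    obtain ⟨hT', he'⟩ := regular_step ω J x hreg c hT e
    have hlt : J < J ⊔ Ideal.span {x} :=
      lt_of_le_of_ne le_sup_left fun h => hxJ (h ▸ Ideal.mem_sup_right (Ideal.mem_span_singleton_self x))
    have hG := ih _ hlt (c + 1) (sup_le hJ ((Ideal.span_singleton_le_iff_mem _).2 hx)) hT' he'
    have hmap : (Ideal.span {x}).map (Ideal.Quotient.mk J) = Ideal.span {Ideal.Quotient.mk J x} := by
      rw [Ideal.map_span, Set.image_singleton]
    let E : (B ⧸ J) ⧸ Ideal.span {Ideal.Quotient.mk J x} ≃+* B ⧸ (J ⊔ Ideal.span {x}) :=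
      (Ideal.quotEquivOfEq hmap.symm).trans (DoubleQuot.quotQuotEquivQuotSup J (Ideal.span {x}))
    exact (GorFlat.gorenstein_quot_iff hy hyreg).1 ((GorFlat.gorenstein_congr E).2 hG)
  push Not at hreg
  obtain ⟨s, hs, hms⟩ := GorFlat.exists_socle_of_no_regular hreg
  let m := maximalIdeal B
  -- the socle
  let S : Submodule B (B ⧸ J) :=
    { carrier := {z | ∀ a ∈ m, a • z = 0}
      add_mem' := fun hz hw a ha => by rw [smul_add, hz a ha, hw a ha, add_zero]
      zero_mem' := fun a _ => smul_zero a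
      smul_mem' := fun b z hz a ha => by rw [smul_comm, hz a ha, smul_zero] }
  have hmk : ∀ a ∈ m, Ideal.Quotient.mk J a ∈ maximalIdeal (B ⧸ J) := fun a ha => by
    rw [mem_maximalIdeal, mem_nonunits_iff]
    intro hu
    obtain ⟨t, ht⟩ := hu.exists_right_inv
    obtain ⟨t, rfl⟩ := Ideal.Quotient.mk_surjective t
    rw [← map_mul, ← map_one (Ideal.Quotient.mk J), Ideal.Quotient.eq] at ht
    exact (maximalIdeal.isMaximal B).ne_top ((Ideal.eq_top_iff_one _).2 (by
      have := m.sub_mem (m.mul_mem_right t ha) (hJ ht)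
      rwa [sub_sub_cancel] at this))
  have hsS : s ∈ S := fun a ha => hms _ (hmk a ha)
  -- the degree
  have hc : c = deg hω m := by
    by_contra hne
    let f : (B ⧸ m) →ₗ[B] (B ⧸ J) := Submodule.liftQ m (LinearMap.toSpanSingleton B (B ⧸ J) s) fun a ha => hsS a ha
    have hf : Function.Injective f := by
      rw [injective_iff_map_eq_zero]
      intro z hz
      obtain ⟨z, rfl⟩ := Submodule.Quotient.mk_surjective m z
      refine (Submodule.Quotient.mk_eq_zero m).2 (not_not.1 fun hzm => hs ?_)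
      obtain ⟨r, i, hi, hr⟩ := Ideal.IsMaximal.exists_inv (maximalIdeal.isMaximal B) hzm
      calc s = (r * z + i) • s := by rw [hr, one_smul]
        _ = 0 := by rw [add_smul, mul_smul, show z • s = 0 from hz, smul_zero, hsS i hi, add_zero]
    obtain ⟨δ, hTr⟩ := exists_δ hf (Submodule.mkQ_surjective (LinearMap.range f)) (LinearMap.exact_map_mkQ_range f)
    have hω' := isDualizing_shift hω (deg hω m)
    haveI hQ : Subsingleton (EH ω (Dual.inD B ((B ⧸ J) ⧸ LinearMap.range f)) (deg hω m + 1)) := by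
      haveI := subsingleton_EH_pos hω' (isNormalized_shift hω) ((B ⧸ J) ⧸ LinearMap.range f) (i := 1) one_pos
      exact (shiftTarget ω _ (deg hω m) 1 (deg hω m + 1) rfl).symm.toEquiv.subsingleton
    refine (mu_ne_zero_iff hω m _).2 rfl ?_
    haveI : Subsingleton (EH ω (Dual.inD B (B ⧸ m)) (deg hω m)) := by
      refine subsingleton_of_forall_eq 0 fun φ => ?_
      obtain ⟨ψ, hψ⟩ := Triangle.yoneda_exact₂ _ (inv_rot_of_distTriang _ hTr) φ (by
        have h1 : Subsingleton (EH ω ((Dual.inD B ((B ⧸ J) ⧸ LinearMap.range f))⟦(-1 : ℤ)⟧) (deg hω m)) :=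
          (shiftLeft ω _ (-1) (deg hω m) (deg hω m + 1) (by omega)).toEquiv.subsingleton
        exact h1.elim _ _)
      haveI := hT (deg hω m) (Ne.symm hne)
      rw [hψ, Subsingleton.elim (α := EH ω (Dual.inD B (B ⧸ J)) (deg hω m)) ψ 0]
      exact comp_zero
    exact len_eq_zero_of_subsingleton
  subst hc
  have hSk : ∀ a ∈ m, ∀ z : S, a • z = 0 := fun a ha z => Subtype.ext (z.2 a ha)
  have hfin : len m S ≠ ⊤ := len_ne_top_of_minimal (q := m) m (fun t _ h1 h2 => le_antisymm h2 h1) S hSk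
  have hTS : len m (EH ω (Dual.inD B S) (deg hω m)) = len m S := by
    rw [len_EH_eq S (fun i hi => mu_ne_deg hω m hi) hfin, mu_deg, one_mul]
  have hle : len m (EH ω (Dual.inD B S) (deg hω m)) ≤ 1 := by
    obtain ⟨δ, hTr⟩ := exists_δ (Submodule.subtype_injective S) (Submodule.mkQ_surjective S) (LinearMap.exact_subtype_mkQ S)
    have hω' := isDualizing_shift hω (deg hω m)
    haveI hQ : Subsingleton (EH ω (Dual.inD B ((B ⧸ J) ⧸ S)) (deg hω m + 1)) := by
      haveI := subsingleton_EH_pos hω' (isNormalized_shift hω) ((B ⧸ J) ⧸ S) (i := 1) one_pos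
      exact (shiftTarget ω _ (deg hω m) 1 (deg hω m + 1) rfl).symm.toEquiv.subsingleton
    let g := e.symm 1
    have hgen : ∀ φ : EH ω (Dual.inD B S) (deg hω m), ∃ b : B, φ = b • (sM S.subtype ≫ g) := by
      intro φ
      obtain ⟨ψ, hψ⟩ := Triangle.yoneda_exact₂ _ (inv_rot_of_distTriang _ hTr) φ (by
        have h1 : Subsingleton (EH ω ((Dual.inD B ((B ⧸ J) ⧸ S))⟦(-1 : ℤ)⟧) (deg hω m)) :=
          (shiftLeft ω _ (-1) (deg hω m) (deg hω m + 1) (by omega)).toEquiv.subsingleton
        exact h1.elim _ _)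
      obtain ⟨b, hb⟩ := Ideal.Quotient.mk_surjective (e ψ)
      refine ⟨b, hψ.trans ?_⟩
      have hψb : ψ = b • g := e.injective (by
        rw [map_smul, LinearEquiv.apply_symm_apply, ← hb, Algebra.smul_def, mul_one]
        rfl)
      rw [hψb]
      exact Linear.comp_smul _ _ _ (sM S.subtype) b g
    have hk : ∀ a ∈ m, ∀ φ : EH ω (Dual.inD B S) (deg hω m), a • φ = 0 := fun a ha φ =>
      smul_eq_zero_of_killed (smul_id_inD fun z => hSk a ha z) φ
    by_cases hw : sM S.subtype ≫ g = 0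
    · haveI : Subsingleton (EH ω (Dual.inD B S) (deg hω m)) := subsingleton_of_forall_eq 0 fun φ => by
        obtain ⟨b, rfl⟩ := hgen φ
        rw [hw, smul_zero]
      rw [len_eq_zero_of_subsingleton]
      exact bot_le
    · let q : (B ⧸ m) →ₗ[B] EH ω (Dual.inD B S) (deg hω m) :=
        Submodule.liftQ m (LinearMap.toSpanSingleton B _ (sM S.subtype ≫ g)) fun a ha => hk a ha _
      have hq : Function.Bijective q := by
        refine ⟨(injective_iff_map_eq_zero _).2 fun z hz => ?_, fun φ => ?_⟩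
        · obtain ⟨z, rfl⟩ := Submodule.Quotient.mk_surjective m z
          refine (Submodule.Quotient.mk_eq_zero m).2 (not_not.1 fun hzm => hw ?_)
          obtain ⟨r, i, hi, hr⟩ := Ideal.IsMaximal.exists_inv (maximalIdeal.isMaximal B) hzm
          calc sM S.subtype ≫ g = (r * z + i) • (sM S.subtype ≫ g) := by rw [hr, one_smul]
            _ = 0 := by
              rw [add_smul, mul_smul, show z • (sM S.subtype ≫ g) = 0 from hz, smul_zero, hk i hi, add_zero]
        · obtain ⟨b, rfl⟩ := hgen φ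
          exact ⟨Submodule.Quotient.mk b, rfl⟩
      rw [← len_congr (LinearEquiv.ofBijective q hq), len_quotient_prime]
  rw [hTS] at hle
  -- socle is cyclic
  have hspan : ∀ z ∈ S, ∃ b : B, z = b • s := by
    let N : Submodule B S := Submodule.span B {⟨s, hsS⟩}
    have hN : len m N ≠ 0 := fun h0 => by
      obtain ⟨t, ht, ht0⟩ := len_eq_zero_iff.1 h0 ⟨⟨s, hsS⟩, Submodule.mem_span_singleton_self _⟩
      obtain ⟨r, i, hi, hr⟩ := Ideal.IsMaximal.exists_inv (maximalIdeal.isMaximal B) ht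
      refine hs ?_
      calc s = (r * t + i) • s := by rw [hr, one_smul]
        _ = 0 := by
          rw [add_smul, mul_smul, show t • s = 0 from congrArg (fun z : N => (z.1.1)) ht0, smul_zero, hsS i hi, add_zero]
    have hsum : len m S = len m N + len m (S ⧸ N) :=
      len_eq_add (p := m) (M := N) (N := S) (P := S ⧸ N) (Submodule.subtype_injective N)
        (Submodule.mkQ_surjective N) (LinearMap.exact_subtype_mkQ N)
    have hq : len m (S ⧸ N) = 0 := by
      by_contra hne
      have h2 : (1 : ℕ∞) + 1 ≤ 1 :=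
        le_trans (add_le_add (Order.one_le_iff_ne_zero.2 hN) (Order.one_le_iff_ne_zero.2 hne)) (hsum.ge.trans hle)
      exact absurd h2 (by decide)
    haveI := (len_eq_zero_iff_of_killed m (M := S ⧸ N) fun a ha z => by
      obtain ⟨z, rfl⟩ := Submodule.mkQ_surjective N z
      rw [← map_smul, hSk a ha z, map_zero]).1 hq
    intro z hz
    obtain ⟨b, hb⟩ := Submodule.mem_span_singleton.1
      ((Submodule.Quotient.mk_eq_zero N).1 (Subsingleton.elim (Submodule.Quotient.mk (⟨z, hz⟩ : S) : S ⧸ N) 0))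
    exact ⟨b, (congrArg Subtype.val hb).symm⟩
  have hsoc : GorFlat.SocCyclic (B ⧸ J) := by
    refine ⟨s, hs, hms, fun z hz => ?_⟩
    obtain ⟨b, rfl⟩ := hspan z fun a ha => hz _ (hmk a ha)
    exact ⟨Ideal.Quotient.mk J b, rfl⟩
  -- dimension zero
  have hmin : ∀ r : Ideal B, r.IsPrime → J ≤ r → r = m := by
    intro r hr hJr
    obtain ⟨q, hq, hqr⟩ := Ideal.exists_minimalPrimes_le hJr
    haveI := hq.isPrime
    have hfin : len q (B ⧸ J) ≠ ⊤ := len_ne_top_of_minimal (q := q) J
      (fun t ht h1 h2 => le_antisymm h2 (hq.2 ⟨ht, h1⟩ h2)) (B ⧸ J) fun a ha z => by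
        obtain ⟨z, rfl⟩ := Ideal.Quotient.mk_surjective z
        exact Ideal.Quotient.eq_zero_iff_mem.2 (Ideal.mul_mem_right z J ha)
    have h0 : len q (B ⧸ J) ≠ 0 := fun h => by
      obtain ⟨t, ht, ht1⟩ := len_eq_zero_iff.1 h (Submodule.Quotient.mk 1)
      rw [← Submodule.Quotient.mk_smul, Submodule.Quotient.mk_eq_zero, smul_eq_mul, mul_one] at ht1
      exact ht (hq.1.2 ht1)
    have hne := len_EH_ne_zero (ω := ω) (B ⧸ J) ((mu_ne_zero_iff hω q _).2 rfl)
      (Or.inl (mu_ne_deg hω q (i := deg hω q - 1) (by omega))) hfin h0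
    have hqm : deg hω q = deg hω m := not_not.1 fun h => by
      haveI := hT _ h
      exact hne len_eq_zero_of_subsingleton
    have : q = m := not_not.1 fun h => by
      have h' : deg hω q < deg hω m := deg_lt hω (lt_of_le_of_ne (le_maximalIdeal hq.isPrime.ne_top) h)
      omega
    exact le_antisymm (le_maximalIdeal hr.ne_top) (this ▸ hqr)
  haveI : IsArtinianRing (B ⧸ J) := by
    rw [isArtinianRing_iff_krullDimLE_zero]
    refine Ring.krullDimLE_zero_iff.2 fun P hP => ?_
    have h1 := hmin (P.comap (Ideal.Quotient.mk J)) inferInstance (fun a ha => by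
      rw [Ideal.mem_comap, Ideal.Quotient.eq_zero_iff_mem.2 ha]
      exact P.zero_mem)
    have h2 : (P.comap (Ideal.Quotient.mk J)).IsMaximal := h1 ▸ maximalIdeal.isMaximal B
    rw [← Ideal.map_comap_of_surjective _ Ideal.Quotient.mk_surjective P]
    exact (Ideal.map_eq_top_or_isMaximal_of_surjective _ Ideal.Quotient.mk_surjective h2).resolve_left
      (by rw [Ideal.map_comap_of_surjective _ Ideal.Quotient.mk_surjective]; exact hP.ne_top)
  exact GorFlat.gorenstein_of_socCyclic hsoc

end GrothLib.DualRing
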