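import Groth.Agent.Lib.DualRing.Act
import Groth.Agent.Lib.DCxRHom.DualTensor
import Groth.Agent.Lib.DCxKFlat.BaseChange
import Groth.Agent.Lib.DCxKFlat.Derived

/-! # The right adjoint of restriction is tensoring with its value at the ring -/

set_option autoImplicit false
set_option linter.style.haveILetI false
set_option maxHeartbeats 800000
universe u

open CategoryTheory CategoryTheory.Limits MonoidalCategory CochainComplex.HomComplex HomologicalComplex GrothLib.DualCx22
open scoped TensorProduct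
open GrothLib.RH (tens ιT oneCx)

attribute [local instance] HasDerivedCategory.standard

namespace GrothLib.DualRing.Act

section Cmp

variable {P : Type u} [CommRing P] (E Y F : DRing.Cx P)

/-- Postcomposition of a cochain with tensoring by an element. -/
noncomputable def cmpBil (n p m : ℤ) (h : n + p = m) :
    Cochain E Y n →ₗ[P] F.X p →ₗ[P] Cochain E (tens Y F) m :=
  LinearMap.mk₂ P
    (fun z f => Cochain.mk fun r t hrt => ModuleCat.ofHom (((p * r).negOnePow : ℤ) •
      (ιT Y F (r + n) p t (by omega)).hom.comp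
        (((TensorProduct.mk P (Y.X (r + n)) (F.X p)).flip f).comp (z.v r (r + n) rfl).hom)))
    (fun z z' f => Cochain.ext _ _ fun r t hrt => ModuleCat.hom_ext (LinearMap.ext fun e => by
      change ((p * r).negOnePow : ℤ) • ιT Y F (r + n) p t (by omega) ((z.v r (r + n) rfl e + z'.v r (r + n) rfl e) ⊗ₜ f) =
        ((p * r).negOnePow : ℤ) • ιT Y F (r + n) p t (by omega) (z.v r (r + n) rfl e ⊗ₜ f) +
          ((p * r).negOnePow : ℤ) • ιT Y F (r + n) p t (by omega) (z'.v r (r + n) rfl e ⊗ₜ f)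
      rw [TensorProduct.add_tmul, map_add, smul_add]))
    (fun c z f => Cochain.ext _ _ fun r t hrt => ModuleCat.hom_ext (LinearMap.ext fun e => by
      change ((p * r).negOnePow : ℤ) • ιT Y F (r + n) p t (by omega) ((c • z.v r (r + n) rfl e) ⊗ₜ f) =
        c • ((p * r).negOnePow : ℤ) • ιT Y F (r + n) p t (by omega) (z.v r (r + n) rfl e ⊗ₜ f)
      rw [← TensorProduct.smul_tmul', map_smul, smul_comm c]))
    (fun z f f' => Cochain.ext _ _ fun r t hrt => ModuleCat.hom_ext (LinearMap.ext fun e => by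
      change ((p * r).negOnePow : ℤ) • ιT Y F (r + n) p t (by omega) (z.v r (r + n) rfl e ⊗ₜ (f + f')) =
        ((p * r).negOnePow : ℤ) • ιT Y F (r + n) p t (by omega) (z.v r (r + n) rfl e ⊗ₜ f) +
          ((p * r).negOnePow : ℤ) • ιT Y F (r + n) p t (by omega) (z.v r (r + n) rfl e ⊗ₜ f')
      rw [TensorProduct.tmul_add, map_add, smul_add]))
    (fun c z f => Cochain.ext _ _ fun r t hrt => ModuleCat.hom_ext (LinearMap.ext fun e => by
      change ((p * r).negOnePow : ℤ) • ιT Y F (r + n) p t (by omega) (z.v r (r + n) rfl e ⊗ₜ (c • f)) =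
        c • ((p * r).negOnePow : ℤ) • ιT Y F (r + n) p t (by omega) (z.v r (r + n) rfl e ⊗ₜ f)
      rw [TensorProduct.tmul_smul, map_smul, smul_comm c]))

theorem cmpBil_v (n p m : ℤ) (h : n + p = m) (z : Cochain E Y n) (f : F.X p) (r t : ℤ) (hrt : r + m = t)
    (q : ℤ) (hq : r + n = q) (e : E.X r) :
    (cmpBil E Y F n p m h z f).v r t hrt e =
      ((p * r).negOnePow : ℤ) • ιT Y F q p t (by omega) (z.v r q hq e ⊗ₜ f) := by
  subst hq
  rfl

/-- The comparison in degree `m`. -/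
noncomputable def cmpHom (m : ℤ) : (tens (DRing.homCx E Y) F).X m ⟶ (DRing.homCx E (tens Y F)).X m :=
  HomologicalComplex.mapBifunctorDesc fun n p h => ModuleCat.ofHom (TensorProduct.lift (cmpBil E Y F n p m h))

theorem cmpHom_ι (m n p : ℤ) (h : n + p = m) (z : Cochain E Y n) (f : F.X p) :
    cmpHom E Y F m (ιT (DRing.homCx E Y) F n p m h (z ⊗ₜ f)) = cmpBil E Y F n p m h z f :=
  ConcreteCategory.congr_hom (HomologicalComplex.ι_mapBifunctorDesc
    (K₁ := DRing.homCx E Y) (K₂ := F) (F := curriedTensor (ModuleCat.{u} P)) (c := ComplexShape.up ℤ)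
    (f := fun n p h => ModuleCat.ofHom (TensorProduct.lift (cmpBil E Y F n p m h))) n p h) (z ⊗ₜ f)

/-- Tensoring on the target of a complex of homomorphisms. -/
noncomputable def cmpT : tens (DRing.homCx E Y) F ⟶ DRing.homCx E (tens Y F) where
  f := cmpHom E Y F
  comm' m m' hm := by
    obtain rfl : m + 1 = m' := hm
    refine HomologicalComplex.mapBifunctor.hom_ext fun n p (h : n + p = m) =>
      ModuleCat.MonoidalCategory.tensor_ext fun (z : Cochain E Y n) f => ?_
    change δ m (m + 1) (cmpHom E Y F m (ιT _ F n p m h (z ⊗ₜ f))) =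
      cmpHom E Y F (m + 1) ((tens _ F).d m (m + 1) (ιT _ F n p m h (z ⊗ₜ f)))
    rw [cmpHom_ι, GrothLib.RH.d_ιT, map_add, map_zsmul, cmpHom_ι, cmpHom_ι]
    refine Cochain.ext _ _ fun r t hrt => ModuleCat.hom_ext (LinearMap.ext fun e => ?_)
    change (δ m (m + 1) (cmpBil E Y F n p m h z f)).v r t hrt e =
      (cmpBil E Y F (n + 1) p (m + 1) _ (δ n (n + 1) z) f).v r t hrt e +
        (n.negOnePow : ℤ) • (cmpBil E Y F n (p + 1) (m + 1) _ z (F.d p (p + 1) f)).v r t hrt e
    obtain rfl : t = r + m + 1 := by omega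
    rw [GrothLib.RH.δ_app _ r (r + m + 1) (r + m) (r + 1) hrt (by omega) rfl e,
      cmpBil_v E Y F n p m h z f r (r + m) (by omega) (r + n) rfl,
      cmpBil_v E Y F n p m h z f (r + 1) (r + m + 1) (by omega) (r + 1 + n) rfl,
      cmpBil_v E Y F (n + 1) p (m + 1) _ (δ n (n + 1) z) f r (r + m + 1) hrt (r + n + 1) (by omega),
      cmpBil_v E Y F n (p + 1) (m + 1) _ z _ r (r + m + 1) hrt (r + n) rfl, map_zsmul, GrothLib.RH.d_ιT,
      GrothLib.RH.δ_app z r (r + n + 1) (r + n) (r + 1) (by omega) (by omega) rfl e,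
      TensorProduct.add_tmul, map_add, smul_add, smul_add, smul_smul, smul_smul, smul_smul]
    have hs : ∀ (c : ℤ) (y : Y.X (r + n + 1)),
        ιT Y F (r + n + 1) p (r + m + 1) (by omega) ((c • y) ⊗ₜ f) =
          c • ιT Y F (r + n + 1) p (r + m + 1) (by omega) (y ⊗ₜ f) := fun c y => by
      rw [← TensorProduct.smul_tmul', map_zsmul]
    rw [hs, smul_smul]
    have key : ∀ (q : ℤ) (hq : q = r + n + 1) (hq' : r + 1 + n = q) (hι : q + p = r + m + 1),
        ιT Y F q p (r + m + 1) hι (z.v (r + 1) q hq' (E.d r (r + 1) e) ⊗ₜ f) =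
          ιT Y F (r + n + 1) p (r + m + 1) (by omega) (z.v (r + 1) (r + n + 1) (by omega) (E.d r (r + 1) e) ⊗ₜ f) := by
      intro q hq hq' hι
      subst hq
      rfl
    rw [key _ (by omega)]
    have c1 : ((p * r).negOnePow : ℤ) * (r + n).negOnePow = (n.negOnePow : ℤ) * ((p + 1) * r).negOnePow := by
      rw [← Units.val_mul, ← Units.val_mul, ← Int.negOnePow_add, ← Int.negOnePow_add]
      exact congrArg Units.val ((Int.negOnePow_eq_iff _ _).2 ⟨0, by ring⟩)
    have c2 : ((m + 1).negOnePow : ℤ) * (p * (r + 1)).negOnePow =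
        ((p * r).negOnePow : ℤ) * (n + 1).negOnePow := by
      rw [← Units.val_mul, ← Units.val_mul, ← Int.negOnePow_add, ← Int.negOnePow_add]
      exact congrArg Units.val ((Int.negOnePow_eq_iff _ _).2 ⟨p, by subst h; ring⟩)
    rw [c1, c2]
    abel

theorem cmpT_ι (m n p : ℤ) (h : n + p = m) (z : Cochain E Y n) (f : F.X p) :
    (cmpT E Y F).f m (ιT (DRing.homCx E Y) F n p m h (z ⊗ₜ f)) = cmpBil E Y F n p m h z f :=
  cmpHom_ι E Y F m n p h z f

/-- A map of tensor products, on the left factor. -/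
noncomputable abbrev tensMap {Y Y' : DRing.Cx P} (g : Y ⟶ Y') (F : DRing.Cx P) : tens Y F ⟶ tens Y' F :=
  ((GrothLib.KF.tensorCx (R := P)).map g).app F

theorem tensMap_ι {Y Y' : DRing.Cx P} (g : Y ⟶ Y') (F : DRing.Cx P) (m n p : ℤ) (h : n + p = m) (y : Y.X n)
    (f : F.X p) :
    (tensMap g F).f m (ιT Y F n p m h (y ⊗ₜ f)) = ιT Y' F n p m h (g.f n y ⊗ₜ f) := by
  refine (ConcreteCategory.congr_hom (HomologicalComplex.ι_mapBifunctorMap g (𝟙 F)
    (curriedTensor (ModuleCat.{u} P)) (ComplexShape.up ℤ) n p m h) (y ⊗ₜ f)).trans ?_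
  rfl

theorem cmpT_natural {Y Y' : DRing.Cx P} (g : Y ⟶ Y') :
    cmpT E Y F ≫ DRing.homCxMap E (tensMap g F) = tensMap (DRing.homCxMap E g) F ≫ cmpT E Y' F := by
  refine HomologicalComplex.hom_ext _ _ fun m => HomologicalComplex.mapBifunctor.hom_ext fun n p (h : n + p = m) =>
    ModuleCat.MonoidalCategory.tensor_ext fun (z : Cochain E Y n) f => ?_
  change (DRing.homCxMap E (tensMap g F)).f m ((cmpT E Y F).f m (ιT _ F n p m h (z ⊗ₜ f))) =
    (cmpT E Y' F).f m ((tensMap (DRing.homCxMap E g) F).f m (ιT _ F n p m h (z ⊗ₜ f)))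
  rw [cmpT_ι, tensMap_ι, cmpT_ι]
  refine Cochain.ext _ _ fun r t hrt => ModuleCat.hom_ext (LinearMap.ext fun e => ?_)
  change ((cmpBil E Y F n p m h z f).comp (Cochain.ofHom (tensMap g F)) (add_zero m)).v r t hrt e =
    (cmpBil E Y' F n p m h ((z.comp (Cochain.ofHom g) (add_zero n) :)) f).v r t hrt e
  rw [Cochain.comp_zero_cochain_v, Cochain.ofHom_v, cmpBil_v E Y' F n p m h _ f r t hrt (r + n) rfl,
    Cochain.comp_zero_cochain_v, Cochain.ofHom_v]
  refine (ConcreteCategory.comp_apply _ _ e).trans ?_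
  rw [cmpBil_v E Y F n p m h z f r t hrt (r + n) rfl, map_zsmul, tensMap_ι]
  rfl

/-- The scalar in degree zero of the one-term complex. -/
noncomputable def oneVal (n : ℤ) : (oneCx P).X n →ₗ[P] P :=
  if h : n = 0 then h ▸ (singleObjXSelf (ComplexShape.up ℤ) 0 (ModuleCat.of P P)).hom.hom else 0

theorem oneVal_zero : oneVal (P := P) 0 = (singleObjXSelf (ComplexShape.up ℤ) 0 (ModuleCat.of P P)).hom.hom :=
  dif_pos rfl

theorem eq_zero_one {n : ℤ} (h : n ≠ 0) (y : (oneCx P).X n) : y = 0 :=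
  haveI := ModuleCat.subsingleton_of_isZero (isZero_single_obj_X (ComplexShape.up ℤ) 0 (ModuleCat.of P P) n h)
  Subsingleton.elim _ _

/-- The unitor in degree `m`. -/
noncomputable def lamHom (m : ℤ) : (tens (oneCx P) F).X m ⟶ F.X m :=
  HomologicalComplex.mapBifunctorDesc fun n p h =>
    if h0 : n = 0 then ModuleCat.ofHom (TensorProduct.lift ((LinearMap.lsmul P (F.X p)).comp (oneVal n))) ≫
      eqToHom (congrArg F.X (show p = m by have h' : n + p = m := h; omega))
    else 0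

theorem lamHom_ι (m : ℤ) (y : (oneCx P).X 0) (f : F.X m) :
    lamHom F m (ιT (oneCx P) F 0 m m (zero_add m) (y ⊗ₜ f)) = oneVal 0 y • f :=
  (ConcreteCategory.congr_hom (HomologicalComplex.ι_mapBifunctorDesc
    (K₁ := oneCx P) (K₂ := F) (F := curriedTensor (ModuleCat.{u} P)) (c := ComplexShape.up ℤ)
    (f := fun n p h => if h0 : n = 0 then ModuleCat.ofHom (TensorProduct.lift ((LinearMap.lsmul P (F.X p)).comp
      (oneVal n))) ≫ eqToHom (congrArg F.X (show p = m by have h' : n + p = m := h; omega)) else 0)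
    0 m (zero_add m)) (y ⊗ₜ f)).trans (by rw [dif_pos rfl]; rfl)

/-- The unitor. -/
noncomputable def lam : tens (oneCx P) F ⟶ F where
  f := lamHom F
  comm' m m' hm := by
    obtain rfl : m + 1 = m' := hm
    refine HomologicalComplex.mapBifunctor.hom_ext fun n p (h : n + p = m) =>
      ModuleCat.MonoidalCategory.tensor_ext fun (y : (oneCx P).X n) f => ?_
    change F.d m (m + 1) (lamHom F m (ιT _ F n p m h (y ⊗ₜ f))) =
      lamHom F (m + 1) ((tens _ F).d m (m + 1) (ιT _ F n p m h (y ⊗ₜ f)))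
    by_cases hn : n = 0
    · subst hn
      obtain rfl : p = m := by omega
      rw [GrothLib.RH.d_ιT, lamHom_ι, HomologicalComplex.single_obj_d, map_smul, Int.negOnePow_zero]
      simp [lamHom_ι]
    · rw [eq_zero_one hn y, TensorProduct.zero_tmul, map_zero, map_zero, map_zero, map_zero, map_zero]

theorem isIso_lam : IsIso (lam F) := by
  suffices ∀ m, IsIso ((lam F).f m) from HomologicalComplex.Hom.isIso_of_components _
  intro m
  let i := (singleObjXSelf (ComplexShape.up ℤ) 0 (ModuleCat.of P P))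
  let o : (oneCx P).X 0 := i.inv (1 : P)
  let g : F.X m ⟶ (tens (oneCx P) F).X m :=
    ModuleCat.ofHom (((ιT (oneCx P) F 0 m m (zero_add m)).hom).comp (TensorProduct.mk P ((oneCx P).X 0) (F.X m) o))
  refine ⟨g, HomologicalComplex.mapBifunctor.hom_ext fun n p (h : n + p = m) =>
      ModuleCat.MonoidalCategory.tensor_ext fun (y : (oneCx P).X n) f => ?_,
    ModuleCat.hom_ext (LinearMap.ext fun f => ?_)⟩
  · change g (lamHom F m (ιT _ F n p m h (y ⊗ₜ f))) = ιT _ F n p m h (y ⊗ₜ f)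
    by_cases hn : n = 0
    · subst hn
      obtain rfl : p = m := by omega
      rw [lamHom_ι]
      change ιT (oneCx P) F 0 p p _ (o ⊗ₜ (oneVal 0 y • f)) = _
      refine congrArg _ ?_
      rw [TensorProduct.tmul_smul, TensorProduct.smul_tmul', oneVal_zero]
      refine congrArg (· ⊗ₜ f) ?_
      change (i.hom y : P) • i.inv (1 : P) = y
      rw [← map_smul, smul_eq_mul, mul_one, Iso.hom_inv_id_apply]
    · rw [eq_zero_one hn y, TensorProduct.zero_tmul, map_zero, map_zero, map_zero]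
  · change lamHom F m (ιT (oneCx P) F 0 m m _ (o ⊗ₜ f)) = f
    rw [lamHom_ι, oneVal_zero]
    change (i.hom (i.inv (1 : P)) : P) • f = f
    rw [Iso.inv_hom_id_apply, one_smul]

theorem cmpT_lam : cmpT E (oneCx P) F ≫ DRing.homCxMap E (lam F) = GrothLib.RH.dt E F := by
  refine HomologicalComplex.hom_ext _ _ fun m => HomologicalComplex.mapBifunctor.hom_ext fun n p (h : n + p = m) =>
    ModuleCat.MonoidalCategory.tensor_ext fun (z : Cochain E (oneCx P) n) f => ?_
  change (DRing.homCxMap E (lam F)).f m ((cmpT E (oneCx P) F).f m (ιT _ F n p m h (z ⊗ₜ f))) =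
    GrothLib.RH.dtHom E F m (ιT _ F n p m h (z ⊗ₜ f))
  rw [cmpT_ι, GrothLib.RH.dtHom_ι]
  erw [GrothLib.RH.dtBil_tmul]
  refine Cochain.ext _ _ fun r t hrt => ModuleCat.hom_ext (LinearMap.ext fun e => ?_)
  change ((cmpBil E (oneCx P) F n p m h z f).comp (Cochain.ofHom (lam F)) (add_zero m)).v r t hrt e = _
  rw [Cochain.comp_zero_cochain_v, Cochain.ofHom_v, Cochain.smul_v]
  refine (ConcreteCategory.comp_apply _ _ e).trans ?_
  rw [cmpBil_v E (oneCx P) F n p m h z f r t hrt (r + n) rfl, map_zsmul]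
  by_cases hr : r = -n
  · subst hr
    obtain rfl : p = t := by omega
    rw [Cochain.single_v]
    have key : ∀ (q : ℤ) (hq : q = 0) (h1 : -n + n = q) (h2 : q + p = p),
        (lam F).f p (ιT (oneCx P) F q p p h2 (z.v (-n) q h1 e ⊗ₜ f)) =
          GrothLib.RH.dualEquiv E (neg_add_cancel n) z e • f := by
      intro q hq h1 h2
      subst hq
      rw [GrothLib.RH.dualEquiv_apply]
      exact (lamHom_ι F p _ f).trans (by rw [oneVal_zero])
    rw [key _ (neg_add_cancel n)]
    refine congrArg₂ (fun (c : ℤ) (v : F.X p) => c • v) ?_ rfl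
    exact congrArg Units.val ((Int.negOnePow_eq_iff _ _).2 ⟨-(n * p), by ring⟩)
  · rw [Cochain.single_v_eq_zero _ _ _ _ _ hr, eq_zero_one (show r + n ≠ 0 by omega) (z.v r (r + n) rfl e),
      TensorProduct.zero_tmul, map_zero, map_zero, smul_zero]
    simp

theorem isIso_cmpT_one {a b : ℤ} (hE : DRing.TermwiseFiniteProjective E) (hab : DRing.VanishesOutside E a b) :
    IsIso (cmpT E (oneCx P) F) := by
  haveI := GrothLib.RH.isIso_dt F hE hab
  haveI := isIso_lam F
  haveI : IsIso (DRing.homCxMap E (lam F)) := inferInstanceAs (IsIso ((DRing.homCxFunctor E).map (lam F)))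
  haveI : IsIso (cmpT E (oneCx P) F ≫ DRing.homCxMap E (lam F)) := by rw [cmpT_lam]; infer_instance
  exact IsIso.of_isIso_comp_right _ (DRing.homCxMap E (lam F))

end Cmp

section Main

open GrothLib.DualRing.Shriek (RA radj)

variable {P B : Type u} [CommRing P] [CommRing B] (φ : P →+* B) {E : DRing.Cx P} (ε : E ⟶ srcCx φ)

theorem baseChangeTensorIso_inv_ι (Q : DRing.Cx B) (F : DRing.Cx P) (m n p : ℤ) (h : n + p = m)
    (x : ((DRing.restrictCx φ).obj Q).X n) (f : F.X p) :
    (GrothLib.KF.baseChangeTensorIso φ Q F).inv.f m (ιT ((DRing.restrictCx φ).obj Q) F n p m h (x ⊗ₜ f)) =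
      (letI := φ.toAlgebra
       ιT Q ((DR.bc φ).obj F) n p m h ((show Q.X n from x) ⊗ₜ[B] ((1 : B) ⊗ₜ[P] f))) := by
  let I := GrothLib.KF.bicxBaseChangeIso φ Q F
  have h1 := HomologicalComplex₂.ιTotal_map _ _ I.inv (ComplexShape.up ℤ) n p m h
  have h2 := HomologicalComplex₂.ι_totalDesc (GrothLib.TotalMap.mapBicx (ModuleCat.restrictScalars.{u} φ)
      ((((curriedTensor (ModuleCat.{u} B)).mapBifunctorHomologicalComplex (ComplexShape.up ℤ) (ComplexShape.up ℤ)).obj Q).obj
        ((DR.bc φ).obj F)))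
    (fun p q h => (ModuleCat.restrictScalars.{u} φ).map
      (HomologicalComplex₂.ιTotal _ (ComplexShape.up ℤ) p q m h)) n p h
  exact (congrArg ((GrothLib.TotalMap.totalMap (ModuleCat.restrictScalars.{u} φ) _).f m)
    (ConcreteCategory.congr_hom h1 (x ⊗ₜ f))).trans (ConcreteCategory.congr_hom h2 _)

theorem baseChangeTensorIso_hom_smul (Q : DRing.Cx B) (F : DRing.Cx P) (m n p : ℤ) (h : n + p = m) (b : B)
    (x : ((DRing.restrictCx φ).obj Q).X n) (f : F.X p) :
    (GrothLib.KF.baseChangeTensorIso φ Q F).hom.f m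
        (b • (show (tens Q ((DR.bc φ).obj F)).X m from
          (GrothLib.KF.baseChangeTensorIso φ Q F).inv.f m (ιT ((DRing.restrictCx φ).obj Q) F n p m h (x ⊗ₜ f)))) =
      ιT ((DRing.restrictCx φ).obj Q) F n p m h
        ((show ((DRing.restrictCx φ).obj Q).X n from b • (show Q.X n from x)) ⊗ₜ f) := by
  letI := φ.toAlgebra
  have h1 := baseChangeTensorIso_inv_ι φ Q F m n p h x f
  have h2 := baseChangeTensorIso_inv_ι φ Q F m n p h
    (show ((DRing.restrictCx φ).obj Q).X n from b • (show Q.X n from x)) f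
  have h3 : b • (show (tens Q ((DR.bc φ).obj F)).X m from
      (GrothLib.KF.baseChangeTensorIso φ Q F).inv.f m (ιT ((DRing.restrictCx φ).obj Q) F n p m h (x ⊗ₜ f))) =
      (GrothLib.KF.baseChangeTensorIso φ Q F).inv.f m (ιT ((DRing.restrictCx φ).obj Q) F n p m h
        ((show ((DRing.restrictCx φ).obj Q).X n from b • (show Q.X n from x)) ⊗ₜ f)) :=
    (congrArg (fun z : (tens Q ((DR.bc φ).obj F)).X m => b • z) h1).trans
      ((map_smul (ιT Q ((DR.bc φ).obj F) n p m h).hom b _).symm.trans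
        ((congrArg (ιT Q ((DR.bc φ).obj F) n p m h) (TensorProduct.smul_tmul' b (show Q.X n from x) _)).trans h2.symm))
  refine (congrArg ((GrothLib.KF.baseChangeTensorIso φ Q F).hom.f m) h3).trans ?_
  exact ConcreteCategory.congr_hom
    (HomologicalComplex.congr_hom (GrothLib.KF.baseChangeTensorIso φ Q F).inv_hom_id m) _

/-- The action on a base change. -/
theorem act_tens (Q : DRing.Cx B) (F : DRing.Cx P) :
    act φ ε (tens Q ((DR.bc φ).obj F)) ≫ DRing.homCxMap E (GrothLib.KF.baseChangeTensorIso φ Q F).hom =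
      (GrothLib.KF.baseChangeTensorIso φ Q F).hom ≫ tensMap (act φ ε Q) F ≫
        cmpT E ((DRing.restrictCx φ).obj Q) F := by
  let κ := GrothLib.KF.baseChangeTensorIso φ Q F
  refine (cancel_epi κ.inv).1 ?_
  refine Eq.trans ?_ (Iso.inv_hom_id_assoc κ _).symm
  refine HomologicalComplex.hom_ext _ _ fun m => HomologicalComplex.mapBifunctor.hom_ext fun n p (h : n + p = m) =>
    ModuleCat.MonoidalCategory.tensor_ext fun (x : ((DRing.restrictCx φ).obj Q).X n) f => ?_
  change (DRing.homCxMap E κ.hom).f m ((act φ ε _).f m (κ.inv.f m (ιT _ F n p m h (x ⊗ₜ f)))) =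
    (cmpT E _ F).f m ((tensMap (act φ ε Q) F).f m (ιT _ F n p m h (x ⊗ₜ f)))
  rw [tensMap_ι, cmpT_ι]
  refine Cochain.ext _ _ fun r t hrt => ModuleCat.hom_ext (LinearMap.ext fun e => ?_)
  change (((act φ ε _).f m (κ.inv.f m (ιT _ F n p m h (x ⊗ₜ f)))).comp (Cochain.ofHom κ.hom) (add_zero m)).v r t hrt e = _
  rw [Cochain.comp_zero_cochain_v, Cochain.ofHom_v]
  refine (ConcreteCategory.comp_apply _ _ e).trans ?_
  refine Eq.trans ?_ (cmpBil_v E _ F n p m h _ f r t hrt (r + n) rfl e).symm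
  by_cases hr : r = 0
  · subst hr
    obtain rfl : t = m := by omega
    have key : ∀ (q : ℤ) (hq : q = n) (h1 : 0 + n = q) (h2 : q + p = t),
        ((p * 0).negOnePow : ℤ) • ιT ((DRing.restrictCx φ).obj Q) F q p t h2
            (((act φ ε Q).f n x).v 0 q h1 e ⊗ₜ f) =
          ιT ((DRing.restrictCx φ).obj Q) F n p t h (((act φ ε Q).f n x).v 0 n (zero_add n) e ⊗ₜ f) := by
      intro q hq h1 h2
      subst hq
      simp
    let b : B := (singleObjXSelf (ComplexShape.up ℤ) 0 ((ModuleCat.restrictScalars.{u} φ).obj (ModuleCat.of B B))).hom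
      (ε.f 0 e)
    refine (congrArg (κ.hom.f t) (act_v_zero φ ε _ t _ e)).trans (Eq.trans ?_ (key _ (zero_add n) _ _).symm)
    refine (baseChangeTensorIso_hom_smul φ Q F t n p h b x f).trans ?_
    exact congrArg (fun z : ((DRing.restrictCx φ).obj Q).X n => ιT ((DRing.restrictCx φ).obj Q) F n p t h (z ⊗ₜ f))
      (act_v_zero φ ε Q n x e).symm
  · erw [act_v_ne_zero φ ε _ m r t hrt hr, act_v_ne_zero φ ε Q n r (r + n) rfl hr, map_zero]
    erw [TensorProduct.zero_tmul, map_zero, smul_zero]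

theorem quasiIso_homCxMap {K : DRing.Cx P} [K.IsKProjective] {L L' : DRing.Cx P} (g : L ⟶ L') [QuasiIso g] :
    QuasiIso (DRing.homCxMap K g) :=
  GrothLib.RH.quasiIso_homCxMap_of_isKProjective K g

theorem chain_aux {C : Type*} [Category C] {X₀ X₁ X₂ X₃ X₄ X₅ X₆ X₇ : C} {a : X₀ ⟶ X₁} {hk : X₁ ⟶ X₂}
    {k : X₀ ⟶ X₃} {ta : X₃ ⟶ X₄} {c : X₄ ⟶ X₂} {ht : X₂ ⟶ X₅} {th : X₄ ⟶ X₆} {c' : X₆ ⟶ X₅}
    {hi : X₅ ⟶ X₇} {hall : X₁ ⟶ X₇} {tah : X₃ ⟶ X₆}
    (h1 : a ≫ hk = k ≫ ta ≫ c) (h2 : c ≫ ht = th ≫ c') (h3 : hall = hk ≫ ht ≫ hi) (h4 : tah = ta ≫ th) :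
    a ≫ hall = k ≫ tah ≫ c' ≫ hi := by
  subst h3 h4
  simp only [reassoc_of% h1, reassoc_of% h2, Category.assoc]

/-- **The right adjoint is tensoring with its value at the ring**, for a perfect algebra. -/
theorem nonempty_RA_iso_tens [QuasiIso ε] {a b : ℤ} (hE : DRing.TermwiseFiniteProjective E)
    (hab : DRing.VanishesOutside E a b) (W : DRing.Cx B) (eW : DRing.toD W ≅ (RA φ).obj (Dual.inD P P))
    (F : DRing.Cx P) (hF : GrothLib.KF.IsKFlat F) :
    Nonempty ((RA φ).obj (DRing.toD F) ≅ DRing.toD (tens W ((DR.bc φ).obj F))) := by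
  haveI : E.IsKProjective := DR.isKProjective E b (fun i hi => hab i (Or.inr hi)) (fun i => (hE i).2)
  obtain ⟨J, hJ, ⟨eJ⟩⟩ := GrothLib.RH.exists_kInjective_rep (Dual.inD P P)
  haveI := isKInjective_coI φ J
  obtain ⟨eR⟩ := nonempty_coI_iso φ J (RA φ) (radj φ)
  obtain ⟨G, hG⟩ := GrothLib.DR.exists_lift_inj (eW ≪≫ (RA φ).mapIso eJ ≪≫ eR.symm).hom
  haveI : QuasiIso G := (DerivedCategory.isIso_Q_map_iff_quasiIso (ModuleCat.{u} B) G).1 (by rw [hG]; infer_instance)
  let γ : (DRing.restrictCx φ).obj W ⟶ J := ((cxAdj φ).homEquiv W J).symm G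
  have hC : QuasiIso (act φ ε W ≫ DRing.homCxMap E γ) :=
    (quasiIso_homEquiv_iff φ ε W γ).1 (by rw [Equiv.apply_symm_apply]; infer_instance)
  let e1 : DRing.toD (oneCx P) ≅ Dual.inD P P :=
    ((DerivedCategory.singleFunctorIsoCompQ (ModuleCat.{u} P) 0).app _).symm
  obtain ⟨u, hu⟩ := GrothLib.DR.exists_lift_inj (e1 ≪≫ eJ).hom
  haveI : QuasiIso u := (DerivedCategory.isIso_Q_map_iff_quasiIso (ModuleCat.{u} P) u).1 (by rw [hu]; infer_instance)
  obtain ⟨JF, i, hi, hJF⟩ := GrothLib.RH.exists_resolution (tens J F)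
  haveI : QuasiIso (tensMap u F) := GrothLib.KF.quasiIso_map_of_isKFlat u F hF
  haveI : QuasiIso (tensMap (DRing.homCxMap E u) F) :=
    haveI := quasiIso_homCxMap (K := E) u
    GrothLib.KF.quasiIso_map_of_isKFlat _ F hF
  haveI := isIso_cmpT_one E F hE hab
  have h2 : QuasiIso (cmpT E J F ≫ DRing.homCxMap E i) := by
    haveI := quasiIso_homCxMap (K := E) (tensMap u F)
    haveI := quasiIso_homCxMap (K := E) i
    have : QuasiIso (tensMap (DRing.homCxMap E u) F ≫ cmpT E J F ≫ DRing.homCxMap E i) := by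
      rw [← Category.assoc, ← cmpT_natural, Category.assoc]
      infer_instance
    exact quasiIso_of_comp_left (tensMap (DRing.homCxMap E u) F) _
  let κ := GrothLib.KF.baseChangeTensorIso φ W F
  let γF : (DRing.restrictCx φ).obj (tens W ((DR.bc φ).obj F)) ⟶ JF := κ.hom ≫ tensMap γ F ≫ i
  haveI : QuasiIso (act φ ε (tens W ((DR.bc φ).obj F)) ≫ DRing.homCxMap E γF) := by
    have hT : QuasiIso (tensMap (act φ ε W ≫ DRing.homCxMap E γ) F) :=
      GrothLib.KF.quasiIso_map_of_isKFlat (act φ ε W ≫ DRing.homCxMap E γ) F hF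
    haveI : QuasiIso κ.hom := inferInstance
    have e : act φ ε (tens W ((DR.bc φ).obj F)) ≫ DRing.homCxMap E γF =
        κ.hom ≫ tensMap (act φ ε W ≫ DRing.homCxMap E γ) F ≫ cmpT E J F ≫ DRing.homCxMap E i :=
      chain_aux (act_tens φ ε W F) (cmpT_natural E F γ)
        (((DRing.homCxFunctor E).map_comp κ.hom (tensMap γ F ≫ i)).trans
          (congrArg (DRing.homCxMap E κ.hom ≫ ·) ((DRing.homCxFunctor E).map_comp (tensMap γ F) i)))
        ((congrArg (fun z => z.app F) ((GrothLib.KF.tensorCx (R := P)).map_comp (act φ ε W) (DRing.homCxMap E γ))))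
    rw [e]
    have hT2 : QuasiIso (tensMap (act φ ε W ≫ DRing.homCxMap E γ) F ≫ cmpT E J F ≫ DRing.homCxMap E i) :=
      quasiIso_comp _ _ (hφ := hT) (hφ' := h2)
    exact quasiIso_comp κ.hom _ (hφ' := hT2)
  haveI : QuasiIso ((cxAdj φ).homEquiv _ JF γF) := (quasiIso_homEquiv_iff φ ε _ γF).2 inferInstance
  obtain ⟨eF⟩ := nonempty_coI_iso φ JF (RA φ) (radj φ)
  haveI := isIso_lam F
  let eM : DRing.toD F ≅ DRing.toD JF :=
    (asIso (DerivedCategory.Q.map (lam F))).symm ≪≫ asIso (DerivedCategory.Q.map (tensMap u F ≫ i))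
  exact ⟨(RA φ).mapIso eM ≪≫ eF.symm ≪≫ (asIso (DerivedCategory.Q.map ((cxAdj φ).homEquiv _ JF γF))).symm⟩

end Main

end GrothLib.DualRing.Act
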