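import Groth.Agent.Lib.DualRing.Hom
import Groth.Agent.Lib.DCxRing.Stupid
import Mathlib.RingTheory.Ideal.AssociatedPrime.Finiteness

/-! # Morphisms out of objects with finite length at a prime -/

set_option autoImplicit false
universe u

open CategoryTheory CategoryTheory.Limits Pretriangulated

attribute [local instance] HasDerivedCategory.standard

namespace GrothLib.DualRing

variable {A : Type u} [CommRing A]

theorem exists_smul_eq_zero_of_len_eq_zero {p : Ideal A} [p.IsPrime] {M : Type u} [AddCommGroup M] [Module A M]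
    [Module.Finite A M] (h : len p M = 0) : ∃ s ∉ p, ∀ x : M, s • x = 0 := by
  classical
  choose s hs hsx using len_eq_zero_iff.1 h
  obtain ⟨g, hg⟩ := (Module.Finite.fg_top : (⊤ : Submodule A M).FG)
  refine ⟨∏ y ∈ g, s y, fun hp => ?_, fun x => ?_⟩
  · obtain ⟨y, -, hy⟩ := (‹p.IsPrime›.prod_mem_iff).1 hp
    exact hs y hy
  · induction (hg ▸ Submodule.mem_top : x ∈ Submodule.span A (g : Set M)) using Submodule.span_induction with
    | mem y hy => obtain ⟨d, hd⟩ := Finset.dvd_prod_of_mem s hy; rw [hd, mul_comm, mul_smul, hsx, smul_zero]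
    | zero => exact smul_zero _
    | add a b _ _ ha hb => rw [smul_add, ha, hb, add_zero]
    | smul r a _ ha => rw [smul_comm, ha, smul_zero]

variable (ω : Dual.D A) (p : Ideal A) [p.IsPrime]

/-- The length at `p` of `Hom(A/p, ω⟦i⟧)`. -/
noncomputable def mu (i : ℤ) : ℕ∞ := len p (EH ω (Dual.inD A (A ⧸ p)) i)

theorem len_EH_inD_congr {M N : Type u} [AddCommGroup M] [Module A M] [AddCommGroup N] [Module A N]
    (e : M ≃ₗ[A] N) (i : ℤ) : len p (EH ω (Dual.inD A M) i) = len p (EH ω (Dual.inD A N) i) :=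
  len_iso p ((DerivedCategory.singleFunctor (ModuleCat.{u} A) 0).mapIso e.toModuleIso) i

theorem len_EH_of_killed {M : Type u} [AddCommGroup M] [Module A M] {s : A} (hs : s ∉ p) (h : ∀ x : M, s • x = 0)
    (i : ℤ) : len p (EH ω (Dual.inD A M) i) = 0 :=
  len_eq_zero_of_smul_eq_zero hs (smul_eq_zero_of_killed (smul_id_inD h))

theorem len_EH_of_len_eq_zero {M : Type u} [AddCommGroup M] [Module A M] [Module.Finite A M] (h : len p M = 0)
    (i : ℤ) : len p (EH ω (Dual.inD A M) i) = 0 :=
  let ⟨_, hs, hsx⟩ := exists_smul_eq_zero_of_len_eq_zero h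
  len_EH_of_killed ω p hs hsx i

theorem len_quotient_eq_top {q : Ideal A} [q.IsPrime] (h : q < p) : len p (A ⧸ q) = ⊤ := by
  obtain ⟨x, hxp, hxq⟩ := SetLike.exists_of_lt h
  let f : (A ⧸ q) →ₗ[A] A ⧸ q := x • LinearMap.id
  have hf : Function.Injective f := (injective_iff_map_eq_zero _).2 fun y hy => by
    obtain ⟨y, rfl⟩ := Ideal.Quotient.mk_surjective y
    refine Ideal.Quotient.eq_zero_iff_mem.2 ((‹q.IsPrime›.mem_or_mem ?_).resolve_left hxq)
    exact Ideal.Quotient.eq_zero_iff_mem.1 hy
  have e := len_eq_add (p := p) hf (Submodule.mkQ_surjective _) (LinearMap.exact_map_mkQ_range f)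
  have hle : q ≤ p := h.le
  have hQ : len p ((A ⧸ q) ⧸ LinearMap.range f) ≠ 0 := fun h0 => by
    obtain ⟨s, hs, hs0⟩ := len_eq_zero_iff.1 h0 (Submodule.Quotient.mk (Ideal.Quotient.mk q 1))
    rw [← Submodule.Quotient.mk_smul, Submodule.Quotient.mk_eq_zero] at hs0
    obtain ⟨y, hy⟩ := hs0
    obtain ⟨y, rfl⟩ := Ideal.Quotient.mk_surjective y
    have h2 : x * y - s * 1 ∈ q := Ideal.Quotient.eq.1 hy
    refine hs ?_
    have h3 := p.sub_mem (p.mul_mem_right y hxp) (hle h2)
    rwa [sub_sub_cancel, mul_one] at h3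
  by_contra hne
  exact hQ ((WithTop.add_left_inj hne).1 (e.symm.trans (add_zero _).symm))

variable {ω p}

section Modules

variable [IsNoetherianRing A] (N : Type u) [AddCommGroup N] [Module A N] [hN : Module.Finite A N]

include hN

theorem len_EH_eq_zero {i : ℤ} (hi : mu ω p i = 0) : len p N ≠ ⊤ → len p (EH ω (Dual.inD A N) i) = 0 := by
  induction hN using IsNoetherianRing.induction_on_isQuotientEquivQuotientPrime A with
  | subsingleton N => exact fun _ => len_EH_of_len_eq_zero ω p len_eq_zero_of_subsingleton i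
  | quotient N q e =>
    intro hfin
    haveI := q.2
    rw [len_EH_inD_congr ω p e]
    by_cases hq : q.1 ≤ p
    · rcases hq.eq_or_lt with hq | hq
      · rw [← len_EH_inD_congr ω p (Submodule.quotEquivOfEq _ _ hq).symm]; exact hi
      · exact absurd (len_quotient_eq_top p hq) (fun h => hfin ((len_congr e).trans h))
    · exact len_EH_of_len_eq_zero ω p (len_quotient_eq_zero (p := p) hq) i
  | exact N₁ N₂ N₃ f g hf hg hfg h₁ h₃ =>
    intro hfin
    rw [len_eq_add hf hg hfg] at hfin
    obtain ⟨T, hT, e₁, e₂, e₃⟩ := exists_triangle hf hg hfg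
    have := len_mid (ω := ω) p T hT i (e₃ ▸ h₃ fun h => hfin (by rw [h, add_top]))
      (e₁ ▸ h₁ fun h => hfin (by rw [h, top_add]))
    rwa [e₂] at this

theorem len_EH_ne_zero {c : ℤ} (hc : mu ω p c ≠ 0) (h : mu ω p (c - 1) = 0 ∨ mu ω p (c + 1) = 0) :
    len p N ≠ ⊤ → len p N ≠ 0 → len p (EH ω (Dual.inD A N) c) ≠ 0 := by
  induction hN using IsNoetherianRing.induction_on_isQuotientEquivQuotientPrime A with
  | subsingleton N => exact fun _ h0 => absurd len_eq_zero_of_subsingleton h0
  | quotient N q e =>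
    intro hfin h0
    haveI := q.2
    rw [len_EH_inD_congr ω p e]
    by_cases hq : q.1 ≤ p
    · rcases hq.eq_or_lt with hq | hq
      · rw [← len_EH_inD_congr ω p (Submodule.quotEquivOfEq _ _ hq).symm]; exact hc
      · exact absurd (len_quotient_eq_top p hq) (fun h => hfin ((len_congr e).trans h))
    · exact absurd (len_quotient_eq_zero (p := p) hq) (fun h => h0 ((len_congr e).trans h))
  | exact N₁ N₂ N₃ f g hf hg hfg h₁ h₃ =>
    intro hfin h0 hz
    rw [len_eq_add hf hg hfg] at hfin h0
    have hf₁ : len p N₁ ≠ ⊤ := fun h => hfin (by rw [h, top_add])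
    have hf₃ : len p N₃ ≠ ⊤ := fun h => hfin (by rw [h, add_top])
    obtain ⟨T, hT, e₁, e₂, e₃⟩ := exists_triangle hf hg hfg
    rcases h with h | h
    · by_cases h30 : len p N₃ = 0
      · refine h₁ hf₁ (fun h10 => h0 (by rw [h10, h30, add_zero])) (le_antisymm ?_ bot_le)
        have := len_triangle_left (ω := ω) p T hT c (e₃ ▸ len_EH_of_len_eq_zero ω p h30 _)
        rw [e₁, e₂, hz] at this
        exact this
      · refine h₃ hf₃ h30 (le_antisymm ?_ bot_le)
        have := len_triangle_right (ω := ω) p T hT c (e₁ ▸ len_EH_eq_zero N₁ h hf₁)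
        rw [e₃, e₂, hz] at this
        exact this
    · by_cases h10 : len p N₁ = 0
      · refine h₃ hf₃ (fun h30 => h0 (by rw [h10, h30, add_zero])) (le_antisymm ?_ bot_le)
        have := len_triangle_right (ω := ω) p T hT c (e₁ ▸ len_EH_of_len_eq_zero ω p h10 _)
        rw [e₃, e₂, hz] at this
        exact this
      · refine h₁ hf₁ h10 (le_antisymm ?_ bot_le)
        have := len_triangle_left (ω := ω) p T hT c (e₃ ▸ len_EH_eq_zero N₃ h hf₃)
        rw [e₁, e₂, hz] at this
        exact this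

theorem len_EH_eq {c : ℤ} (h : ∀ i, i ≠ c → mu ω p i = 0) :
    len p N ≠ ⊤ → len p (EH ω (Dual.inD A N) c) = mu ω p c * len p N := by
  induction hN using IsNoetherianRing.induction_on_isQuotientEquivQuotientPrime A with
  | subsingleton N =>
    intro _
    rw [len_EH_of_len_eq_zero ω p len_eq_zero_of_subsingleton c, len_eq_zero_of_subsingleton, mul_zero]
  | quotient N q e =>
    intro hfin
    haveI := q.2
    rw [len_EH_inD_congr ω p e, len_congr e]
    by_cases hq : q.1 ≤ p
    · rcases hq.eq_or_lt with hq | hq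
      · rw [← len_EH_inD_congr ω p (Submodule.quotEquivOfEq _ _ hq).symm,
          ← len_congr (Submodule.quotEquivOfEq _ _ hq).symm, len_quotient_prime, mul_one]
        rfl
      · exact absurd (len_quotient_eq_top p hq) (fun h => hfin ((len_congr e).trans h))
    · rw [len_EH_of_len_eq_zero ω p (len_quotient_eq_zero (p := p) hq), len_quotient_eq_zero (p := p) hq, mul_zero]
  | exact N₁ N₂ N₃ f g hf hg hfg h₁ h₃ =>
    intro hfin
    rw [len_eq_add hf hg hfg] at hfin ⊢
    have hf₁ : len p N₁ ≠ ⊤ := fun h => hfin (by rw [h, top_add])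
    have hf₃ : len p N₃ ≠ ⊤ := fun h => hfin (by rw [h, add_top])
    obtain ⟨T, hT, e₁, e₂, e₃⟩ := exists_triangle hf hg hfg
    have := len_triangle (ω := ω) p T hT c (e₁ ▸ len_EH_eq_zero N₁ (h _ (by omega)) hf₁)
      (e₃ ▸ len_EH_eq_zero N₃ (h _ (by omega)) hf₃)
    rw [e₁, e₂, e₃, h₁ hf₁, h₃ hf₃] at this
    rw [this, mul_add, add_comm]

end Modules

section Complexes

open DerivedCategory

theorem len_of_isIso {M N : ModuleCat.{u} A} (f : M ⟶ N) [IsIso f] : len p M = len p N :=
  len_congr (asIso f).toLinearEquiv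

/-- Splitting off the top cohomology module. -/
theorem exists_top_triangle (K : Dual.D A) (b : ℤ) (hv : ∀ i, b < i → Subsingleton (Dual.HD A K i)) :
    ∃ T : Triangle (Dual.D A), T ∈ (distTriang (Dual.D A)) ∧ T.obj₂ = K ∧
      Nonempty (T.obj₃ ≅ (Dual.inD A (Dual.HD A K b))⟦-b⟧) ∧
      (∀ i, i < b → Nonempty (Dual.HD A T.obj₁ i ≃ₗ[A] Dual.HD A K i)) ∧
      ∀ i, b ≤ i → Subsingleton (Dual.HD A T.obj₁ i) := by
  let H := fun i => DerivedCategory.homologyFunctor (ModuleCat.{u} A) i
  let t : Triangulated.TStructure (Dual.D A) := DerivedCategory.TStructure.t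
  have hT := t.triangleLTGE_distinguished b K
  let U := (t.truncGE b).obj K
  refine ⟨_, hT, rfl, ?_, fun i hi => ?_, fun i hi => ?_⟩
  · haveI : U.IsGE b := by
      rw [DerivedCategory.isGE_iff]
      exact fun i hi => GrothLib.DerTrunc.isZero_homology_truncGE K b i hi
    haveI : U.IsLE b := by
      rw [DerivedCategory.isLE_iff]
      intro i hi
      haveI := GrothLib.DerTrunc.isIso_homology_truncGEπ K b i (le_of_lt hi)
      exact ((GrothLib.DR.subsingleton_iff_isZero _).1 (hv i hi)).of_iso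
        (asIso ((H i).map ((t.truncGEπ b).app K))).symm
    obtain ⟨M, ⟨e⟩⟩ := DerivedCategory.exists_iso_singleFunctor_obj_of_isGE_of_isLE U b
    haveI := GrothLib.DerTrunc.isIso_homology_truncGEπ K b b le_rfl
    let e' : M ≅ (H b).obj K := ((singleFunctorCompHomologyFunctorIso (ModuleCat.{u} A) b).app M).symm ≪≫
      (H b).mapIso e.symm ≪≫ (asIso ((H b).map ((t.truncGEπ b).app K))).symm
    exact ⟨e ≪≫ (DerivedCategory.singleFunctor (ModuleCat.{u} A) b).mapIso e' ≪≫ GrothLib.DR.singleIsoShift b _⟩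
  · haveI := GrothLib.DerTrunc.isIso_homology_truncLTι K b i hi
    exact ⟨(asIso ((H i).map ((t.truncLTι b).app K))).toLinearEquiv⟩
  · exact (GrothLib.DR.subsingleton_iff_isZero _).2 (GrothLib.DerTrunc.isZero_homology_truncLT K b i hi)

/-- Finite cohomology of finite length at `p`. -/
structure Good (p : Ideal A) [p.IsPrime] (K : Dual.D A) : Prop where
  finite : ∀ i, Module.Finite A (Dual.HD A K i)
  ne_top : ∀ i, len p (Dual.HD A K i) ≠ ⊤
  bdd : ∃ a b : ℤ, ∀ i, i < a ∨ b < i → Subsingleton (Dual.HD A K i)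

/-- Induction on bounded objects along the top cohomology. -/
theorem Good.induction {P : Dual.D A → Prop}
    (hzero : ∀ K, (∀ i, Subsingleton (Dual.HD A K i)) → Good p K → P K)
    (hstep : ∀ (T : Triangle (Dual.D A)), T ∈ (distTriang (Dual.D A)) → Good p T.obj₂ → ∀ b : ℤ,
      (T.obj₃ ≅ (Dual.inD A (Dual.HD A T.obj₂ b))⟦-b⟧) →
      (∀ i, i < b → Nonempty (Dual.HD A T.obj₁ i ≃ₗ[A] Dual.HD A T.obj₂ i)) →
      (∀ i, b < i → Subsingleton (Dual.HD A T.obj₂ i)) →
      (∀ i, b ≤ i → Subsingleton (Dual.HD A T.obj₁ i)) → P T.obj₁ → P T.obj₂)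
    (K : Dual.D A) (hK : Good p K) : P K := by
  obtain ⟨a, b, hab⟩ := hK.bdd
  obtain ⟨k, hk⟩ : ∃ k : ℕ, b + 1 ≤ a + k := ⟨(b + 1 - a).toNat, by omega⟩
  induction k generalizing K b with
  | zero => exact hzero K (fun i => hab i (by omega)) hK
  | succ k ih =>
    by_cases h : a ≤ b
    swap
    · exact hzero K (fun i => hab i (by omega)) hK
    obtain ⟨T, hT, rfl, ⟨e⟩, hlt, hge⟩ := exists_top_triangle K b fun i hi => hab i (Or.inr hi)
    have h1 : Good p T.obj₁ :=
      { finite := fun i => by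
          by_cases hi : i < b
          · haveI := hK.finite i; exact Module.Finite.equiv (hlt i hi).some.symm
          · haveI := hge i (not_lt.1 hi); infer_instance
        ne_top := fun i => by
          by_cases hi : i < b
          · rw [len_congr (hlt i hi).some]; exact hK.ne_top i
          · haveI := hge i (not_lt.1 hi); rw [len_eq_zero_of_subsingleton]; exact ENat.zero_ne_top
        bdd := ⟨a, b - 1, fun i hi => by
          by_cases hi' : i < b
          · haveI := hab i (by omega); exact (hlt i hi').some.toEquiv.subsingleton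
          · exact hge i (not_lt.1 hi')⟩ }
    refine hstep T hT hK b e hlt (fun i hi => hab i (Or.inr hi)) hge (ih _ h1 (b - 1) (fun i hi => ?_) (by omega))
    by_cases hi' : i < b
    · haveI := hab i (by omega); exact (hlt i hi').some.toEquiv.subsingleton
    · exact hge i (not_lt.1 hi')

end Complexes

end GrothLib.DualRing
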