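import Groth.Agent.Lib.DualRing.HomHD
import Groth.Agent.Lib.DualRing.Devissage
import Groth.Agent.Lib.DCxRing.FromSingle
import Groth.Agent.Lib.DCxRHom.Dual
import Groth.Agent.Lib.DCxRHom.DualTensor
import Groth.Agent.Lib.DCxRHom.HomAssoc
import Groth.Agent.Lib.DCxRHom.HomProps
import Groth.Agent.Lib.DCxRHom.Rep

/-! # Duals of perfect objects with respect to a dualizing complex -/

set_option autoImplicit false
universe u

open CategoryTheory CategoryTheory.Limits CochainComplex CochainComplex.HomComplex HomologicalComplex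

attribute [local instance] HasDerivedCategory.standard

namespace GrothLib.DualRing

variable {A : Type u} [CommRing A] {ω : Dual.D A}

/-- The identity cocycle. -/
noncomputable def idCocycle (I : DRing.Cx A) : Cocycle I I 0 := Cocycle.ofHom (𝟙 I)

theorem equivHomShift_symm_id (I : DRing.Cx A) :
    Cocycle.equivHomShift.symm (idCocycle I) = (shiftFunctorZero (DRing.Cx A) ℤ).inv.app I := by
  refine HomologicalComplex.hom_ext _ _ fun p => ?_
  rw [Cocycle.equivHomShift_symm_apply, Cocycle.homOf_f, Cocycle.rightShift_coe]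
  simp [idCocycle, CochainComplex.shiftFunctorZero_inv_app_f,
    Cochain.rightShift_v _ 0 0 (zero_add 0) p p (add_zero p) p (by omega), shiftFunctorObjXIso,
    HomologicalComplex.XIsoOfEq]

theorem isIso_cocycleHom_id (I : DRing.Cx A) : IsIso (cocycleHom I I 0 (idCocycle I)) := by
  rw [cocycleHom, equivHomShift_symm_id]
  infer_instance

/-- The unit of the endomorphism complex. -/
noncomputable def unitMap (I : DRing.Cx A) : GrothLib.RH.oneCx A ⟶ DRing.homCx I I :=
  mkHomFromSingle (ModuleCat.ofHom (LinearMap.toSpanSingleton A (Cochain I I 0) (Cochain.ofHom (𝟙 I))))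
    fun k _ => ModuleCat.hom_ext (LinearMap.ext fun a => by
      change δ 0 k (a • Cochain.ofHom (𝟙 I)) = 0
      rw [δ_smul, δ_ofHom, smul_zero])

theorem unitMap_f (I : DRing.Cx A) (x : (GrothLib.RH.oneCx A).X 0) :
    (unitMap I).f 0 x = (singleObjXSelf (ComplexShape.up ℤ) 0 (ModuleCat.of A A)).hom x • Cochain.ofHom (𝟙 I) := by
  rw [unitMap, mkHomFromSingle_f]
  rfl

theorem quasiIso_unitMap (I : DRing.Cx A) [I.IsKInjective]
    (h0 : Function.Bijective fun a : A => a • 𝟙 (DRing.toD I))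
    (hn : ∀ n : ℤ, n ≠ 0 → Subsingleton (DRing.toD I ⟶ (DRing.toD I)⟦n⟧)) : QuasiIso (unitMap I) := by
  haveI := isIso_cocycleHom_id I
  have hb : Function.Bijective fun a : A => a • cocycleHom I I 0 (idCocycle I) := by
    have h : (fun a : A => a • cocycleHom I I 0 (idCocycle I)) =
        (fun f => f ≫ cocycleHom I I 0 (idCocycle I)) ∘ fun a : A => a • 𝟙 (DRing.toD I) :=
      funext fun a => by simp [Linear.smul_comp]
    rw [h]
    exact ((Iso.homToEquiv (asIso (cocycleHom I I 0 (idCocycle I)))).bijective).comp h0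
  let S : DRing.Cx A := GrothLib.RH.oneCx A
  let η := singleObjXSelf (ComplexShape.up ℤ) (0 : ℤ) (ModuleCat.of A A)
  have hlin : ∀ a : A, ∀ hz, cocycleHom I I 0 (Cocycle.mk (a • Cochain.ofHom (𝟙 I)) 1 rfl hz) =
      a • cocycleHom I I 0 (idCocycle I) := fun a hz =>
    (cocycleLin I I 0).map_smul a ⟨Cochain.ofHom (𝟙 I), δ_ofHom (𝟙 I)⟩
  have hs : ∀ n, n ≠ 0 → Subsingleton (S.X n) := fun n hne =>
    ModuleCat.subsingleton_of_isZero (isZero_single_obj_X _ _ _ _ hne)
  refine GrothLib.RH.quasiIso_of_elements _ (fun n x _ w hw => ?_) (fun n y hy => ?_)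
  · by_cases hne : n = 0
    swap
    · haveI := hs n hne
      exact ⟨0, Subsingleton.elim _ _⟩
    subst hne
    refine ⟨0, ?_⟩
    rw [unitMap_f] at hw
    have hz : δ 0 1 (η.hom x • Cochain.ofHom (𝟙 I)) = 0 := by rw [δ_smul, δ_ofHom, smul_zero]
    have h1 := (cocycleHom_eq_zero_iff I I 0 (Cocycle.mk _ 1 rfl hz)).2
      ((mem_coboundaries_iff _ (0 - 1) (by omega)).2 ⟨w, hw⟩)
    rw [hlin] at h1
    have h2 : η.hom x = 0 := hb.1 (h1.trans (zero_smul A _).symm)
    have h3 := congrArg η.inv h2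
    rw [map_zero] at h3
    rw [map_zero]
    exact (h3.symm.trans (ConcreteCategory.congr_hom η.hom_inv_id x))
  · let z : Cocycle I I n := Cocycle.mk y (n + 1) rfl hy
    by_cases hne : n = 0
    · subst hne
      obtain ⟨a, ha⟩ := hb.2 (cocycleHom I I 0 z)
      have hz : δ 0 1 (a • Cochain.ofHom (𝟙 I)) = 0 := by rw [δ_smul, δ_ofHom, smul_zero]
      refine ⟨η.inv a, ?_, ?_⟩
      · haveI := hs (0 + 1) (by norm_num)
        exact Subsingleton.elim _ _
      · have h1 : cocycleHom I I 0 (Cocycle.mk _ 1 rfl hz - z) = 0 := by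
          rw [cocycleHom, map_sub, Functor.map_sub, Preadditive.sub_comp]
          exact sub_eq_zero.2 ((hlin a hz).trans ha)
        obtain ⟨b, hb'⟩ := (mem_coboundaries_iff _ (0 - 1) (by omega)).1 ((cocycleHom_eq_zero_iff I I 0 _).1 h1)
        refine ⟨b, hb'.trans ?_⟩
        rw [unitMap_f]
        let y' : Cochain I I 0 := y
        change a • Cochain.ofHom (𝟙 I) - y' = η.hom (η.inv a) • Cochain.ofHom (𝟙 I) - y'
        rw [show η.hom (η.inv a) = a from ConcreteCategory.congr_hom η.inv_hom_id a]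
    · have h1 : cocycleHom I I n z = 0 := (hn n hne).elim _ _
      obtain ⟨b, hb'⟩ := (mem_coboundaries_iff _ (n - 1) (by omega)).1 ((cocycleHom_eq_zero_iff I I n z).1 h1)
      refine ⟨0, map_zero _, (-b : Cochain I I (n - 1)), ?_⟩
      rw [map_zero, zero_sub]
      change δ (n - 1) n (-b) = -(y : Cochain I I n)
      rw [δ_neg]
      exact congrArg Neg.neg hb'

/-- A K-injective representative of a dualizing complex. -/
theorem exists_rep (hω : Dual.IsDualizing A ω) :
    ∃ (I : DRing.Cx A), I.IsKInjective ∧ Nonempty (DRing.toD I ≅ ω) ∧ QuasiIso (unitMap I) := by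
  obtain ⟨I, hI, ⟨e⟩⟩ := GrothLib.RH.exists_kInjective_rep ω
  refine ⟨I, hI, ⟨e.symm⟩, @quasiIso_unitMap A _ I hI ?_ fun n hn => ?_⟩
  · have h : (fun a : A => a • 𝟙 (DRing.toD I)) =
        (Linear.homCongr A e e) ∘ fun a : A => a • 𝟙 ω := by
      funext a
      simp [Linear.homCongr_apply]
    rw [h]
    exact (Linear.homCongr A e e).bijective.comp hω.toEnd_bijective
  · haveI := hω.ext_self_subsingleton n hn
    exact (Linear.homCongr A e ((CategoryTheory.shiftFunctor (Dual.D A) n).mapIso e)).symm.toEquiv.subsingleton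

/-- Duals of perfect objects. -/
theorem exists_dual (hω : Dual.IsDualizing A ω) {P : Dual.D A} (hP : DRing.IsPerfect A P) :
    ∃ Y : Dual.D A, (∀ i, Nonempty (Dual.HD A Y i ≃ₗ[A] EH ω P i)) ∧
      ∀ i, Nonempty (EH ω Y i ≃ₗ[A] Dual.HD A P i) := by
  obtain ⟨I, hI, ⟨eI⟩, hq⟩ := exists_rep hω
  obtain ⟨E, a, b, hv, hE, ⟨e⟩⟩ := hP
  let Qd := DRing.homCx E (GrothLib.RH.oneCx A)
  haveI : Qd.IsKProjective := GrothLib.DR.isKProjective Qd (-a)
    (fun i hi => GrothLib.RH.vanishesOutside_dual hv i (Or.inr hi))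
    (fun i => (GrothLib.RH.termwiseFiniteProjective_dual hE i).2)
  haveI := GrothLib.RH.isIso_dt (P := E) (K := I) hE hv
  haveI := GrothLib.RH.quasiIso_homCxMap_of_isKProjective Qd (unitMap I)
  haveI := GrothLib.RH.isIso_ev hE
  refine ⟨DRing.toD (DRing.homCx E I), fun i => ⟨(exists_HD_homCx_equiv E I i).some.trans
    (Linear.homCongr A e ((CategoryTheory.shiftFunctor (Dual.D A) i).mapIso eI))⟩, fun i => ?_⟩
  let φ : DRing.toD (DRing.homCx (DRing.homCx E I) I) ≅ DRing.toD E :=
    DerivedCategory.Q.mapIso (GrothLib.RH.homCxPreIso (asIso (GrothLib.RH.dt E I)) I ≪≫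
      (GrothLib.RH.assocIso Qd I I).symm) ≪≫
    (@asIso _ _ _ _ (DerivedCategory.Q.map (DRing.homCxMap Qd (unitMap I))) inferInstance).symm ≪≫
    (DerivedCategory.Q.mapIso (asIso (GrothLib.RH.ev E))).symm
  exact ⟨(Linear.homCongr A (Iso.refl _) ((CategoryTheory.shiftFunctor (Dual.D A) i).mapIso eI.symm)).trans
    ((exists_HD_homCx_equiv (DRing.homCx E I) I i).some.symm.trans
      ((DerivedCategory.homologyFunctor (ModuleCat.{u} A) i).mapIso (φ ≪≫ e)).toLinearEquiv)⟩

end GrothLib.DualRing
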