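import Groth.Agent.Lib.DualRing.SchemeGor
import Groth.Agent.Lib.DualCx22.EssFT
import Groth.Agent.Lib.DualCx22.Cover
import Groth.Agent.Lib.OX.TildePerfect
import Groth.Prelude.Def_DualSch
import Mathlib.AlgebraicGeometry.Morphisms.Flat

/-! # Dualizing complexes on schemes from an affine cover -/

set_option autoImplicit false
set_option linter.style.haveILetI false
set_option maxHeartbeats 1000000
universe u v w

open CategoryTheory CategoryTheory.Limits AlgebraicGeometry TensorProduct GrothLib.OX

attribute [local instance] HasDerivedCategory.standard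

namespace GrothLib.DualRing

/-- Restriction of an associated object along an open immersion of affine schemes. -/
theorem nonempty_resD_tildeD_bcD {A B : Type u} [CommRing A] [CommRing B] [Algebra A B]
    [IsOpenImmersion (specHom (algebraMap A B))]
    [PreservesFiniteLimits (DualCx22.bcMod (A := A) B)] (M : Dual.D A) :
    Nonempty ((resD (specHom (algebraMap A B))).obj ((DCoh.tildeD (CommRingCat.of A)).obj M) ≅
      (DCoh.tildeD (CommRingCat.of B)).obj ((DualCx22.bcD B).obj M)) := by
  let T := tilde.functor (CommRingCat.of A)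
  let T' := tilde.functor (CommRingCat.of B)
  haveI : PreservesFiniteColimits (DualCx22.bcMod (A := A) B) := by
    dsimp [DualCx22.bcMod]; infer_instance
  let H := DualCx22.bcMod (A := A) B ⋙ T'
  haveI : PreservesFiniteLimits H := comp_preservesFiniteLimits _ _
  haveI : PreservesFiniteColimits H := comp_preservesFiniteColimits _ _
  let e : T ⋙ Scheme.Modules.restrictFunctor (specHom (algebraMap A B)) ≅ H :=
    Functor.isoWhiskerLeft _ (Scheme.Modules.restrictFunctorIsoPullback _) ≪≫ tildePullIso _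
  exact ⟨((DerCat.mapDerivedCompIso T (Scheme.Modules.restrictFunctor (specHom (algebraMap A B))) H e) ≪≫
    (DerCat.mapDerivedCompIso (DualCx22.bcMod (A := A) B) T' H (Iso.refl _)).symm).app M⟩

/-- A flat family that is jointly surjective on spectra detects vanishing. -/
theorem detectsZero_of_surjective {A : Type u} [CommRing A] {ι : Type v} (B : ι → Type u) [∀ i, CommRing (B i)]
    [∀ i, Algebra A (B i)] [∀ i, Module.Flat A (B i)]
    (h : ∀ p : PrimeSpectrum A, ∃ i, p ∈ Set.range (PrimeSpectrum.comap (algebraMap A (B i)))) :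
    DualCx22.DetectsZero.{u, v, w} (A := A) B := by
  intro M _ _ hM
  refine subsingleton_of_forall_eq 0 fun x => ?_
  let I := LinearMap.ker (LinearMap.toSpanSingleton A M x)
  let l : (A ⧸ I) →ₗ[A] M := I.liftQ (LinearMap.toSpanSingleton A M x) le_rfl
  have hl : Function.Injective l := by
    rw [← LinearMap.ker_eq_bot]
    exact Submodule.ker_liftQ_eq_bot _ _ _ le_rfl
  suffices hI : I = ⊤ by
    have h1 : (1 : A) ∈ I := hI ▸ Submodule.mem_top
    simpa [I] using h1
  by_contra hne
  obtain ⟨m, hm, hle⟩ := Ideal.exists_le_maximal I hne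
  obtain ⟨i, q, hq⟩ := h ⟨m, hm.isPrime⟩
  haveI := hM i
  have hs : Subsingleton (B i ⊗[A] (A ⧸ I)) :=
    (Module.Flat.lTensor_preserves_injective_linearMap (M := B i) l hl).subsingleton
  let e := (TensorProduct.quotTensorEquivQuotSMul (B i) I)
  have hs' : Subsingleton (B i ⧸ (I • ⊤ : Submodule A (B i))) :=
    ((TensorProduct.comm A (B i) (A ⧸ I)).trans e).symm.toEquiv.subsingleton
  rw [Submodule.Quotient.subsingleton_iff] at hs'
  have h1 : (1 : B i) ∈ (Ideal.map (algebraMap A (B i)) I).restrictScalars A := by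
    rw [← Ideal.smul_top_eq_map, hs']
    exact Submodule.mem_top
  have h2 : Ideal.map (algebraMap A (B i)) I ≤ q.asIdeal := by
    rw [Ideal.map_le_iff_le_comap]
    exact hle.trans (le_of_eq (congrArg PrimeSpectrum.asIdeal hq).symm)
  exact q.isPrime.ne_top ((Ideal.eq_top_iff_one _).2 (h2 h1))

variable {X : Scheme.{u}} [IsLocallyNoetherian X]
  [∀ (U : Scheme.{u}) (j : U ⟶ X) [IsOpenImmersion j], PreservesFiniteLimits (Scheme.Modules.restrictFunctor j)]
  [∀ (R : CommRingCat.{u}), PreservesFiniteLimits (tilde.functor R)]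
  {K : DCoh.D X}

/-- Local data of a dualizing complex at a point. -/
def HasDualChartAt (K : DCoh.D X) (x : X) : Prop :=
  ∃ (A : Type u) (_ : CommRing A) (j : Spec (CommRingCat.of A) ⟶ X) (_ : IsOpenImmersion j),
    x ∈ Set.range j ∧ ∃ ω : Dual.D A, Dual.IsDualizing A ω ∧
      Nonempty ((resD j).obj K ≅ (DCoh.tildeD (CommRingCat.of A)).obj ω)

omit [IsLocallyNoetherian X]
  [∀ (U : Scheme.{u}) (j : U ⟶ X) [IsOpenImmersion j], PreservesFiniteLimits (Scheme.Modules.restrictFunctor j)] in
theorem isQCohD_of_dualCharts (hK : ∀ x, HasDualChartAt K x) : DCoh.IsQCohD K := fun i => by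
  refine (Euler.isCoh_of_restrict (M := DCoh.HD K i) fun x => ?_).1
  obtain ⟨A, _, j, _, hx, ω, hω, ⟨e⟩⟩ := hK x
  haveI := hω.finite_cohomology i
  let H : ModuleCat.{u} A := (DerivedCategory.homologyFunctor (ModuleCat.{u} A) i).obj ω
  have h : Coh.IsCoh ((Scheme.Modules.restrictFunctor j).obj (DCoh.HD K i)) :=
    QCoh.isCoh_of_iso ((HDTildeIso (R := CommRingCat.of A) ω i).symm ≪≫
      (DerivedCategory.homologyFunctor _ i).mapIso e.symm ≪≫ HDResIso j K i)
      ((isCoh_tilde_iff (R := CommRingCat.of A) H).2 (hω.finite_cohomology i))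
  refine ⟨j.opensRange, hx, QCoh.isCoh_of_iso ((Scheme.Modules.restrictFunctorComp j.isoOpensRange.inv j).symm ≪≫
    Scheme.Modules.restrictFunctorCongr (by rw [Iso.inv_comp_eq, Scheme.Hom.isoOpensRange_hom_ι]) |>.app _)
    (Cohom.isCoh_restrict _ h j.isoOpensRange.inv)⟩

/-- Dualizing complexes can be checked on a cover by affine opens. -/
theorem isDualizingSch_of_dualCharts (hK : ∀ x, HasDualChartAt K x) : Dual2.IsDualizingSch X K := by
  intro A _ j _
  haveI : IsLocallyNoetherian (Spec (CommRingCat.of A)) := LocallyOfFiniteType.isLocallyNoetherian j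
  haveI hN : IsNoetherianRing A := (isLocallyNoetherian_Spec (R := CommRingCat.of A)).1 inferInstance
  obtain ⟨ω, ⟨e⟩⟩ := exists_tildeD_rep (isQCohD_of_dualCharts hK) j
  refine ⟨ω, ?_, ⟨e.symm⟩⟩
  have key : ∀ p : PrimeSpectrum A, ∃ (B : Type u) (_ : CommRing B) (_ : Algebra A B) (_ : Module.Flat A B)
      (_ : PreservesFiniteLimits (DualCx22.bcMod (A := A) B)),
      p ∈ Set.range (PrimeSpectrum.comap (algebraMap A B)) ∧
      IsOpen (Set.range (PrimeSpectrum.comap (algebraMap A B))) ∧
      Dual.IsDualizing B ((DualCx22.bcD B).obj ω) := by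
    intro p
    obtain ⟨A', _, i, _, ⟨q, hq⟩, ω', hω', ⟨e'⟩⟩ := hK (j p)
    obtain ⟨_, ⟨_, ⟨g, rfl⟩, rfl⟩, hqg, hgU⟩ :=
      (PrimeSpectrum.isBasis_basic_opens (R := A')).exists_subset_of_mem_open
        (show q ∈ ((i ⁻¹ᵁ j.opensRange : (Spec (CommRingCat.of A')).Opens) : Set _) from ⟨p, hq.symm⟩)
        (i ⁻¹ᵁ j.opensRange).2
    let B := Localization.Away g
    have hr : Set.range (awayMap g ≫ i) ⊆ Set.range j := by
      rintro _ ⟨y, rfl⟩
      exact hgU (by rw [← range_awayMap]; exact ⟨y, rfl⟩)
    let k : Spec (CommRingCat.of B) ⟶ Spec (CommRingCat.of A) := IsOpenImmersion.lift j (awayMap g ≫ i) hr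
    have hk : k ≫ j = awayMap g ≫ i := IsOpenImmersion.lift_fac _ _ _
    letI : Algebra A B := (Spec.preimage k).hom.toAlgebra
    have hsk : specHom (algebraMap A B) = k := Spec.map_preimage k
    haveI : IsOpenImmersion (k ≫ j) := hk ▸ inferInstance
    haveI hki : IsOpenImmersion k := IsOpenImmersion.of_comp k j
    haveI : IsOpenImmersion (specHom (algebraMap A B)) := hsk ▸ hki
    haveI hflat : Module.Flat A B := by
      have h : Flat (Spec.map (Spec.preimage k)) := by rw [Spec.map_preimage]; infer_instance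
      exact (HasRingHomProperty.Spec_iff (P := @AlgebraicGeometry.Flat)).1 h
    haveI hp : PreservesFiniteLimits (DualCx22.bcMod (A := A) B) :=
      DR.preservesFiniteLimits_extendScalars (algebraMap A B) DR.flat_algebraMap
    haveI : PreservesFiniteLimits (DualCx22.bcMod (A := A') B) :=
      haveI : Module.Flat A' B := IsLocalization.flat B (Submonoid.powers g)
      DR.preservesFiniteLimits_extendScalars (algebraMap A' B) DR.flat_algebraMap
    refine ⟨B, inferInstance, inferInstance, hflat, hp, ?_, ?_, ?_⟩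
    · obtain ⟨y, hy⟩ : q ∈ Set.range (awayMap g) := by rw [range_awayMap]; exact hqg
      refine ⟨y, j.isOpenEmbedding.injective ?_⟩
      calc j (PrimeSpectrum.comap (algebraMap A B) y) = (k ≫ j) y := by rw [← hsk]; rfl
        _ = j p := by rw [hk, ← hq, ← hy]; rfl
    · exact (specHom (algebraMap A B)).isOpenEmbedding.isOpen_range
    · have hcmp : Nonempty ((resD k).obj ((resD j).obj K) ≅ (resD (awayMap g)).obj ((resD i).obj K)) := by
        have : ∀ (f : Spec (CommRingCat.of B) ⟶ X) [IsOpenImmersion f], k ≫ j = f →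
            Nonempty ((resD k).obj ((resD j).obj K) ≅ (resD f).obj K) := by
          rintro f _ rfl
          exact ⟨(resDCompIso k j).app K⟩
        exact ⟨(this _ hk).some ≪≫ ((resDCompIso (awayMap g) i).app K).symm⟩
      obtain ⟨c⟩ := hcmp
      obtain ⟨eA⟩ := nonempty_resD_tildeD_bcD (A := A) (B := B) ω
      obtain ⟨eA'⟩ := nonempty_resD_tildeD_bcD (A := A') (B := B) ω'
      have hkk : Nonempty ((resD (specHom (algebraMap A B))).obj ((DCoh.tildeD (CommRingCat.of A)).obj ω) ≅
          (resD k).obj ((resD j).obj K)) := by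
        have : ∀ (f : Spec (CommRingCat.of B) ⟶ Spec (CommRingCat.of A)) [IsOpenImmersion f], f = k →
            Nonempty ((resD f).obj ((DCoh.tildeD (CommRingCat.of A)).obj ω) ≅ (resD k).obj ((resD j).obj K)) := by
          rintro f _ rfl
          exact ⟨(resD _).mapIso e⟩
        exact this _ hsk
      let E : (DCoh.tildeD (CommRingCat.of B)).obj ((DualCx22.bcD B).obj ω) ≅
          (DCoh.tildeD (CommRingCat.of B)).obj ((DualCx22.bcD B).obj ω') :=
        eA.symm ≪≫ hkk.some ≪≫ c ≪≫ (resD (awayMap g)).mapIso e' ≪≫ eA'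
      haveI := (tildeD_full_faithful_essImage (R := CommRingCat.of B)).1
      haveI := (tildeD_full_faithful_essImage (R := CommRingCat.of B)).2.1
      exact DualCx22.isDualizing_of_iso ((DCoh.tildeD (CommRingCat.of B)).preimageIso E).symm
        (DualCx22.isDualizing_bcD_localization (Submonoid.powers g) B hω')
  choose B iC iA hF hL hmem hopen hdual using key
  obtain ⟨s, hs⟩ := (CompactSpace.isCompact_univ (X := PrimeSpectrum A)).elim_finite_subcover _ hopen
    fun p _ => Set.mem_iUnion.2 ⟨p, hmem p⟩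
  have hd : ∀ p : PrimeSpectrum A, ∃ i : s, p ∈ Set.range (PrimeSpectrum.comap (algebraMap A (B i.1))) := fun p => by
    obtain ⟨i, hi, hy⟩ := Set.mem_iUnion₂.1 (hs (Set.mem_univ p))
    exact ⟨⟨i, hi⟩, hy⟩
  exact DualCx22.isDualizing_of_finite_family (fun i : s => B i.1) (detectsZero_of_surjective _ hd)
    (detectsZero_of_surjective _ hd) fun i => hdual i.1

end GrothLib.DualRing
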