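import Groth.Agent.Lib.Dual22.TensorShift
import Groth.Agent.Lib.DualRing.SchemeGor
import Groth.Agent.Lib.DualRing.SchemeCover
import Groth.Agent.Lib.RHomInj22.AffineDuality
import Groth.Agent.Lib.KSix19.ExtTensorPC
import Groth.Agent.Lib.DualCx22.DualRep
import Groth.Agent.Lib.DualCx22.TwistUnique
import Groth.Agent.Lib.OX.OneDegLocus
import Groth.Agent.Lib.DualRing.InvertibleLocus
import Groth.Prelude.Def_Dual3

/-! # Dualizing complexes on a scheme differ by an invertible object -/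

set_option autoImplicit false
set_option linter.style.haveILetI false
set_option maxHeartbeats 1000000
universe u

open CategoryTheory CategoryTheory.Limits CategoryTheory.Pretriangulated AlgebraicGeometry GrothLib.OX GrothLib.DualCx22

attribute [local instance] HasDerivedCategory.standard

namespace GrothLib.DualRing

section Ring

variable {A : Type u} [CommRing A]

theorem comp_comm_of_isDualizing {ω : Dual.D A} (hω : Dual.IsDualizing A ω) (f g : ω ⟶ ω) : f ≫ g = g ≫ f := by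
  obtain ⟨a, rfl⟩ := hω.toEnd_bijective.2 f
  obtain ⟨b, rfl⟩ := hω.toEnd_bijective.2 g
  simp [smul_smul, mul_comm]

/-- Near a prime, dualizing complexes differ by a shift. -/
theorem exists_away_shift [IsNoetherianRing A] {ω ω' : Dual.D A} (hω : Dual.IsDualizing A ω)
    (hω' : Dual.IsDualizing A ω') (p : PrimeSpectrum A) :
    ∃ b, b ∉ p.asIdeal ∧ ∃ (n : ℤ) (_ : PreservesFiniteLimits (bcMod (A := A) (Localization.Away b))),
      Nonempty (((bcD (A := A) (Localization.Away b)).obj ω)⟦n⟧ ≅ (bcD (A := A) (Localization.Away b)).obj ω') := by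
  obtain ⟨k, hk⟩ := compIdeal_local hω hω' p
  have hk' := (hk k).2 rfl
  have hω'' := isDualizing_shift hω' k
  obtain ⟨x, q, b, hxq, hb⟩ : ∃ (x : ω ⟶ ω'⟦k⟧) (q : ω'⟦k⟧ ⟶ ω) (b : A), x ≫ q = b • 𝟙 ω ∧ b ∉ p.asIdeal := by
    by_contra! h
    refine hk' fun a ha => ?_
    have ha' : a • 𝟙 ω ∈ Submodule.span A {h : ω ⟶ ω | ∃ (x : ω ⟶ ω'⟦k⟧) (q : ω'⟦k⟧ ⟶ ω), x ≫ q = h} := ha
    have hle : Submodule.span A {h : ω ⟶ ω | ∃ (x : ω ⟶ ω'⟦k⟧) (q : ω'⟦k⟧ ⟶ ω), x ≫ q = h} ≤
        Submodule.map (LinearMap.toSpanSingleton A (ω ⟶ ω) (𝟙 ω)) p.asIdeal := by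
      rw [Submodule.span_le]
      rintro z ⟨x, q, rfl⟩
      obtain ⟨c, hc⟩ := hω.toEnd_bijective.2 (x ≫ q)
      exact ⟨c, h x q c hc.symm, hc⟩
    obtain ⟨c, hc, hca⟩ := hle ha'
    exact hω.toEnd_bijective.1 hca ▸ hc
  obtain ⟨c, hc⟩ := hω''.toEnd_bijective.2 (q ≫ x)
  have hcb : (b - c) * b = 0 := by
    refine hω.toEnd_bijective.1 ?_
    show ((b - c) * b) • 𝟙 ω = (0 : A) • 𝟙 ω
    have hc' : q ≫ x = c • 𝟙 (ω'⟦k⟧) := hc.symm
    have h1 : b • x = c • x := by
      calc b • x = (x ≫ q) ≫ x := by rw [hxq, Linear.smul_comp, Category.id_comp]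
        _ = c • x := by rw [Category.assoc, hc', Linear.comp_smul, Category.comp_id]
    have h2 := congrArg (fun t => t ≫ q) h1
    simp only [Linear.smul_comp, hxq, smul_smul] at h2
    rw [sub_mul, sub_smul, h2, sub_self, zero_smul]
  let B := Localization.Away b
  haveI : Module.Flat A B := IsLocalization.flat _ (Submonoid.powers b)
  haveI hpfl : PreservesFiniteLimits (bcMod (A := A) B) :=
    GrothLib.DR.preservesFiniteLimits_extendScalars (algebraMap A B) GrothLib.DR.flat_algebraMap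
  refine ⟨b, hb, -k, hpfl, ?_⟩
  have hu : IsUnit (algebraMap A B b) := IsLocalization.Away.algebraMap_isUnit b
  have hcu : algebraMap A B c = algebraMap A B b := by
    have := congrArg (algebraMap A B) hcb
    rw [map_mul, map_sub, map_zero] at this
    exact (sub_eq_zero.1 ((hu.mul_left_eq_zero).1 this)).symm
  obtain ⟨v, hv⟩ := hu
  let e : (bcD (A := A) B).obj ω ≅ (bcD (A := A) B).obj (ω'⟦k⟧) :=
    { hom := (bcD B).map x
      inv := (↑v⁻¹ : B) • (bcD B).map q
      hom_inv_id := by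
        rw [Linear.comp_smul, ← Functor.map_comp, hxq, bcD_map_smul_id, smul_smul, ← hv, Units.inv_mul, one_smul]
      inv_hom_id := by
        rw [Linear.smul_comp, ← Functor.map_comp, show q ≫ x = c • 𝟙 (ω'⟦k⟧) from hc.symm, bcD_map_smul_id,
          smul_smul, hcu, ← hv, Units.inv_mul, one_smul] }
  exact ⟨(shiftFunctor (Dual.D B) (-k)).mapIso (e ≪≫ shiftBc B ω' k) ≪≫ shiftShiftNeg _ k⟩

theorem hasFiniteInjDim_of_isDualizing {ω : Dual.D A} (hω : Dual.IsDualizing A ω) :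
    DRing.HasFiniteInjDim A ω := by
  obtain ⟨a, b, hab⟩ := hω.finite_injective_dimension
  exact ⟨a, b, GrothLib.DR.hasInjAmplitudeIn_of_cyclic ω a b fun J i hi => hab (A ⧸ J) i hi⟩

/-- The dual of a dualizing complex into a shift of itself. -/
theorem nonempty_rHom_shift [IsNoetherianRing A] {ω ω' : Dual.D A} (hω : Dual.IsDualizing A ω)
    (hω' : Dual.IsDualizing A ω') (n : ℤ) (i : ω⟦n⟧ ≅ ω') (K : DRing.Cx A) [DRing.HasRHomCx K]
    (eK : DRing.toD K ≅ ω) : Nonempty ((DRing.RHomCx K).obj ω' ≅ (Dual.inD A A)⟦n⟧) := by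
  obtain ⟨r⟩ := nonempty_injRep hω'
  obtain ⟨v⟩ := r.nonempty_rHom_iso K
  obtain ⟨g⟩ := nonempty_iso_shift_inD (C := A) (K := DRing.toD (r.dual K)) n (fun j hj => by
      haveI := hω.ext_self_subsingleton (n + j) hj
      exact ((r.nonempty_HD_dual K j).some.trans (Linear.homCongr A eK
        ((shiftFunctor (Dual.D A) j).mapIso i.symm ≪≫ ((shiftFunctorAdd' (Dual.D A) n j (n + j) rfl).app ω).symm))).toEquiv.subsingleton)
    ((r.nonempty_HD_dual K (-n)).some.trans ((Linear.homCongr A eK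
      ((shiftFunctor (Dual.D A) (-n)).mapIso i.symm ≪≫ (shiftFunctorCompIsoId (Dual.D A) n (-n) (add_neg_cancel n)).app ω)).trans
      (LinearEquiv.ofBijective (LinearMap.toSpanSingleton A (ω ⟶ ω) (𝟙 ω)) hω.toEnd_bijective).symm))
  exact ⟨v ≪≫ g⟩

end Ring

section Affine

variable {A : Type u} [CommRing A] [IsNoetherianRing A] [PreservesFiniteLimits (tilde.functor (CommRingCat.of A))]

theorem nonempty_tildeD_shift_inD (n : ℤ) :
    Nonempty ((DCoh.tildeD (CommRingCat.of A)).obj ((Dual.inD A A)⟦n⟧) ≅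
      (DCoh.inD (Spec (CommRingCat.of A)) (Coh.structureModule (Spec (CommRingCat.of A))))⟦n⟧) :=
  ⟨((DCoh.tildeD (CommRingCat.of A)).commShiftIso n).app _ ≪≫ (shiftFunctor _ n).mapIso
    (((tilde.functor (CommRingCat.of A)).mapDerivedCategorySingleFunctor 0).app _ ≪≫
      (DerivedCategory.singleFunctor _ 0).mapIso (tildeSelf (R := CommRingCat.of A)))⟩

/-- Two dualizing complexes of a ring differing by a shift, on the spectrum. -/
theorem local_dual_pair {ω ω' : Dual.D A} (hω : Dual.IsDualizing A ω) (hω' : Dual.IsDualizing A ω') (n : ℤ)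
    (i : ω⟦n⟧ ≅ ω') (E : CochainComplex (Spec (CommRingCat.of A)).Modules ℤ) [DCoh.HasLTensorCx E]
    [DCoh.HasRSheafHom E] (e : DerivedCategory.Q.obj E ≅ (DCoh.tildeD (CommRingCat.of A)).obj ω)
    {M : DCoh.D (Spec (CommRingCat.of A))} (eM : M ≅ (DCoh.tildeD (CommRingCat.of A)).obj ω') :
    IsIso ((DCoh.RSheafHomAdj E).counit.app M) ∧ (∀ a b : M ⟶ M, a ≫ b = b ≫ a) ∧
      Nonempty ((DCoh.RSheafHom E).obj M ≅
        (DCoh.inD (Spec (CommRingCat.of A)) (Coh.structureModule (Spec (CommRingCat.of A))))⟦n⟧) := by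
  let T := DCoh.tildeD (CommRingCat.of A)
  haveI := (tildeD_full_faithful_essImage (R := CommRingCat.of A)).1
  haveI := (tildeD_full_faithful_essImage (R := CommRingCat.of A)).2.1
  have hcomm : ∀ a b : M ⟶ M, a ≫ b = b ≫ a := by
    intro a b
    obtain ⟨a', ha⟩ := T.map_surjective (eM.inv ≫ a ≫ eM.hom)
    obtain ⟨b', hb⟩ := T.map_surjective (eM.inv ≫ b ≫ eM.hom)
    have h := congrArg T.map (comp_comm_of_isDualizing hω' a' b')
    rw [Functor.map_comp, Functor.map_comp, ha, hb] at h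
    simpa using h
  let Kc : DRing.Cx A := DerivedCategory.Q.objPreimage ω
  let eK : DRing.toD Kc ≅ ω := DerivedCategory.Q.objObjPreimageIso ω
  haveI := GrothLib.RH.hasRHomCx Kc
  obtain ⟨u1⟩ := RHomInj22.nonempty_RSheafHom_tilde (R := CommRingCat.of A) Kc (fun j => by
      haveI := hω.finite_cohomology j
      exact Module.Finite.equiv ((DerivedCategory.homologyFunctor (ModuleCat.{u} A) j).mapIso eK.symm).toLinearEquiv)
    ω' (hasFiniteInjDim_of_isDualizing hω') E (e ≪≫ T.mapIso eK.symm)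
  obtain ⟨u2⟩ := nonempty_rHom_shift hω hω' n i Kc eK
  obtain ⟨u3⟩ := nonempty_tildeD_shift_inD (A := A) n
  let u := (DCoh.RSheafHom E).mapIso eM ≪≫ u1 ≪≫ T.mapIso u2 ≪≫ u3
  obtain ⟨w⟩ := Dual22.nonempty_ltensorCx_shift_unit E n
  let θ := w ≪≫ (shiftFunctor _ n).mapIso e ≪≫ ((T.commShiftIso n).app ω).symm ≪≫ T.mapIso i ≪≫ eM.symm
  exact ⟨Dual22.isIso_counit_of_comm (DCoh.RSheafHomAdj E) u.symm θ hcomm, hcomm, ⟨u⟩⟩

end Affine

variable {X : Scheme.{u}} [IsLocallyNoetherian X]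
  [∀ (U : Scheme.{u}) (j : U ⟶ X) [IsOpenImmersion j], PreservesFiniteLimits (Scheme.Modules.restrictFunctor j)]
  [∀ (R : CommRingCat.{u}), PreservesFiniteLimits (tilde.functor R)]

/-- Near every point two dualizing complexes differ by a shift on an affine chart. -/
theorem exists_shift_chart {K K' : DCoh.D X} (hK : Dual2.IsDualizingSch X K) (hK' : Dual2.IsDualizingSch X K') (x : X) :
    ∃ (A : Type u) (_ : CommRing A) (_ : IsNoetherianRing A) (j : Spec (CommRingCat.of A) ⟶ X) (_ : IsOpenImmersion j),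
      x ∈ Set.range j ∧ ∃ (ω ω' : Dual.D A) (n : ℤ), Dual.IsDualizing A ω ∧ Dual.IsDualizing A ω' ∧
        Nonempty (ω⟦n⟧ ≅ ω') ∧ Nonempty ((resD j).obj K ≅ (DCoh.tildeD (CommRingCat.of A)).obj ω) ∧
        Nonempty ((resD j).obj K' ≅ (DCoh.tildeD (CommRingCat.of A)).obj ω') := by
  obtain ⟨U, hU, hx, -⟩ := exists_isAffineOpen_mem_and_subset (x := x) (U := ⊤) trivial
  obtain ⟨p, hp⟩ := mem_range_fromSpec hU hx
  let A : Type u := Γ(X, U)
  let j : Spec (CommRingCat.of A) ⟶ X := hU.fromSpec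
  haveI : IsOpenImmersion j := inferInstanceAs (IsOpenImmersion hU.fromSpec)
  haveI : IsNoetherianRing A := IsLocallyNoetherian.component_noetherian ⟨U, hU⟩
  obtain ⟨ω, hω, ⟨e⟩⟩ := hK (CommRingCat.of A) j
  obtain ⟨ω', hω', ⟨e'⟩⟩ := hK' (CommRingCat.of A) j
  obtain ⟨b, hb, n, hpfl, ⟨i⟩⟩ := exists_away_shift hω hω' p
  let B := Localization.Away b
  haveI := hpfl
  let s := specHom (algebraMap A B)
  haveI : IsOpenImmersion s := IsOpenImmersion.of_isLocalization (S := B) b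
  obtain ⟨c⟩ := nonempty_resD_tildeD_bcD (A := A) (B := B) ω
  obtain ⟨c'⟩ := nonempty_resD_tildeD_bcD (A := A) (B := B) ω'
  haveI : IsNoetherianRing B := IsLocalization.isNoetherianRing (Submonoid.powers b) B inferInstance
  refine ⟨B, inferInstance, inferInstance, s ≫ j, inferInstance, ?_, _, _, n,
    isDualizing_bcD_localization (Submonoid.powers b) B hω, isDualizing_bcD_localization (Submonoid.powers b) B hω', ⟨i⟩,
    ⟨((resDCompIso s j).app K).symm ≪≫ (resD s).mapIso e ≪≫ c⟩,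
    ⟨((resDCompIso s j).app K').symm ≪≫ (resD s).mapIso e' ≪≫ c'⟩⟩
  have hr : p ∈ Set.range s := by
    show p ∈ Set.range (PrimeSpectrum.comap (algebraMap A B))
    rw [PrimeSpectrum.localization_away_comap_range B b]
    exact hb
  obtain ⟨q, hq⟩ := hr
  exact ⟨q, by rw [Scheme.Hom.comp_apply, hq]; exact hp⟩

/-- **Uniqueness of dualizing complexes up to invertible objects.** -/
theorem exists_invertible_tensor {K K' : DCoh.D X} (hK : Dual2.IsDualizingSch X K) (hK' : Dual2.IsDualizingSch X K') :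
    ∃ (E : CochainComplex X.Modules ℤ) (_ : DCoh.HasLTensorCx E), Dual3.IsInvertibleD (DCoh.toD X E) ∧
      Nonempty (K' ≅ (DCoh.LTensorCx E).obj K) := by
  let EK := DerivedCategory.Q.objPreimage K
  let eK : DerivedCategory.Q.obj EK ≅ K := DerivedCategory.Q.objObjPreimageIso K
  haveI := hasLTensorCx EK
  haveI := hasRSheafHom EK
  let adj := DCoh.RSheafHomAdj EK
  let L := (DCoh.RSheafHom EK).obj K'
  let EL := DerivedCategory.Q.objPreimage L
  let eL : DerivedCategory.Q.obj EL ≅ L := DerivedCategory.Q.objObjPreimageIso L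
  haveI := hasLTensorCx EL
  have key : ∀ x : X, ∃ (W : Scheme.{u}) (j : W ⟶ X) (_ : IsOpenImmersion j) (n : ℤ), x ∈ Set.range j ∧
      IsIso ((resD j).map (adj.counit.app K')) ∧
      Nonempty ((resD j).obj L ≅ (DCoh.inD W (Coh.structureModule W))⟦n⟧) := by
    intro x
    obtain ⟨A, _, _, j, _, hx, ω, ω', n, hω, hω', ⟨i⟩, ⟨a⟩, ⟨a'⟩⟩ := exists_shift_chart hK hK' x
    let E := (resCx j).obj EK
    haveI := hasLTensorCx E
    haveI := hasRSheafHom E
    let e : DerivedCategory.Q.obj E ≅ (DCoh.tildeD (CommRingCat.of A)).obj ω :=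
      ((resDFac j).app EK).symm ≪≫ (resD j).mapIso eK ≪≫ a
    obtain ⟨hiso, hcomm, ⟨u⟩⟩ := local_dual_pair hω hω' n i E e a'
    obtain ⟨β⟩ := nonempty_resD_RSheafHom (j := j) (K := EK)
    obtain ⟨α⟩ := Dual22.nonempty_resD_ltensorCx j EK L
    haveI := hiso
    let G := DCoh.RSheafHom E
    let γ : (resD j).obj ((DCoh.LTensorCx EK).obj L) ≅ (resD j).obj K' :=
      α ≪≫ (DCoh.LTensorCx E).mapIso (β.app K') ≪≫ asIso ((DCoh.RSheafHomAdj E).counit.app ((resD j).obj K'))
    refine ⟨_, j, inferInstance, n, hx, ?_, ⟨β.app K' ≪≫ u⟩⟩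
    let f : (resD j).obj K' ⟶ (resD j).obj K' := γ.inv ≫ (resD j).map (adj.counit.app K')
    let h : G.obj ((resD j).obj K') ⟶ G.obj ((resD j).obj K') :=
      β.inv.app K' ≫ (resD j).map (adj.unit.app L) ≫ β.hom.app _ ≫ G.map γ.hom
    have hh : h ≫ G.map f = 𝟙 _ := by
      have hn : β.hom.app ((DCoh.LTensorCx EK).obj L) ≫ G.map ((resD j).map (adj.counit.app K')) =
          (resD j).map ((DCoh.RSheafHom EK).map (adj.counit.app K')) ≫ β.hom.app K' :=
        (β.hom.naturality (adj.counit.app K')).symm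
      simp only [h, f, Category.assoc, Functor.map_comp]
      rw [← G.map_comp_assoc, γ.hom_inv_id, G.map_id, Category.id_comp, hn, ← Functor.map_comp_assoc]
      erw [adj.right_triangle_components K']
      rw [(resD j).map_id]
      erw [Category.id_comp]
      exact β.inv_hom_id_app K'
    haveI := Dual22.isIso_of_split_epi_map (DCoh.RSheafHomAdj E) hcomm f h hh
    exact IsIso.of_isIso_comp_left γ.inv _
  refine ⟨EL, inferInstance, fun x => ?_, ?_⟩
  · obtain ⟨W, j, _, n, hx, -, ⟨t⟩⟩ := key x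
    exact ⟨j.opensRange, n, hx, exists_opens_iso j ((resD j).mapIso eL ≪≫ t)⟩
  · obtain ⟨C, g, c, hT⟩ := distinguished_cocone_triangle (adj.counit.app K')
    have hC : IsIso (adj.counit.app K') := by
      refine (Triangle.isZero₃_iff_isIso₁ _ hT).1 ?_
      obtain ⟨Z, hZ⟩ : ∃ Z : DCoh.D X, IsZero Z := HasZeroObject.zero
      have : IsIso (0 : Z ⟶ C) := (DerivedCategory.isIso_iff _ _).2 fun i =>
        ⟨0, ((DerivedCategory.homologyFunctor _ i).map_isZero hZ).eq_of_src _ _, (isZero_of_local fun x => by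
          obtain ⟨W, j, _, n, hx, hiso, -⟩ := key x
          exact ⟨W, j, inferInstance, hx, ((DerivedCategory.homologyFunctor _ i).map_isZero
            (isZero_resD_cone j _ g c hT hiso)).of_iso (HDResIso j C i).symm⟩ : IsZero (DCoh.HD C i)).eq_of_src _ _⟩
      exact hZ.of_iso (asIso (0 : Z ⟶ C)).symm
    obtain ⟨sy⟩ := KSix19.nonempty_ltensor_symm (K₁ := EL) (K₂ := EK) eL eK
    exact ⟨(asIso (adj.counit.app K')).symm ≪≫ sy⟩

end GrothLib.DualRing
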