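import Groth.Agent.Lib.Dual22.DualMap
import Groth.Agent.Lib.DualRing.Unique
import Groth.Agent.Lib.DualCx22.HomFinite
import Mathlib.RingTheory.FiniteType

/-! # Duality on coherent complexes over a scheme with a dualizing complex -/

set_option autoImplicit false
set_option linter.style.haveILetI false
set_option maxHeartbeats 1000000
universe u

open CategoryTheory CategoryTheory.Limits CategoryTheory.Pretriangulated AlgebraicGeometry GrothLib.OX GrothLib.DualCx22

attribute [local instance] HasDerivedCategory.standard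

namespace GrothLib.DualRing

section Ring

variable {A : Type u} [CommRing A] [IsNoetherianRing A] {ω : Dual.D A} (hω : Dual.IsDualizing A ω)
include hω

theorem finite_hom_dualizing {X : Dual.D A} (hX : ∀ i, Module.Finite A (Dual.HD A X i)) (i : ℤ) :
    Module.Finite A (X ⟶ ω⟦i⟧) :=
  DualCx22.finite_hom X ω hX hω.finite_cohomology (hasFiniteInjDim_of_isDualizing hω) i

/-- An endomorphism inducing surjections on morphisms into all shifts of a dualizing complex is invertible. -/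
theorem isIso_of_precomp_surjective {X : Dual.D A} (hX : ∀ i, Module.Finite A (Dual.HD A X i)) (e : X ⟶ X)
    (h : ∀ (k : ℤ) (φ : X ⟶ ω⟦k⟧), ∃ ψ, e ≫ ψ = φ) : IsIso e := by
  have hinj : ∀ k, Function.Injective (fun φ : X ⟶ ω⟦k⟧ => e ≫ φ) := fun k => by
    haveI := finite_hom_dualizing hω hX k
    exact OrzechProperty.injective_of_surjective_endomorphism (Linear.leftComp A (ω⟦k⟧) e) (h k)
  obtain ⟨C, g, c, hT⟩ := distinguished_cocone_triangle e
  have hC : ∀ k, Subsingleton (C ⟶ ω⟦k⟧) := fun k => subsingleton_of_forall_eq 0 fun φ => by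
    have h0 : g ≫ φ = 0 := hinj k (by
      show e ≫ g ≫ φ = e ≫ 0
      have he : e ≫ g = 0 := comp_distTriang_mor_zero₁₂ _ hT
      rw [← Category.assoc, he, zero_comp, comp_zero])
    obtain ⟨χ, hχ⟩ := Triangle.yoneda_exact₃ _ hT φ h0
    let t : (ω⟦(k - 1)⟧)⟦(1 : ℤ)⟧ ≅ ω⟦k⟧ := ((shiftFunctorAdd' (Dual.D A) (k - 1) 1 k (by omega)).app ω).symm
    obtain ⟨χ₀, hχ₀⟩ := (shiftFunctor (Dual.D A) (1 : ℤ)).map_surjective
      (show X⟦(1 : ℤ)⟧ ⟶ (ω⟦(k - 1)⟧)⟦(1 : ℤ)⟧ from χ ≫ t.inv)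
    obtain ⟨ψ, hψ⟩ := h (k - 1) χ₀
    rw [hχ]
    show c ≫ χ = 0
    have hχ' : χ = (shiftFunctor (Dual.D A) (1 : ℤ)).map e ≫ (shiftFunctor (Dual.D A) (1 : ℤ)).map ψ ≫ t.hom := by
      rw [← Functor.map_comp_assoc, hψ, hχ₀, Category.assoc, t.inv_hom_id, Category.comp_id]
    have hz : c ≫ (shiftFunctor (Dual.D A) (1 : ℤ)).map e = 0 := comp_distTriang_mor_zero₃₁ _ hT
    rw [hχ', reassoc_of% hz, zero_comp]
  have hfin : ∀ i, Module.Finite A (Dual.HD A C i) := fun i =>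
    finite_of_sc ((DerivedCategory.homologyFunctor (ModuleCat.{u} A) i).map_distinguished_exact _
      (rot_of_distTriang _ hT)) (hX i)
      (by
        haveI := hX (1 + i)
        exact Module.Finite.equiv (nonempty_HD_shift X 1 i (1 + i) rfl).some.symm)
  obtain ⟨r⟩ := nonempty_injRep hω
  let Kc : DRing.Cx A := DerivedCategory.Q.objPreimage C
  let eK : DRing.toD Kc ≅ C := DerivedCategory.Q.objObjPreimageIso C
  have hK : ∀ i, Module.Finite A (Dual.HD A (DRing.toD Kc) i) := fun i => by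
    haveI := hfin i
    exact Module.Finite.equiv ((DerivedCategory.homologyFunctor (ModuleCat.{u} A) i).mapIso eK.symm).toLinearEquiv
  refine (Triangle.isZero₃_iff_isIso₁ _ hT).1 ?_
  obtain ⟨Z, hZ⟩ : ∃ Z : Dual.D A, IsZero Z := HasZeroObject.zero
  have hzero : ∀ {Y : Dual.D A}, (∀ i, Subsingleton (Dual.HD A Y i)) → IsZero Y := fun {Y} hY => by
    have : IsIso (0 : Z ⟶ Y) := (DerivedCategory.isIso_iff _ _).2 fun i =>
      ⟨0, ((DerivedCategory.homologyFunctor _ i).map_isZero hZ).eq_of_src _ _,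
        ((DR.subsingleton_iff_isZero _).1 (hY i)).eq_of_src _ _⟩
    exact hZ.of_iso (asIso (0 : Z ⟶ Y)).symm
  have hd : IsZero (DRing.toD (r.dual Kc)) := hzero fun i => by
    haveI := hC i
    exact ((r.nonempty_HD_dual Kc i).some.trans (Linear.homCongr A eK (Iso.refl _))).toEquiv.subsingleton
  refine (hzero fun i => ?_ : IsZero C)
  haveI : Subsingleton (DRing.toD (r.dual Kc) ⟶ ω⟦i⟧) := ⟨hd.eq_of_src⟩
  haveI : Subsingleton (Dual.HD A (DRing.toD Kc) i) :=
    (r.nonempty_hom_dual Kc hK i).some.symm.toEquiv.subsingleton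
  exact ((DerivedCategory.homologyFunctor (ModuleCat.{u} A) i).mapIso eK).toLinearEquiv.symm.toEquiv.subsingleton

end Ring

variable {X : Scheme.{u}}

/-- A dual on an affine chart. -/
theorem nonempty_chart_dual {A : Type u} [CommRing A] [IsNoetherianRing A]
    [PreservesFiniteLimits (tilde.functor (CommRingCat.of A))] (j : Spec (CommRingCat.of A) ⟶ X) [IsOpenImmersion j]
    (E : CochainComplex X.Modules ℤ) [DCoh.HasLTensorCx E] [DCoh.HasRSheafHom E] {ω : Dual.D A}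
    (hω : Dual.IsDualizing A ω) (r : InjRep ω) {K : DCoh.D X}
    (a : (resD j).obj K ≅ (DCoh.tildeD (CommRingCat.of A)).obj ω) (L : DRing.Cx A)
    (hL : ∀ i, Module.Finite A (Dual.HD A (DRing.toD L) i))
    (e : (resD j).obj (DerivedCategory.Q.obj E) ≅ (DCoh.tildeD (CommRingCat.of A)).obj (DRing.toD L)) :
    Nonempty ((resD j).obj ((DCoh.RSheafHom E).obj K) ≅
      (DCoh.tildeD (CommRingCat.of A)).obj (DRing.toD (r.dual L))) := by
  let E' := (resCx j).obj E
  haveI := hasLTensorCx E'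
  haveI := hasRSheafHom E'
  haveI := GrothLib.RH.hasRHomCx L
  obtain ⟨β⟩ := nonempty_resD_RSheafHom (j := j) (K := E)
  obtain ⟨u⟩ := RHomInj22.nonempty_RSheafHom_tilde (R := CommRingCat.of A) L hL ω (hasFiniteInjDim_of_isDualizing hω) E'
    (((resDFac j).app E).symm ≪≫ e)
  obtain ⟨v⟩ := r.nonempty_rHom_iso L
  exact ⟨β.app K ≪≫ (DCoh.RSheafHom E').mapIso a ≪≫ u ≪≫ (DCoh.tildeD (CommRingCat.of A)).mapIso v⟩

variable [IsLocallyNoetherian X]
  [∀ (U : Scheme.{u}) (j : U ⟶ X) [IsOpenImmersion j], PreservesFiniteLimits (Scheme.Modules.restrictFunctor j)]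
  [∀ (R : CommRingCat.{u}), PreservesFiniteLimits (tilde.functor R)]
  {K : DCoh.D X} (hK : Dual2.IsDualizingSch X K)

include hK in
/-- The chart at a point for the dual of a coherent complex. -/
theorem exists_dual_chart (L : CochainComplex X.Modules ℤ) (hL : ∀ i : ℤ, Coh.IsCoh (DCoh.HD (DCoh.toD X L) i))
    [DCoh.HasLTensorCx L] [DCoh.HasRSheafHom L] (x : X) :
    ∃ (A : Type u) (_ : CommRing A) (_ : IsNoetherianRing A) (j : Spec (CommRingCat.of A) ⟶ X) (_ : IsOpenImmersion j),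
      x ∈ Set.range j ∧ ∃ (ω : Dual.D A) (r : InjRep ω) (Lc : DRing.Cx A), Dual.IsDualizing A ω ∧
        (∀ i, Module.Finite A (Dual.HD A (DRing.toD Lc) i)) ∧
        (∀ i, Module.Finite A (Dual.HD A (DRing.toD (r.dual Lc)) i)) ∧
        Nonempty ((resD j).obj K ≅ (DCoh.tildeD (CommRingCat.of A)).obj ω) ∧
        Nonempty ((resD j).obj (DCoh.toD X L) ≅ (DCoh.tildeD (CommRingCat.of A)).obj (DRing.toD Lc)) ∧
        Nonempty ((resD j).obj ((DCoh.RSheafHom L).obj K) ≅ (DCoh.tildeD (CommRingCat.of A)).obj (DRing.toD (r.dual Lc))) := by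
  obtain ⟨U, hU, hx, -⟩ := exists_isAffineOpen_mem_and_subset (x := x) (U := ⊤) trivial
  let A : Type u := Γ(X, U)
  let j : Spec (CommRingCat.of A) ⟶ X := hU.fromSpec
  haveI : IsOpenImmersion j := inferInstanceAs (IsOpenImmersion hU.fromSpec)
  haveI : IsNoetherianRing A := IsLocallyNoetherian.component_noetherian ⟨U, hU⟩
  obtain ⟨ω, hω, ⟨a⟩⟩ := hK (CommRingCat.of A) j
  obtain ⟨M, ⟨eM⟩⟩ := exists_tildeD_rep (K := DCoh.toD X L) (fun i => (hL i).1) j
  let Lc : DRing.Cx A := DerivedCategory.Q.objPreimage M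
  let e : (resD j).obj (DCoh.toD X L) ≅ (DCoh.tildeD (CommRingCat.of A)).obj (DRing.toD Lc) :=
    eM.symm ≪≫ (DCoh.tildeD (CommRingCat.of A)).mapIso (DerivedCategory.Q.objObjPreimageIso M).symm
  have hLc : ∀ i, Module.Finite A (Dual.HD A (DRing.toD Lc) i) := fun i =>
    (isCoh_tilde_iff (R := CommRingCat.of A) _).1 (QCoh.isCoh_of_iso
      ((HDResIso j _ i).symm ≪≫ (DerivedCategory.homologyFunctor _ i).mapIso e ≪≫
        HDTildeIso (R := CommRingCat.of A) (DRing.toD Lc) i) (Cohom.isCoh_restrict _ (hL i) j))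
  obtain ⟨r⟩ := nonempty_injRep hω
  refine ⟨A, inferInstance, inferInstance, j, inferInstance, ?_, ω, r, Lc, hω, hLc, fun i => ?_, ⟨a⟩, ⟨e⟩,
    nonempty_chart_dual j L hω r a Lc hLc e⟩
  · obtain ⟨p, hp⟩ := mem_range_fromSpec hU hx
    exact ⟨p, hp⟩
  · haveI := finite_hom_dualizing hω hLc i
    exact Module.Finite.equiv (r.nonempty_HD_dual Lc i).some.symm

include hK in
/-- The dual of a coherent complex is coherent. -/
theorem isCoh_dual (L : CochainComplex X.Modules ℤ) (hL : ∀ i : ℤ, Coh.IsCoh (DCoh.HD (DCoh.toD X L) i))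
    [DCoh.HasLTensorCx L] [DCoh.HasRSheafHom L] (i : ℤ) : Coh.IsCoh (DCoh.HD ((DCoh.RSheafHom L).obj K) i) := by
  refine Euler.isCoh_of_restrict (M := DCoh.HD ((DCoh.RSheafHom L).obj K) i) fun x => ?_
  obtain ⟨A, _, _, j, _, hx, ω, r, Lc, -, -, hD, -, -, ⟨eD⟩⟩ := exists_dual_chart hK L hL x
  have h : Coh.IsCoh ((Scheme.Modules.restrictFunctor j).obj (DCoh.HD ((DCoh.RSheafHom L).obj K) i)) :=
    QCoh.isCoh_of_iso ((HDTildeIso (R := CommRingCat.of A) _ i).symm ≪≫
      (DerivedCategory.homologyFunctor _ i).mapIso eD.symm ≪≫ HDResIso j _ i)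
      ((isCoh_tilde_iff (R := CommRingCat.of A) _).2 (hD i))
  exact ⟨j.opensRange, hx, QCoh.isCoh_of_iso ((Scheme.Modules.restrictFunctorComp j.isoOpensRange.inv j).symm ≪≫
    Scheme.Modules.restrictFunctorCongr (by rw [Iso.inv_comp_eq, Scheme.Hom.isoOpensRange_hom_ι]) |>.app _)
    (Cohom.isCoh_restrict _ h j.isoOpensRange.inv)⟩

include hK in
/-- **Biduality.** -/
theorem nonempty_biduality (L : CochainComplex X.Modules ℤ) (hL : ∀ i : ℤ, Coh.IsCoh (DCoh.HD (DCoh.toD X L) i))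
    [DCoh.HasLTensorCx L] [DCoh.HasRSheafHom L] (M : CochainComplex X.Modules ℤ) [DCoh.HasLTensorCx M]
    [DCoh.HasRSheafHom M] (e : DCoh.toD X M ≅ (DCoh.RSheafHom L).obj K) :
    Nonempty ((DCoh.RSheafHom M).obj K ≅ DCoh.toD X L) := by
  obtain ⟨P, q, hP, -, hq, -⟩ := exists_kflat_resolution L
  haveI := hasLTensorCx P
  obtain ⟨a⟩ := nonempty_ltensorCx_congr q
  obtain ⟨η, hη⟩ := Dual22.exists_dual_map_local ((DCoh.RSheafHomAdj L).ofNatIsoLeft a.symm) hP M
    (DCoh.RSheafHomAdj M) K e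
  have key : ∀ x : X, ∃ (W : Scheme.{u}) (j : W ⟶ X) (_ : IsOpenImmersion j), x ∈ Set.range j ∧
      IsIso ((resD j).map η) := by
    intro x
    obtain ⟨A, _, _, j, _, hx, ω, r, Lc, hω, hLc, hD, ⟨aK⟩, ⟨eL⟩, ⟨eD⟩⟩ := exists_dual_chart hK L hL x
    obtain ⟨u⟩ := nonempty_chart_dual j M hω r aK (r.dual Lc) hD ((resD j).mapIso e ≪≫ eD)
    obtain ⟨b⟩ := r.nonempty_bidual Lc hLc
    let T := DCoh.tildeD (CommRingCat.of A)
    haveI := (tildeD_full_faithful_essImage (R := CommRingCat.of A)).1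
    haveI := (tildeD_full_faithful_essImage (R := CommRingCat.of A)).2.1
    let eP : (resD j).obj (DerivedCategory.Q.obj P) ≅ T.obj (DRing.toD Lc) :=
      (resD j).mapIso (asIso (DerivedCategory.Q.map q)) ≪≫ eL
    let eN : (resD j).obj ((DCoh.RSheafHom M).obj K) ≅ T.obj (DRing.toD Lc) := u ≪≫ T.mapIso b.symm
    obtain ⟨f, hf⟩ := T.map_surjective (eP.inv ≫ (resD j).map η ≫ eN.hom)
    haveI : IsIso f := isIso_of_precomp_surjective hω hLc f fun k φ => by
      let cK : ((resD j).obj K)⟦k⟧ ≅ T.obj (ω⟦k⟧) := (shiftFunctor _ k).mapIso aK ≪≫ ((T.commShiftIso k).app ω).symm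
      obtain ⟨ψ, hψ⟩ := hη _ j k (eP.hom ≫ T.map φ ≫ cK.inv)
      obtain ⟨ψ', hψ'⟩ := T.map_surjective (eN.inv ≫ ψ ≫ cK.hom)
      refine ⟨ψ', T.map_injective ?_⟩
      rw [Functor.map_comp, hf, hψ', Category.assoc, Category.assoc, Iso.hom_inv_id_assoc, reassoc_of% hψ,
        Iso.inv_hom_id_assoc, Iso.inv_hom_id, Category.comp_id]
    have h1 : (resD j).map η = eP.hom ≫ T.map f ≫ eN.inv := by
      rw [hf]; simp
    refine ⟨_, j, inferInstance, hx, ?_⟩
    rw [h1]
    infer_instance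
  haveI : IsIso η := by
    obtain ⟨C, g, c, hT⟩ := distinguished_cocone_triangle η
    refine (Triangle.isZero₃_iff_isIso₁ _ hT).1 ?_
    obtain ⟨Z, hZ⟩ : ∃ Z : DCoh.D X, IsZero Z := HasZeroObject.zero
    have : IsIso (0 : Z ⟶ C) := (DerivedCategory.isIso_iff _ _).2 fun i =>
      ⟨0, ((DerivedCategory.homologyFunctor _ i).map_isZero hZ).eq_of_src _ _, (isZero_of_local fun x => by
        obtain ⟨W, j, _, hx, hiso⟩ := key x
        exact ⟨W, j, inferInstance, hx, ((DerivedCategory.homologyFunctor _ i).map_isZero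
          (isZero_resD_cone j _ g c hT hiso)).of_iso (HDResIso j C i).symm⟩ : IsZero (DCoh.HD C i)).eq_of_src _ _⟩
    exact hZ.of_iso (asIso (0 : Z ⟶ C)).symm
  exact ⟨(asIso η).symm ≪≫ asIso (DerivedCategory.Q.map q)⟩

end GrothLib.DualRing
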