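import Groth.Agent.Lib.DualRing.ShriekIndep
import Groth.Agent.Lib.DCxRHom.Rep
import Groth.Agent.Lib.DualCx22.HomDerived
import Groth.Agent.Lib.DCxKFlat.LBaseKFlat

/-! # The action on a resolution: a criterion for coinduced complexes -/

set_option autoImplicit false
set_option linter.style.haveILetI false
set_option maxHeartbeats 400000
universe u

open CategoryTheory CategoryTheory.Limits CochainComplex CochainComplex.HomComplex HomologicalComplex GrothLib.DualCx22

attribute [local instance] HasDerivedCategory.standard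

namespace GrothLib.DualRing.Act

variable {P B : Type u} [CommRing P] [CommRing B] (φ : P →+* B)

/-- The adjunction on complexes. -/
noncomputable abbrev cxAdj : DRing.restrictCx φ ⊣
    (ModuleCat.coextendScalars.{u, u, u} φ).mapHomologicalComplex (ComplexShape.up ℤ) :=
  GrothLib.KInj.mapComplexAdj (ModuleCat.restrictCoextendScalarsAdj.{u, u, u} φ) (ComplexShape.up ℤ)

/-- The inverse comparison, with source a restriction. -/
noncomputable def resCoInv (J : DRing.Cx P) :
    (DRing.restrictCx φ).obj (((ModuleCat.coextendScalars.{u, u, u} φ).mapHomologicalComplex (ComplexShape.up ℤ)).obj J) ⟶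
      DRing.homCx (srcCx φ) J :=
  (resCoIso φ J).inv

instance (J : DRing.Cx P) : IsIso (resCoInv φ J) := inferInstanceAs (IsIso (resCoIso φ J).inv)

theorem resCoIso_inv_natural {I J : DRing.Cx P} (g : I ⟶ J) :
    (DRing.restrictCx φ).map
        (((ModuleCat.coextendScalars.{u, u, u} φ).mapHomologicalComplex (ComplexShape.up ℤ)).map g) ≫
      resCoInv φ J = resCoInv φ I ≫ DRing.homCxMap (srcCx φ) g := by
  have key : DRing.homCxMap (srcCx φ) g ≫ (resCoIso φ J).hom = (resCoIso φ I).hom ≫ (DRing.restrictCx φ).map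
      (((ModuleCat.coextendScalars.{u, u, u} φ).mapHomologicalComplex (ComplexShape.up ℤ)).map g) := ?_
  · exact (Iso.comp_inv_eq _).2 (((Iso.inv_comp_eq _).2 key).symm.trans (Category.assoc _ _ _).symm)
  refine HomologicalComplex.hom_ext _ _ fun n => ModuleCat.hom_ext (LinearMap.ext fun (f : Cochain (srcCx φ) I n) => ?_)
  refine ModuleCat.CoextendScalars.ext (LinearMap.ext fun s => ?_)
  let i := (singleObjXSelf (ComplexShape.up ℤ) 0 ((ModuleCat.restrictScalars.{u} φ).obj (ModuleCat.of B B))).inv s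
  change ((f.comp (Cochain.ofHom g) (add_zero n)).v 0 n (zero_add n)) i = g.f n (f.v 0 n (zero_add n) i)
  rw [Cochain.comp_zero_cochain_v, Cochain.ofHom_v]
  rfl

theorem homCxPre_homCxMap {K K' L L' : DRing.Cx P} (f : K' ⟶ K) (g : L ⟶ L') :
    DRing.homCxMap K g ≫ GrothLib.RH.homCxPre f L' = GrothLib.RH.homCxPre f L ≫ DRing.homCxMap K' g :=
  HomologicalComplex.hom_ext _ _ fun n => ModuleCat.hom_ext (LinearMap.ext fun (z : Cochain K L n) =>
    (Cochain.comp_assoc_of_third_is_zero_cochain (Cochain.ofHom f) z (Cochain.ofHom g) (zero_add n)).symm)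

variable {E : DRing.Cx P} (ε : E ⟶ srcCx φ)

/-- An element acts through the resolution. -/
noncomputable def act (X : DRing.Cx B) :
    (DRing.restrictCx φ).obj X ⟶ DRing.homCx E ((DRing.restrictCx φ).obj X) :=
  (DRing.restrictCx φ).map ((cxAdj φ).unit.app X) ≫ resCoInv φ ((DRing.restrictCx φ).obj X) ≫
    GrothLib.RH.homCxPre ε _

/-- The adjoint map, seen on the resolution. -/
theorem act_comp (X : DRing.Cx B) {J : DRing.Cx P} (γ : (DRing.restrictCx φ).obj X ⟶ J) :
    act φ ε X ≫ DRing.homCxMap E γ =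
      (DRing.restrictCx φ).map ((cxAdj φ).homEquiv X J γ) ≫ resCoInv φ J ≫ GrothLib.RH.homCxPre ε J := by
  rw [act, Category.assoc, Category.assoc, ← homCxPre_homCxMap, Adjunction.homEquiv_unit, Functor.map_comp,
    Category.assoc, reassoc_of% (resCoIso_inv_natural φ γ)]

/-- **The criterion.** -/
theorem quasiIso_homEquiv_iff [QuasiIso ε] (X : DRing.Cx B) {J : DRing.Cx P} [J.IsKInjective]
    (γ : (DRing.restrictCx φ).obj X ⟶ J) :
    QuasiIso ((cxAdj φ).homEquiv X J γ) ↔ QuasiIso (act φ ε X ≫ DRing.homCxMap E γ) := by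
  haveI := GrothLib.RH.quasiIso_homCxPre ε J
  rw [act_comp, ← Category.assoc, quasiIso_iff_comp_right, quasiIso_iff_comp_right]
  exact ⟨fun h => inferInstanceAs (QuasiIso (((ModuleCat.restrictScalars.{u} φ).mapHomologicalComplex _).map _)),
    fun h => (HomologicalComplex.quasiIso_map_iff_of_preservesHomology ((cxAdj φ).homEquiv X J γ)
      (ModuleCat.restrictScalars.{u} φ)).1 h⟩

theorem act_v_zero (X : DRing.Cx B) (n : ℤ) (x : ((DRing.restrictCx φ).obj X).X n) (e : E.X 0) :
    ((act φ ε X).f n x).v 0 n (zero_add n) e =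
      ((singleObjXSelf (ComplexShape.up ℤ) 0 ((ModuleCat.restrictScalars.{u} φ).obj (ModuleCat.of B B))).hom
        (ε.f 0 e) : B) • (show X.X n from x) := by
  change ((Cochain.ofHom ε).comp _ (zero_add n)).v 0 n (zero_add n) e = _
  rw [Cochain.zero_cochain_comp_v, Cochain.ofHom_v]
  let g := ((DRing.restrictCx φ).map ((cxAdj φ).unit.app X)).f n x
  refine (ConcreteCategory.comp_apply _ _ e).trans ?_
  let h : ((ModuleCat.restrictScalars.{u} φ).obj (ModuleCat.of B B)) ⟶ ((DRing.restrictCx φ).obj X).X n :=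
    ModuleCat.homEquiv.symm (ModuleCat.CoextendScalars.equiv φ (((DRing.restrictCx φ).obj X).X n) g)
  change (CochainComplex.HomComplex.Cochain.fromSingleMk (K := (DRing.restrictCx φ).obj X) (p := 0) (q := n)
    h (zero_add n)).v 0 n _ (ε.f 0 e) = _
  rw [Cochain.fromSingleMk_v]
  rfl

theorem act_v_ne_zero (X : DRing.Cx B) (n r t : ℤ) (h : r + n = t) (hr : r ≠ 0)
    (x : ((DRing.restrictCx φ).obj X).X n) : ((act φ ε X).f n x).v r t h = 0 := by
  change ((Cochain.ofHom ε).comp _ (zero_add n)).v r t h = _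
  rw [Cochain.zero_cochain_comp_v, Cochain.ofHom_v,
    (isZero_single_obj_X (ComplexShape.up ℤ) 0 _ r hr).eq_of_tgt (ε.f r) 0, zero_comp]

end GrothLib.DualRing.Act
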