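import Groth.Agent.Lib.DualRing.Act
import Groth.Agent.Lib.DCxRing.TorIndepSquare
import Groth.Agent.Lib.DCxRHom.Dual
import Groth.Agent.Lib.ExtBC.Basic

/-! # Base change of complexes of homomorphisms -/

set_option autoImplicit false
set_option linter.style.haveILetI false
set_option maxHeartbeats 800000
universe u

open CategoryTheory CategoryTheory.Limits CochainComplex CochainComplex.HomComplex HomologicalComplex GrothLib.DualCx22
open scoped TensorProduct
open GrothLib.RH (oneCx)

attribute [local instance] HasDerivedCategory.standard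

namespace GrothLib.DualRing.Act

/-- A finite projective module is good for base change of homomorphisms. -/
theorem bijective_κ_proj {A : Type u} [CommRing A] (B : Type u) [CommRing B] [Algebra A B]
    (N : Type u) [AddCommGroup N] [Module A N] (M : Type u) [AddCommGroup M] [Module A M] [Module.Finite A M]
    [Module.Projective A M] : Function.Bijective (GrothLib.ExtBC.κ (A := A) B N M) := by
  obtain ⟨n, p, hp⟩ := Module.Finite.exists_fin' A M
  obtain ⟨s, hs⟩ := Module.projective_lifting_property p LinearMap.id hp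
  have hn := GrothLib.ExtBC.bijective_κ_pi (A := A) (B := B) (N := N) n
  constructor
  · refine (injective_iff_map_eq_zero _).2 fun t ht => ?_
    have h1 : (LinearMap.lcomp A N p).baseChange B t = 0 := by
      apply hn.1
      rw [GrothLib.ExtBC.κ_natural, ht, map_zero, LinearMap.zero_comp]
    have h2 : (LinearMap.lcomp A N s).baseChange B ((LinearMap.lcomp A N p).baseChange B t) = t := by
      rw [← LinearMap.comp_apply, ← LinearMap.baseChange_comp]
      have : (LinearMap.lcomp A N s).comp (LinearMap.lcomp A N p) = LinearMap.id :=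
        LinearMap.ext fun f => by
          change (f.comp p).comp s = f
          rw [LinearMap.comp_assoc, hs, LinearMap.comp_id]
      rw [this, LinearMap.baseChange_id, LinearMap.id_apply]
    rw [← h2, h1, map_zero]
  · intro φ
    obtain ⟨t, ht⟩ := hn.2 (φ.comp (p.baseChange B))
    refine ⟨(LinearMap.lcomp A N s).baseChange B t, ?_⟩
    rw [GrothLib.ExtBC.κ_natural, ht, LinearMap.comp_assoc, ← LinearMap.baseChange_comp, hs,
      LinearMap.baseChange_id, LinearMap.comp_id]

variable {P P' : Type u} [CommRing P] [CommRing P'] (ρ : P →+* P') (E : DRing.Cx P)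

/-- The cochains after base change, semilinearly. -/
noncomputable def bcCochain (Y : DRing.Cx P) (n : ℤ) :
    (DRing.homCx E Y).X n ⟶ (ModuleCat.restrictScalars.{u} ρ).obj ((DRing.homCx ((DR.bc ρ).obj E) ((DR.bc ρ).obj Y)).X n) :=
  ModuleCat.ofHom (Y := (ModuleCat.restrictScalars.{u} ρ).obj
      ((DRing.homCx ((DR.bc ρ).obj E) ((DR.bc ρ).obj Y)).X n))
    { toFun := fun z : Cochain E Y n => (z.map (ModuleCat.extendScalars.{u, u, u} ρ) :
        Cochain ((DR.bc ρ).obj E) ((DR.bc ρ).obj Y) n)
      map_add' := fun z z' => Cochain.map_add z z' _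
      map_smul' := fun p (z : Cochain E Y n) => Cochain.ext _ _ fun r t h =>
        (ModuleCat.extendRestrictScalarsAdj.{u, u, u} ρ).homEquiv _ _ |>.injective
          (ModuleCat.hom_ext (LinearMap.ext fun e => by
            letI := ρ.toAlgebra
            change (1 : P') ⊗ₜ[P] (p • z.v r t h e) = ρ p • ((1 : P') ⊗ₜ[P] z.v r t h e)
            rw [TensorProduct.tmul_smul]
            exact (algebra_compatible_smul P' p ((1 : P') ⊗ₜ[P] z.v r t h e)))) }

/-- **Base change of a complex of homomorphisms.** -/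
noncomputable def cmpM (Y : DRing.Cx P) :
    (DR.bc ρ).obj (DRing.homCx E Y) ⟶ DRing.homCx ((DR.bc ρ).obj E) ((DR.bc ρ).obj Y) where
  f n := ((ModuleCat.extendRestrictScalarsAdj.{u, u, u} ρ).homEquiv _ _).symm (bcCochain ρ E Y n)
  comm' i j _ := by
    refine ((ModuleCat.extendRestrictScalarsAdj.{u, u, u} ρ).homEquiv_naturality_right_symm _ _).symm.trans
      (Eq.trans ?_ ((ModuleCat.extendRestrictScalarsAdj.{u, u, u} ρ).homEquiv_naturality_left_symm _ _))
    refine congrArg _ (ModuleCat.hom_ext (LinearMap.ext fun (z : Cochain E Y i) => ?_))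
    exact δ_map i j z (ModuleCat.extendScalars.{u, u, u} ρ)

theorem transpose_one_tmul {X : ModuleCat.{u} P} {Z : ModuleCat.{u} P'}
    (g : X ⟶ (ModuleCat.restrictScalars.{u} ρ).obj Z) (x : X) :
    letI := ρ.toAlgebra
    ((ModuleCat.extendRestrictScalarsAdj.{u, u, u} ρ).homEquiv X Z).symm g ((1 : P') ⊗ₜ[P] x) = g x := by
  letI := ρ.toAlgebra
  let f := ((ModuleCat.extendRestrictScalarsAdj.{u, u, u} ρ).homEquiv X Z).symm g
  have h : (ModuleCat.extendRestrictScalarsAdj.{u, u, u} ρ).homEquiv X Z f = g := Equiv.apply_symm_apply _ _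
  refine Eq.trans ?_ (ConcreteCategory.congr_hom h x)
  rfl

theorem cmpM_one_tmul (Y : DRing.Cx P) (n : ℤ) (z : Cochain E Y n) :
    letI := ρ.toAlgebra
    (cmpM ρ E Y).f n ((1 : P') ⊗ₜ[P] z) = z.map (ModuleCat.extendScalars.{u, u, u} ρ) := by
  exact transpose_one_tmul ρ (bcCochain ρ E Y n) z

/-- Maps out of a base change agree when they agree on the generators. -/
theorem bc_hom_ext {X : DRing.Cx P} {Z : DRing.Cx P'} {f g : (DR.bc ρ).obj X ⟶ Z}
    (h : letI := ρ.toAlgebra; ∀ (n : ℤ) (x : X.X n), f.f n ((1 : P') ⊗ₜ[P] x) = g.f n ((1 : P') ⊗ₜ[P] x)) : f = g :=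
  HomologicalComplex.hom_ext _ _ fun n =>
    ((ModuleCat.extendRestrictScalarsAdj.{u, u, u} ρ).homEquiv _ _).injective
      (ModuleCat.hom_ext (LinearMap.ext fun x => h n x))

theorem cmpM_natural {Y Y' : DRing.Cx P} (g : Y ⟶ Y') :
    (DR.bc ρ).map (DRing.homCxMap E g) ≫ cmpM ρ E Y' =
      cmpM ρ E Y ≫ DRing.homCxMap ((DR.bc ρ).obj E) ((DR.bc ρ).map g) := by
  refine bc_hom_ext ρ fun n (z : Cochain E Y n) => ?_
  letI := ρ.toAlgebra
  change (cmpM ρ E Y').f n ((1 : P') ⊗ₜ[P] (z.comp (Cochain.ofHom g) (add_zero n) : Cochain E Y' n)) =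
    (DRing.homCxMap ((DR.bc ρ).obj E) ((DR.bc ρ).map g)).f n ((cmpM ρ E Y).f n ((1 : P') ⊗ₜ[P] z))
  rw [cmpM_one_tmul, cmpM_one_tmul]
  exact (Cochain.map_comp Y' z (Cochain.ofHom g) (add_zero n) _).trans
    (congrArg (fun w => Cochain.comp _ w (add_zero n)) (Cochain.map_ofHom Y Y' g _))

/-- The unit complex after base change. -/
noncomputable def bcOne : (DR.bc ρ).obj (oneCx P) ≅ oneCx P' :=
  (HomologicalComplex.singleMapHomologicalComplex (ModuleCat.extendScalars.{u, u, u} ρ) (ComplexShape.up ℤ) 0).app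
      (ModuleCat.of P P) ≪≫
    (HomologicalComplex.single (ModuleCat.{u} P') (ComplexShape.up ℤ) 0).mapIso
      (letI := ρ.toAlgebra
       ((DR.nonempty_extendScalars_iso (B := P') P).some.symm ≪≫
         (TensorProduct.AlgebraTensorModule.rid P P' P').toModuleIso :))

/-- **Base change of the dual of a strictly perfect complex.** -/
theorem isIso_cmpM_one (hE : DRing.TermwiseFiniteProjective E) : IsIso (cmpM ρ E (oneCx P)) := by
  suffices ∀ n, IsIso ((cmpM ρ E (oneCx P)).f n) from HomologicalComplex.Hom.isIso_of_components _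
  intro n
  rw [ConcreteCategory.isIso_iff_bijective]
  letI := ρ.toAlgebra
  obtain ⟨h1, h2⟩ := hE (-n)
  haveI := h1
  haveI := h2
  let p : ℤ := -n
  have hp : p + n = 0 := neg_add_cancel n
  let Y := oneCx P
  let Y' := (DR.bc ρ).obj Y
  let E' := (DR.bc ρ).obj E
  let ev : Cochain E' Y' n → (P' ⊗[P] E.X p →ₗ[P'] P' ⊗[P] Y.X 0) := fun w => (w.v p 0 hp).hom
  have hev : Function.Bijective ev := by
    constructor
    · intro w w' hw
      refine Cochain.ext _ _ fun r t hrt => ?_
      by_cases ht : t = 0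
      · obtain rfl : r = p := by omega
        subst ht
        exact ModuleCat.hom_ext hw
      · exact ((ModuleCat.extendScalars.{u, u, u} ρ).map_isZero
          (isZero_single_obj_X (ComplexShape.up ℤ) 0 _ t ht)).eq_of_tgt _ _
    · intro f
      exact ⟨Cochain.single (K := E') (L := Y') (p := p) (q := 0) (ModuleCat.ofHom (X := P' ⊗[P] E.X p) (Y := P' ⊗[P] Y.X 0) f) n,
        congrArg ModuleCat.Hom.hom (Cochain.single_v (K := E') (L := Y') (ModuleCat.ofHom (X := P' ⊗[P] E.X p) (Y := P' ⊗[P] Y.X 0) f) n hp)⟩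
  let e0 : (DRing.homCx E Y).X n →ₗ[P] (E.X p →ₗ[P] Y.X 0) :=
    { toFun := fun z : Cochain E Y n => (z.v p 0 hp).hom
      map_add' := fun _ _ => rfl
      map_smul' := fun _ _ => rfl }
  have he0 : Function.Bijective e0 := by
    constructor
    · intro w w' hw
      refine Cochain.ext _ _ fun r t hrt => ?_
      by_cases ht : t = 0
      · obtain rfl : r = p := by omega
        subst ht
        exact ModuleCat.hom_ext hw
      · exact (isZero_single_obj_X (ComplexShape.up ℤ) 0 _ t ht).eq_of_tgt _ _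
    · intro f
      exact ⟨(Cochain.single (K := E) (L := Y) (p := p) (q := 0) (ModuleCat.ofHom f) n : Cochain E Y n),
        congrArg ModuleCat.Hom.hom (Cochain.single_v (K := E) (L := Y) (ModuleCat.ofHom f) n hp)⟩
  let L : P' ⊗[P] ((DRing.homCx E Y).X n) → Cochain E' Y' n := fun x => (cmpM ρ E Y).f n x
  have key : ∀ x, ev (L x) = GrothLib.ExtBC.κ (A := P) P' (Y.X 0) (E.X p) (e0.baseChange P' x) := by
    intro x
    induction x using TensorProduct.induction_on with
    | zero =>
      have h0 : L 0 = 0 := map_zero ((cmpM ρ E Y).f n).hom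
      rw [h0, map_zero, map_zero]
      rfl
    | add x y hx hy =>
      have h0 : L (x + y) = L x + L y := map_add ((cmpM ρ E Y).f n).hom x y
      rw [h0, map_add, map_add, ← hx, ← hy]
      rfl
    | tmul r z =>
      have h0 : L (r ⊗ₜ[P] z) = r • L ((1 : P') ⊗ₜ[P] z) := by
        refine Eq.trans ?_ (map_smul ((cmpM ρ E Y).f n).hom r ((1 : P') ⊗ₜ[P] z))
        refine congrArg L ?_
        rw [TensorProduct.smul_tmul', smul_eq_mul, mul_one]
      rw [h0, LinearMap.baseChange_tmul, GrothLib.ExtBC.κ_tmul]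
      change r • ev (L ((1 : P') ⊗ₜ[P] z)) = _
      refine congrArg (r • ·) (TensorProduct.AlgebraTensorModule.ext fun q e => ?_)
      have hz : L ((1 : P') ⊗ₜ[P] z) = (z : Cochain E Y n).map (ModuleCat.extendScalars.{u, u, u} ρ) :=
        cmpM_one_tmul ρ E Y n z
      change (L ((1 : P') ⊗ₜ[P] z)).v p 0 hp (q ⊗ₜ[P] e) = _
      rw [hz]
      rfl
  have hb : Function.Bijective (ev ∘ L) := by
    rw [show ev ∘ L = _ from funext key]
    exact (bijective_κ_proj P' (Y.X 0) (E.X p)).comp ((LinearEquiv.ofBijective e0 he0).baseChange P P').bijective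
  exact (Function.Bijective.of_comp_iff' hev L).1 hb

end GrothLib.DualRing.Act
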