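import Groth.Agent.Lib.DualRing.Bottom
import Groth.Agent.Lib.DualRing.RelBridge
import Groth.Agent.Lib.DualCx22.CoindDual
import Groth.Agent.Lib.Faltings.Transfer

/-! # The lowest dual of a quotient ring has depth at least two -/

set_option autoImplicit false
set_option linter.style.haveILetI false
set_option maxHeartbeats 800000
universe u

open CategoryTheory CategoryTheory.Limits Pretriangulated IsLocalRing GrothLib.DualCx22

attribute [local instance] HasDerivedCategory.standard

namespace GrothLib.DualRing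

/-- The lowest cohomology has the depth given by the vanishing from the residue field, up to two. -/
theorem le_depth_HD_bottom {A : Type u} [CommRing A] [IsLocalRing A] [IsNoetherianRing A] (X : Dual.D A) (j : ℤ)
    [Module.Finite A (Dual.HD A X j)] (hv : ∀ i, i < j → Subsingleton (Dual.HD A X i)) (n : ℕ) (hn2 : n ≤ 2)
    (hres : ∀ l : ℤ, l < j + n → Subsingleton (Dual.inD A (A ⧸ maximalIdeal A) ⟶ X⟦l⟧)) :
    (n : ℕ∞) ≤ LocCoh.depth A (Dual.HD A X j) := by
  let m := IsLocalRing.maximalIdeal A
  refine (GrothLib.Depth.le_idealDepth_iff_ext _ n).2 fun i hi => ?_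
  obtain ⟨T, hT, hT₂, ⟨e₁⟩, h₃⟩ := exists_bottom_triangle X j hv
  let k : Dual.D A := Dual.inD A (A ⧸ m)
  have h1 : Subsingleton (k ⟶ T.obj₁⟦j + i⟧) := by
    refine subsingleton_of_forall_eq 0 fun φ => ?_
    have hT' := inv_rot_of_distTriang _ (Triangle.shift_distinguished T hT (j + i))
    have h2 : Subsingleton (k ⟶ T.obj₂⟦j + i⟧) := by
      rw [hT₂]
      exact hres _ (by omega)
    obtain ⟨g, hg⟩ := Triangle.coyoneda_exact₂ _ hT' φ (h2.elim _ _)
    have hg0 : g = 0 := by
      haveI := h₃
      have hk : DerivedCategory.TStructure.t.IsLE k 0 := inferInstanceAs ((Dual.inD A (A ⧸ m)).IsLE 0)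
      haveI : DerivedCategory.TStructure.t.IsGE T.obj₃ (j + 1) := h₃
      haveI := DerivedCategory.TStructure.t.isGE_shift T.obj₃ (j + 1) (j + i) (1 - i) (by omega)
      have h4 : DerivedCategory.TStructure.t.IsGE ((T.obj₃⟦j + (i : ℤ)⟧)⟦(-1 : ℤ)⟧) (2 - i) :=
        DerivedCategory.TStructure.t.isGE_shift _ (1 - i) (-1) (2 - i) (by omega)
      exact DerivedCategory.TStructure.t.zero_of_isLE_of_isGE g 0 (2 - i) (by omega) hk h4
    rw [hg, hg0]
    exact zero_comp
  let e : T.obj₁⟦j + (i : ℤ)⟧ ≅ (Dual.inD A (Dual.HD A X j))⟦(i : ℤ)⟧ :=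
    (shiftFunctor _ _).mapIso e₁ ≪≫ ((shiftFunctorAdd' (Dual.D A) (-j) (j + i) i (by omega)).app _).symm
  haveI : Subsingleton (k ⟶ (Dual.inD A (Dual.HD A X j))⟦(i : ℤ)⟧) :=
    (Linear.homCongr A (Iso.refl k) e).symm.toEquiv.subsingleton
  exact Abelian.Ext.homEquiv.subsingleton

/-- Below the depth there are no maps from the residue field. -/
theorem subsingleton_residue_lt_depth {B : Type u} [CommRing B] [IsLocalRing B] [IsNoetherianRing B] (D : ℕ)
    (hD : (D : ℕ∞) ≤ LocCoh.depth B B) (l : ℤ) (hl : l < D) :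
    Subsingleton (Dual.inD B (B ⧸ maximalIdeal B) ⟶ (Dual.inD B B)⟦l⟧) := by
  rcases lt_or_ge l 0 with h0 | h0
  · haveI : (Dual.inD B B).IsGE 0 := inferInstance
    exact subsingleton_hom_of_isLE _ 0 (Dual.inD B (B ⧸ maximalIdeal B)) 0 l (by omega)
  obtain ⟨j, rfl⟩ := Int.eq_ofNat_of_zero_le h0
  have hE : Subsingleton (Abelian.Ext (ModuleCat.of B (B ⧸ maximalIdeal B)) (ModuleCat.of B B) j) :=
    (GrothLib.Depth.le_idealDepth_iff_ext (M := B) (maximalIdeal B) D).1 hD j (by omega)
  exact (Abelian.Ext.homEquiv (X := ModuleCat.of B (B ⧸ maximalIdeal B)) (Y := ModuleCat.of B B) (n := j)).symm.subsingleton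

open Shriek in
/-- **The lowest dual of a local quotient.** -/
theorem le_depth_RA_bottom {B B' : Type u} [CommRing B] [CommRing B'] [IsLocalRing B] [IsLocalRing B']
    [IsNoetherianRing B] [IsNoetherianRing B'] [Algebra B B'] (hf : Function.Surjective (algebraMap B B'))
    (c D n : ℕ) (hc : (c : ℕ∞) ≤ LocCoh.idealDepth (Module.annihilator B B') B) (hD : (D : ℕ∞) ≤ LocCoh.depth B B)
    (hn2 : n ≤ 2) (hcn : c + n ≤ D) :
    (n : ℕ∞) ≤ LocCoh.depth B
      (Dual.HD B ((DRing.restrictD (algebraMap B B')).obj ((RA (algebraMap B B')).obj (Dual.inD B B))) c) := by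
  haveI : Module.Finite B B' := Module.Finite.of_surjective (Algebra.linearMap B B') hf
  let X := (RA (algebraMap B B')).obj (Dual.inD B B)
  let eH : ∀ i : ℤ, (ModuleCat.restrictScalars.{u} (algebraMap B B')).obj
      ((DerivedCategory.homologyFunctor (ModuleCat.{u} B') i).obj X) ≅
      (DerivedCategory.homologyFunctor (ModuleCat.{u} B) i).obj ((DRing.restrictD (algebraMap B B')).obj X) :=
    fun i => ((DerTrunc.homologyMapIso (ModuleCat.restrictScalars.{u} (algebraMap B B')) i).app X).symm
  haveI hfin : ∀ i, Module.Finite B' (Dual.HD B' X i) := by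
    haveI : (Dual.inD B B).IsGE 0 := inferInstance
    refine finite_HD_rightAdjoint (RA (algebraMap B B')) (radj (algebraMap B B')) (Dual.inD B B) 0 fun i => ?_
    by_cases hi : i = 0
    · subst hi
      haveI : Module.Finite B ↑((𝟭 (ModuleCat.{u} B)).obj (ModuleCat.of B B)) := inferInstanceAs (Module.Finite B B)
      exact Module.Finite.equiv
        ((DerivedCategory.singleFunctorCompHomologyFunctorIso (ModuleCat.{u} B) 0).app
          (ModuleCat.of B B)).toLinearEquiv.symm
    · have hz : Limits.IsZero ((DerivedCategory.homologyFunctor (ModuleCat.{u} B) i).obj (Dual.inD B B)) := by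
        rcases lt_or_gt_of_ne hi with h | h
        · exact DerivedCategory.isZero_of_isGE _ 0 i h
        · exact DerivedCategory.isZero_of_isLE _ 0 i h
      haveI := ModuleCat.subsingleton_of_isZero hz
      exact Module.Finite.of_finite
  have hv : ∀ i : ℤ, i < (c : ℤ) → Subsingleton (Dual.HD B' X i) := by
    intro i hi
    obtain ⟨e⟩ := nonempty_HD_restrictD_RA (P := B) (A := B') i
    haveI : Subsingleton (EH (Dual.inD B B) (Dual.inD B B') i) := by
      rcases lt_or_ge i 0 with h0 | h0
      · haveI : (Dual.inD B B).IsGE 0 := inferInstance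
        exact subsingleton_hom_of_isLE _ 0 (Dual.inD B B') 0 i (by omega)
      obtain ⟨l, rfl⟩ := Int.eq_ofNat_of_zero_le h0
      exact FibreDim.subsingleton_hom_of_le_idealDepth B B' c l hc (by omega)
    exact ((eH i).toLinearEquiv.toEquiv.trans e.toEquiv).subsingleton
  have hres : ∀ l : ℤ, l < (c : ℤ) + n → Subsingleton (Dual.inD B' (B' ⧸ maximalIdeal B') ⟶ X⟦l⟧) := by
    intro l hl
    refine subsingleton_hom_rightAdjoint (algebraMap B B') (radj (algebraMap B B')) (Dual.inD B B) _ l ?_
    haveI := subsingleton_residue_lt_depth D hD l (by omega)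
    have hmax : (maximalIdeal B').comap (algebraMap B B') = maximalIdeal B :=
      IsLocalRing.eq_maximalIdeal (Ideal.comap_isMaximal_of_surjective _ hf)
    let q : (B ⧸ maximalIdeal B) ≃ₗ[B]
        (ModuleCat.restrictScalars.{u} (algebraMap B B')).obj (ModuleCat.of B' (B' ⧸ maximalIdeal B')) :=
      LinearEquiv.ofBijective
        ({ toFun := fun x => Ideal.quotientMap (maximalIdeal B') (algebraMap B B') hmax.ge x
           map_add' := fun x y => map_add _ x y
           map_smul' := fun r x => by
             obtain ⟨x, rfl⟩ := Ideal.Quotient.mk_surjective x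
             exact map_mul (Ideal.quotientMap (maximalIdeal B') (algebraMap B B') hmax.ge)
               (Ideal.Quotient.mk _ r) (Ideal.Quotient.mk _ x) } :
          (B ⧸ maximalIdeal B) →ₗ[B]
            (ModuleCat.restrictScalars.{u} (algebraMap B B')).obj (ModuleCat.of B' (B' ⧸ maximalIdeal B')))
        ⟨Ideal.quotientMap_injective' (H := hmax.ge) hmax.le, Ideal.quotientMap_surjective (H := hmax.ge) hf⟩
    exact (((DerivedCategory.singleFunctor (ModuleCat.{u} B) 0).mapIso q.toModuleIso).homFromEquiv).symm.subsingleton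
  have h := le_depth_HD_bottom X (c : ℤ) hv n hn2 hres
  let M := (ModuleCat.restrictScalars.{u} (algebraMap B B')).obj ((DerivedCategory.homologyFunctor (ModuleCat.{u} B') (c : ℤ)).obj X)
  letI : Module B' M := inferInstanceAs (Module B' (Dual.HD B' X c))
  haveI : IsScalarTower B B' M := IsScalarTower.of_algebraMap_smul fun _ _ => rfl
  haveI : Module.Finite B' M := hfin c
  haveI : Module.Finite B M := Module.Finite.trans B' M
  have h2 : LocCoh.depth B M = LocCoh.depth B' M := GrothLib.Faltings.depth_eq_of_surjective hf M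
  haveI : Module.Finite B (Dual.HD B ((DRing.restrictD (algebraMap B B')).obj X) c) :=
    Module.Finite.equiv (eH c).toLinearEquiv
  refine le_of_le_of_eq ?_ (GrothLib.Depth.idealDepth_eq_of_equiv _ (eH c).toLinearEquiv)
  exact le_of_le_of_eq h h2.symm

end GrothLib.DualRing
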