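import Groth.Agent.Lib.DualCx22.LocalUnique
import Groth.Agent.Lib.LocalDual.FiniteLength
import Groth.Agent.Lib.BCCoh.LengthCrit

/-! # Linear self-equivalences of the category of modules of finite length -/

set_option autoImplicit false
set_option linter.style.haveILetI false
universe u

open CategoryTheory IsLocalRing

namespace GrothLib.FinLenEquiv

variable {A : Type u} [CommRing A]

/-- Evaluation at one. -/
noncomputable def evOne (I : Ideal A) (N : Type u) [AddCommGroup N] [Module A N] (h : ∀ a ∈ I, ∀ x : N, a • x = 0) :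
    ((A ⧸ I) →ₗ[A] N) ≃ₗ[A] N where
  toFun f := f (Submodule.Quotient.mk 1)
  map_add' _ _ := rfl
  map_smul' _ _ := rfl
  invFun x := Submodule.liftQ I (LinearMap.toSpanSingleton A N x) fun a ha => h a ha x
  left_inv f := Submodule.linearMap_qext _ (LinearMap.ext_ring (by
    show (1 : A) • f (Submodule.Quotient.mk 1) = f (Submodule.Quotient.mk 1)
    exact one_smul _ _))
  right_inv x := one_smul _ _

theorem evOne_symm_mk (I : Ideal A) (N : Type u) [AddCommGroup N] [Module A N] (h : ∀ a ∈ I, ∀ x : N, a • x = 0)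
    (x : N) (a : A) : (evOne I N h).symm x (Submodule.Quotient.mk a) = a • x := rfl

variable [IsLocalRing A]

/-- A finite module whose endomorphisms form the residue field is the residue field. -/
theorem nonempty_equiv_residue (X : Type u) [AddCommGroup X] [Module A X] [Module.Finite A X]
    (h : Nonempty ((X →ₗ[A] X) ≃ₗ[A] (A ⧸ maximalIdeal A))) : Nonempty (X ≃ₗ[A] (A ⧸ maximalIdeal A)) := by
  obtain ⟨e⟩ := h
  have hk : ∀ a ∈ maximalIdeal A, ∀ x : X, a • x = 0 := fun a ha x => by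
    have h1 : a • (LinearMap.id : X →ₗ[A] X) = 0 := e.injective (by
      rw [map_smul, map_zero]
      obtain ⟨y, hy⟩ := Ideal.Quotient.mk_surjective (e LinearMap.id)
      rw [← hy]
      exact Ideal.Quotient.eq_zero_iff_mem.2 (Ideal.mul_mem_right y _ ha))
    exact LinearMap.congr_fun h1 x
  haveI : Nontrivial X := not_subsingleton_iff_nontrivial.1 fun hs => by
    haveI : Subsingleton (A ⧸ maximalIdeal A) := e.symm.toEquiv.subsingleton
    exact not_subsingleton (A ⧸ maximalIdeal A) inferInstance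
  obtain ⟨φ, x, hx⟩ : ∃ φ : X →ₗ[A] (A ⧸ maximalIdeal A), ∃ x, φ x = 1 :=
    GrothLib.DualCx22.exists_hom_residue (A := A) X
  obtain ⟨a, ha⟩ := Ideal.Quotient.mk_surjective (e LinearMap.id)
  obtain ⟨v, rfl⟩ : IsUnit a := by
    by_contra hu
    have h2 : (LinearMap.id : X →ₗ[A] X) = 0 := e.injective (by
      rw [← ha, Ideal.Quotient.eq_zero_iff_mem.2 ((mem_maximalIdeal a).2 hu), map_zero])
    obtain ⟨y, hy⟩ := exists_ne (0 : X)
    exact hy (LinearMap.congr_fun h2 y)
  let T : X →ₗ[A] X := (evOne (maximalIdeal A) X hk).symm x ∘ₗ φ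
  obtain ⟨t, ht⟩ := Ideal.Quotient.mk_surjective (e T)
  obtain ⟨b, hb⟩ : ∃ b : A, b * (v : A) = t := ⟨t * ↑v⁻¹, by rw [mul_assoc, Units.inv_mul, mul_one]⟩
  have hT : T = b • LinearMap.id := e.injective (by
    rw [map_smul, ← ha, Algebra.smul_def, Ideal.Quotient.algebraMap_eq, ← map_mul, hb, ht])
  have hT' : ∀ y, T y = b • y := fun y => LinearMap.congr_fun hT y
  have h1 : T x = x := by
    show (evOne (maximalIdeal A) X hk).symm x (φ x) = x
    rw [hx]
    exact one_smul _ _
  have hb1 : b ∉ maximalIdeal A := fun hbm => by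
    have hx0 : x = 0 := h1.symm.trans ((hT' x).trans (hk b hbm x))
    have h3 := (congrArg φ hx0).trans (map_zero φ)
    rw [hx] at h3
    haveI : Nontrivial (A ⧸ maximalIdeal A) := Ideal.Quotient.nontrivial_iff.2 (maximalIdeal.isMaximal A).ne_top
    exact one_ne_zero h3
  obtain ⟨w, rfl⟩ : IsUnit b := by
    by_contra hu
    exact hb1 ((mem_maximalIdeal b).2 hu)
  refine ⟨LinearEquiv.ofBijective φ ⟨?_, fun y => ?_⟩⟩
  · rw [injective_iff_map_eq_zero]
    intro y hy
    have h3 : T y = 0 := by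
      show (evOne (maximalIdeal A) X hk).symm x (φ y) = 0
      rw [hy, map_zero]
    rw [hT'] at h3
    exact (w.isUnit.smul_eq_zero).1 h3
  · obtain ⟨c, rfl⟩ := Ideal.Quotient.mk_surjective y
    refine ⟨c • x, ?_⟩
    rw [map_smul, hx, Algebra.smul_def, Ideal.Quotient.algebraMap_eq]
    exact mul_one _

variable [IsNoetherianRing A] (F : Dual.FinLen A ≌ Dual.FinLen A) [F.functor.Additive] [F.functor.Linear A]

/-- Morphisms in the category of modules of finite length. -/
noncomputable def homLin (X Y : Dual.FinLen A) : (X ⟶ Y) ≃ₗ[A] (X.obj →ₗ[A] Y.obj) where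
  toFun f := f.hom.hom
  map_add' _ _ := rfl
  map_smul' _ _ := rfl
  invFun g := ObjectProperty.homMk (ModuleCat.ofHom g)
  left_inv _ := rfl
  right_inv _ := rfl

/-- The action of the functor on linear maps. -/
noncomputable def Φ (X Y : Dual.FinLen A) :
    (X.obj →ₗ[A] Y.obj) ≃ₗ[A] ((F.functor.obj X).obj →ₗ[A] (F.functor.obj Y).obj) :=
  (homLin X Y).symm ≪≫ₗ LinearEquiv.ofBijective (F.functor.mapLinearMap A)
    ⟨F.functor.map_injective, F.functor.map_surjective⟩ ≪≫ₗ homLin _ _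

theorem Φ_id (X : Dual.FinLen A) : Φ F X X LinearMap.id = LinearMap.id :=
  (congrArg (homLin _ _) (F.functor.map_id X))

theorem Φ_comp {X Y Z : Dual.FinLen A} (f : X.obj →ₗ[A] Y.obj) (g : Y.obj →ₗ[A] Z.obj) :
    Φ F X Z (g ∘ₗ f) = Φ F Y Z g ∘ₗ Φ F X Y f :=
  (congrArg (homLin _ _) (F.functor.map_comp ((homLin X Y).symm f) ((homLin Y Z).symm g)))

theorem killed_iff (X : Dual.FinLen A) (a : A) :
    (∀ y : (F.functor.obj X).obj, a • y = 0) ↔ ∀ x : X.obj, a • x = 0 := by
  have h : Φ F X X (a • LinearMap.id) = a • LinearMap.id := by rw [map_smul, Φ_id]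
  constructor <;> intro hk
  · intro x
    have h1 : a • (LinearMap.id : X.obj →ₗ[A] X.obj) = 0 := (Φ F X X).injective (by
      rw [h, map_zero]
      exact LinearMap.ext hk)
    exact LinearMap.congr_fun h1 x
  · intro y
    have h1 : a • (LinearMap.id : X.obj →ₗ[A] X.obj) = 0 := LinearMap.ext hk
    rw [h1, map_zero] at h
    exact (LinearMap.congr_fun h y).symm

instance finite_obj (X : Dual.FinLen A) : Module.Finite A X.obj := by
  haveI := (isFiniteLength_iff_isNoetherian_isArtinian.1 X.property).1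
  infer_instance

variable (A) in
/-- The objects `A/m^(n+1)`. -/
noncomputable def Q (n : ℕ) : Dual.FinLen A :=
  ⟨ModuleCat.of A (A ⧸ maximalIdeal A ^ (n + 1)), GrothLib.BCCoh.isFiniteLength_quotient_pow n⟩

variable (A) in
/-- The residue field. -/
noncomputable def R0 : Dual.FinLen A :=
  ⟨ModuleCat.of A (A ⧸ maximalIdeal A), by
    have h := GrothLib.BCCoh.isFiniteLength_quotient_pow (A := A) 0
    rw [zero_add, pow_one] at h
    exact h⟩

variable (A) in
/-- The transition maps. -/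
noncomputable def π (n : ℕ) : (Q A (n + 1)).obj →ₗ[A] (Q A n).obj :=
  Submodule.factor (Ideal.pow_le_pow_right (Nat.le_succ (n + 1)))

theorem π_surjective (n : ℕ) : Function.Surjective (π A n) :=
  Submodule.factor_surjective (Ideal.pow_le_pow_right (Nat.le_succ (n + 1)))

theorem exists_residue_preimage :
    ∃ X : Dual.FinLen A, Nonempty (X.obj ≃ₗ[A] (A ⧸ maximalIdeal A)) ∧
      Nonempty ((F.functor.obj X).obj ≃ₗ[A] (A ⧸ maximalIdeal A)) := by
  let X := F.inverse.obj (R0 A)
  let e : (F.functor.obj X).obj ≃ₗ[A] (A ⧸ maximalIdeal A) :=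
    ((ObjectProperty.ι _).mapIso (F.counitIso.app (R0 A))).toLinearEquiv
  exact ⟨X, nonempty_equiv_residue X.obj ⟨Φ F X X ≪≫ₗ e.conj ≪≫ₗ
    evOne (maximalIdeal A) _ (fun a ha y => by
      obtain ⟨z, rfl⟩ := Ideal.Quotient.mk_surjective y
      exact Ideal.Quotient.eq_zero_iff_mem.2 (Ideal.mul_mem_right z _ ha))⟩, ⟨e⟩⟩

theorem residue_killed {X : Type u} [AddCommGroup X] [Module A X] (e : X ≃ₗ[A] (A ⧸ maximalIdeal A))
    (n : ℕ) : ∀ a ∈ maximalIdeal A ^ (n + 1), ∀ x : X, a • x = 0 := fun a ha x => by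
  apply e.injective
  rw [map_smul, map_zero]
  obtain ⟨y, hy⟩ := Ideal.Quotient.mk_surjective (e x)
  rw [← hy]
  exact Ideal.Quotient.eq_zero_iff_mem.2 (Ideal.mul_mem_right y _ (Ideal.pow_le_self (Nat.succ_ne_zero n) ha))

theorem exists_generator (n : ℕ) : ∃ g : (F.functor.obj (Q A n)).obj, Submodule.span A {g} = ⊤ := by
  obtain ⟨X, ⟨eX⟩, ⟨eFX⟩⟩ := exists_residue_preimage F
  haveI : Nontrivial (F.functor.obj (Q A n)).obj := not_subsingleton_iff_nontrivial.1 fun hs => by
    have h1 := (killed_iff F (Q A n) 1).1 (fun y => Subsingleton.elim _ _) (Submodule.Quotient.mk 1)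
    rw [one_smul] at h1
    exact (maximalIdeal.isMaximal A).ne_top ((Ideal.eq_top_iff_one _).2
      (Ideal.pow_le_self (Nat.succ_ne_zero n) ((Submodule.Quotient.mk_eq_zero _).1 h1)))
  exact GrothLib.DualCx22.exists_generator_of_hom_residue _
    ⟨(LinearEquiv.congrRight eFX).symm ≪≫ₗ (Φ F (Q A n) X).symm ≪≫ₗ evOne _ X.obj (residue_killed eX n) ≪≫ₗ eX⟩

theorem surjective_Φπ (n : ℕ) : Function.Surjective (Φ F (Q A (n + 1)) (Q A n) (π A n)) := by
  rw [← LinearMap.range_eq_top]
  by_contra hne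
  obtain ⟨X, -, ⟨eFX⟩⟩ := exists_residue_preimage F
  haveI := Submodule.Quotient.nontrivial_iff.2 hne
  obtain ⟨ψ, y, hy⟩ : ∃ ψ : ((F.functor.obj (Q A n)).obj ⧸ LinearMap.range (Φ F (Q A (n + 1)) (Q A n) (π A n)))
      →ₗ[A] (A ⧸ maximalIdeal A), ∃ y, ψ y = 1 := GrothLib.DualCx22.exists_hom_residue (A := A) _
  haveI : Nontrivial (A ⧸ maximalIdeal A) := Ideal.Quotient.nontrivial_iff.2 (maximalIdeal.isMaximal A).ne_top
  let ψ' : (F.functor.obj (Q A n)).obj →ₗ[A] (F.functor.obj X).obj :=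
    eFX.symm.toLinearMap ∘ₗ ψ ∘ₗ Submodule.mkQ _
  obtain ⟨χ, hχ⟩ := (Φ F (Q A n) X).surjective ψ'
  have h0 : χ ∘ₗ π A n = 0 := (Φ F (Q A (n + 1)) X).injective (by
    rw [Φ_comp, hχ, map_zero]
    refine LinearMap.ext fun z => ?_
    show eFX.symm (ψ (Submodule.Quotient.mk (Φ F (Q A (n + 1)) (Q A n) (π A n) z))) = 0
    rw [(Submodule.Quotient.mk_eq_zero _).2 (LinearMap.mem_range_self _ z), map_zero, map_zero])
  have h1 : χ = 0 := LinearMap.ext fun z => by
    obtain ⟨z, rfl⟩ := π_surjective n z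
    exact LinearMap.congr_fun h0 z
  obtain ⟨y, rfl⟩ := Submodule.mkQ_surjective _ y
  rw [h1, map_zero] at hχ
  have h2 : eFX.symm (ψ (Submodule.mkQ _ y)) = 0 := (LinearMap.congr_fun hχ y).symm
  rw [LinearEquiv.map_eq_zero_iff, hy] at h2
  exact one_ne_zero h2

/-- Morphisms out of `Q A n`. -/
noncomputable def evQ (n : ℕ) (M : Dual.FinLen A) (h : ∀ a ∈ maximalIdeal A ^ (n + 1), ∀ x : M.obj, a • x = 0) :
    ((Q A n).obj →ₗ[A] M.obj) ≃ₗ[A] M.obj :=
  evOne _ M.obj h

omit [IsLocalRing A] [IsNoetherianRing A] in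
theorem smul_mk_one (I : Ideal A) {a : A} (h : a • (Submodule.Quotient.mk 1 : A ⧸ I) = 0) : a ∈ I := by
  rw [← Submodule.Quotient.mk_smul, Submodule.Quotient.mk_eq_zero, smul_eq_mul, mul_one] at h
  exact h

theorem generator_lift (n : ℕ) {g : (F.functor.obj (Q A n)).obj} (hg : Submodule.span A {g} = ⊤)
    {y : (F.functor.obj (Q A (n + 1))).obj} (hy : Φ F (Q A (n + 1)) (Q A n) (π A n) y = g) :
    Submodule.span A {y} = ⊤ := by
  obtain ⟨z, hz⟩ := exists_generator F (n + 1)
  obtain ⟨a, rfl⟩ := Submodule.mem_span_singleton.1 (hz.ge (Submodule.mem_top (x := y)))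
  obtain ⟨c, hc⟩ := Submodule.mem_span_singleton.1
    (hg.ge (Submodule.mem_top (x := Φ F (Q A (n + 1)) (Q A n) (π A n) z)))
  rw [map_smul, ← hc, smul_smul] at hy
  have h0 : ∀ v : (F.functor.obj (Q A n)).obj, (1 - a * c) • v = 0 := fun v => by
    obtain ⟨b, rfl⟩ := Submodule.mem_span_singleton.1 (hg.ge (Submodule.mem_top (x := v)))
    rw [smul_comm, sub_smul, one_smul, hy, sub_self, smul_zero]
  have h1 := smul_mk_one _ ((killed_iff F (Q A n) _).1 h0 (Submodule.Quotient.mk 1))
  obtain ⟨w, rfl⟩ : IsUnit a := by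
    by_contra hu
    refine (maximalIdeal.isMaximal A).ne_top ((Ideal.eq_top_iff_one _).2 ?_)
    have h2 := add_mem (Ideal.pow_le_self (Nat.succ_ne_zero n) h1)
      (Ideal.mul_mem_right c _ ((mem_maximalIdeal a).2 hu))
    rwa [sub_add_cancel] at h2
  exact (Submodule.span_singleton_smul_eq w.isUnit z).trans hz

/-- A compatible system of generators. -/
noncomputable def gen : ∀ n : ℕ, {g : (F.functor.obj (Q A n)).obj // Submodule.span A {g} = ⊤}
  | 0 => ⟨(exists_generator F 0).choose, (exists_generator F 0).choose_spec⟩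
  | n + 1 => ⟨(surjective_Φπ F n (gen n).1).choose,
      generator_lift F n (gen n).2 (surjective_Φπ F n (gen n).1).choose_spec⟩

theorem Φπ_gen (n : ℕ) : Φ F (Q A (n + 1)) (Q A n) (π A n) (gen F (n + 1)).1 = (gen F n).1 :=
  (surjective_Φπ F n (gen F n).1).choose_spec

/-- The comparison map at level `n`. -/
noncomputable def compMap (n : ℕ) (M : Dual.FinLen A) (h : ∀ a ∈ maximalIdeal A ^ (n + 1), ∀ x : M.obj, a • x = 0) :
    M.obj →ₗ[A] (F.functor.obj M).obj where
  toFun x := Φ F (Q A n) M ((evQ n M h).symm x) (gen F n).1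
  map_add' x y := by rw [map_add, map_add, LinearMap.add_apply]
  map_smul' a x := by rw [map_smul, map_smul]; rfl

theorem compMap_bijective (n : ℕ) (M : Dual.FinLen A)
    (h : ∀ a ∈ maximalIdeal A ^ (n + 1), ∀ x : M.obj, a • x = 0) : Function.Bijective (compMap F n M h) := by
  let g := (gen F n).1
  have hg : Submodule.span A {g} = ⊤ := (gen F n).2
  constructor
  · intro x y hxy
    refine (evQ n M h).symm.injective ((Φ F (Q A n) M).injective (LinearMap.ext fun v => ?_))
    obtain ⟨b, rfl⟩ := Submodule.mem_span_singleton.1 (hg.ge (Submodule.mem_top (x := v)))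
    rw [map_smul, map_smul]
    exact congrArg (b • ·) hxy
  · intro y
    let t := LinearMap.toSpanSingleton A (F.functor.obj (Q A n)).obj g
    have hts : Function.Surjective t := fun v =>
      Submodule.mem_span_singleton.1 (hg.ge (Submodule.mem_top (x := v)))
    have hker : LinearMap.ker t ≤ LinearMap.ker (LinearMap.toSpanSingleton A (F.functor.obj M).obj y) := by
      intro a ha
      rw [LinearMap.mem_ker, LinearMap.toSpanSingleton_apply] at ha ⊢
      have hkill : ∀ v : (F.functor.obj (Q A n)).obj, a • v = 0 := fun v => by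
        obtain ⟨b, rfl⟩ := Submodule.mem_span_singleton.1 (hg.ge (Submodule.mem_top (x := v)))
        rw [smul_comm, ha, smul_zero]
      have h1 := smul_mk_one _ ((killed_iff F (Q A n) _).1 hkill (Submodule.Quotient.mk 1))
      exact (killed_iff F M a).2 (h a h1) y
    let ψ : (F.functor.obj (Q A n)).obj →ₗ[A] (F.functor.obj M).obj :=
      Submodule.liftQ _ _ hker ∘ₗ (t.quotKerEquivOfSurjective hts).symm.toLinearMap
    obtain ⟨φ, hφ⟩ := (Φ F (Q A n) M).surjective ψ
    refine ⟨evQ n M h φ, ?_⟩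
    show Φ F (Q A n) M ((evQ n M h).symm (evQ n M h φ)) g = y
    rw [LinearEquiv.symm_apply_apply, hφ]
    show Submodule.liftQ _ _ hker ((t.quotKerEquivOfSurjective hts).symm g) = y
    have h2 : (t.quotKerEquivOfSurjective hts).symm g = Submodule.Quotient.mk 1 := by
      rw [LinearEquiv.symm_apply_eq]
      exact (one_smul A g).symm
    rw [h2]
    exact one_smul _ _

theorem compMap_succ (n : ℕ) (M : Dual.FinLen A) (h : ∀ a ∈ maximalIdeal A ^ (n + 1), ∀ x : M.obj, a • x = 0)
    (h' : ∀ a ∈ maximalIdeal A ^ (n + 1 + 1), ∀ x : M.obj, a • x = 0) :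
    compMap F (n + 1) M h' = compMap F n M h := by
  refine LinearMap.ext fun x => ?_
  have h1 : (evQ (n + 1) M h').symm x = (evQ n M h).symm x ∘ₗ π A n :=
    Submodule.linearMap_qext _ (LinearMap.ext fun a => rfl)
  show Φ F (Q A (n + 1)) M ((evQ (n + 1) M h').symm x) (gen F (n + 1)).1 = _
  rw [h1, Φ_comp, LinearMap.comp_apply, Φπ_gen]
  rfl

theorem compMap_le {m n : ℕ} (hmn : m ≤ n) (M : Dual.FinLen A)
    (h : ∀ a ∈ maximalIdeal A ^ (m + 1), ∀ x : M.obj, a • x = 0)
    (h' : ∀ a ∈ maximalIdeal A ^ (n + 1), ∀ x : M.obj, a • x = 0) : compMap F n M h' = compMap F m M h := by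
  induction n, hmn using Nat.le_induction with
  | base => rfl
  | succ k hk ih =>
    have hk' : ∀ a ∈ maximalIdeal A ^ (k + 1), ∀ x : M.obj, a • x = 0 := fun a ha =>
      h a (Ideal.pow_le_pow_right (by omega) ha)
    rw [compMap_succ F k M hk' h', ih hk']

theorem exists_level (M : Dual.FinLen A) :
    ∃ n, ∀ a ∈ maximalIdeal A ^ (n + 1), ∀ x : M.obj, a • x = 0 := by
  obtain ⟨k, hk⟩ := GrothLib.LocalDual.exists_pow_kills_of_isFiniteLength M.property
  exact ⟨k, fun a ha => hk a (Ideal.pow_le_pow_right (Nat.le_succ k) ha)⟩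

theorem compMap_natural (n : ℕ) {M M' : Dual.FinLen A}
    (h : ∀ a ∈ maximalIdeal A ^ (n + 1), ∀ x : M.obj, a • x = 0)
    (h' : ∀ a ∈ maximalIdeal A ^ (n + 1), ∀ x : M'.obj, a • x = 0) (f : M.obj →ₗ[A] M'.obj) (x : M.obj) :
    compMap F n M' h' (f x) = Φ F M M' f (compMap F n M h x) := by
  have h1 : (evQ n M' h').symm (f x) = f ∘ₗ (evQ n M h).symm x :=
    Submodule.linearMap_qext _ (LinearMap.ext fun a => (map_smul f a x).symm)
  show Φ F (Q A n) M' ((evQ n M' h').symm (f x)) (gen F n).1 = _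
  rw [h1, Φ_comp]
  rfl

/-- A linear self-equivalence is isomorphic to the identity. -/
theorem nonempty_iso_id : Nonempty (F.functor ≅ 𝟭 (Dual.FinLen A)) := by
  choose N hN using exists_level (A := A)
  let η : ∀ M : Dual.FinLen A, M.obj ≃ₗ[A] (F.functor.obj M).obj := fun M =>
    LinearEquiv.ofBijective (compMap F (N M) M (hN M)) (compMap_bijective F (N M) M (hN M))
  refine ⟨(NatIso.ofComponents (fun M => ObjectProperty.isoMk _ (η M).toModuleIso) fun {M M'} f => ?_).symm⟩
  refine ObjectProperty.hom_ext _ (ModuleCat.hom_ext (LinearMap.ext fun x => ?_))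
  show compMap F (N M') M' (hN M') (f.hom.hom x) = Φ F M M' f.hom.hom (compMap F (N M) M (hN M) x)
  have hM : ∀ a ∈ maximalIdeal A ^ (max (N M) (N M') + 1), ∀ x : M.obj, a • x = 0 := fun a ha =>
    hN M a (Ideal.pow_le_pow_right (by omega) ha)
  have hM' : ∀ a ∈ maximalIdeal A ^ (max (N M) (N M') + 1), ∀ x : M'.obj, a • x = 0 := fun a ha =>
    hN M' a (Ideal.pow_le_pow_right (by omega) ha)
  rw [← compMap_le F (le_max_left (N M) (N M')) M (hN M) hM,
    ← compMap_le F (le_max_right (N M) (N M')) M' (hN M') hM']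
  exact compMap_natural F _ hM hM' f.hom.hom x

end GrothLib.FinLenEquiv
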