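import Groth.Agent.Lib.DualRing.RegStep
import Groth.Agent.Lib.DualRing.Dimension
import Groth.Agent.Lib.DualCx22.Transfer
import Groth.Agent.Lib.Gor.Liaison
import Groth.Agent.Lib.GorFlat.Main

/-! # Dualizing complexes along flat local maps with Gorenstein closed fibre -/

set_option autoImplicit false
set_option linter.style.haveILetI false
universe u

open CategoryTheory CategoryTheory.Limits IsLocalRing GrothLib.DualCx22 TensorProduct

attribute [local instance] HasDerivedCategory.standard

namespace GrothLib.DualRing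

theorem withBot_add_one_cancel {x : WithBot ℕ∞} {n : ℕ} (h : x + 1 = ((n + 1 : ℕ) : WithBot ℕ∞)) : x = n := by
  cases x with
  | bot =>
    rw [WithBot.bot_add] at h
    exact absurd h.symm (WithBot.natCast_ne_bot _)
  | coe x =>
    cases x with
    | top =>
      rw [← WithBot.coe_one, ← WithBot.coe_add, top_add] at h
      exact absurd (WithBot.coe_inj.1 h).symm (ENat.natCast_ne_top _)
    | coe m =>
      have h' : ((m + 1 : ℕ) : WithBot ℕ∞) = ((n + 1 : ℕ) : WithBot ℕ∞) := by exact_mod_cast h
      have : m = n := by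
        have := Nat.cast_inj.1 h'
        omega
      subst this
      rfl

/-- An artinian Gorenstein local ring is self-injective. -/
theorem injective_of_dim_zero (R : Type u) [CommRing R] [LocCoh.IsGorensteinLocalRing R] (hd : ringKrullDim R = 0) :
    Module.Injective R R := by
  obtain ⟨d, hd', -, habove, -⟩ := Gor.exists_dim R
  obtain rfl : d = 0 := by rw [hd] at hd'; exact_mod_cast hd'.symm
  haveI hid : HasInjectiveDimensionLT (ModuleCat.of R R) 1 :=
    Gor.hasInjectiveDimensionLT_of_residue (ModuleCat.of R R) fun i hi => habove i (by omega)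
  haveI : Injective (ModuleCat.of R R) := injective_iff_hasInjectiveDimensionLT_one.2 hid
  exact Module.injective_module_of_injective_object R R

variable {B : Type u} [CommRing B] [IsLocalRing B] [IsNoetherianRing B] (L : Dual.D B) (a : ℤ)
  (ha : ∀ (M : Type u) [AddCommGroup M] [Module B M] (i : ℤ), i < a → Subsingleton (EH L (Dual.inD B M) i))

include ha in
/-- From a Gorenstein quotient to the residue field. -/
theorem subsingleton_residue_of_gorenstein : ∀ (n : ℕ) (J : Ideal B) (c : ℤ), J ≤ maximalIdeal B →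
    LocCoh.IsGorensteinLocalRing (B ⧸ J) → ringKrullDim (B ⧸ J) = n →
    (∀ i, i ≠ c → Subsingleton (EH L (Dual.inD B (B ⧸ J)) i)) →
    Nonempty (EH L (Dual.inD B (B ⧸ J)) c ≃ₗ[B] (B ⧸ J)) →
    ∀ i, i ≠ c + n → Subsingleton (EH L (Dual.inD B (B ⧸ maximalIdeal B)) i) := by
  intro n
  induction n with
  | zero =>
    intro J c hJ hG hd hT ⟨e⟩ i hi
    exact subsingleton_of_ne L J a c ha hT e (injective_of_dim_zero (B ⧸ J) (by exact_mod_cast hd)) _
      (fun b hb y => by
        obtain ⟨y, rfl⟩ := Ideal.Quotient.mk_surjective y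
        exact Ideal.Quotient.eq_zero_iff_mem.2 (Ideal.mul_mem_right y _ (hJ hb))) i (by simpa using hi)
  | succ n ih =>
    intro J c hJ hG hd hT he i hi
    haveI := hG
    obtain ⟨e⟩ := he
    haveI := Gor.isCohenMacaulayLocalRing (A := B ⧸ J)
    have hdep : LocCoh.depth (B ⧸ J) (B ⧸ J) ≠ 0 := fun h0 => by
      have h1 := LocCoh.IsCohenMacaulayLocalRing.supportDim_eq_depth (R := B ⧸ J)
      rw [Module.supportDim_self_eq_ringKrullDim, hd, h0] at h1
      exact absurd (WithBot.coe_inj.1 h1) (by simp)
    obtain ⟨y, hy, hyreg⟩ := (GrothLib.Depth.one_le_idealDepth_iff (M := B ⧸ J)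
      (maximalIdeal.isMaximal (B ⧸ J)).ne_top).1 (Order.one_le_iff_ne_zero.2 hdep)
    obtain ⟨x, rfl⟩ := Ideal.Quotient.mk_surjective y
    have hx : x ∈ maximalIdeal B := by
      rw [mem_maximalIdeal, mem_nonunits_iff]
      exact fun hu => hy (hu.map _)
    have hreg : IsSMulRegular (B ⧸ J) x := fun v w h => hyreg (by
      obtain ⟨v, rfl⟩ := Ideal.Quotient.mk_surjective v
      obtain ⟨w, rfl⟩ := Ideal.Quotient.mk_surjective w
      exact h)
    obtain ⟨hT', he'⟩ := regular_step L J x hreg c hT e
    have hmap : (Ideal.span {x}).map (Ideal.Quotient.mk J) = Ideal.span {Ideal.Quotient.mk J x} := by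
      rw [Ideal.map_span, Set.image_singleton]
    let E : (B ⧸ J) ⧸ Ideal.span {Ideal.Quotient.mk J x} ≃+* B ⧸ (J ⊔ Ideal.span {x}) :=
      (Ideal.quotEquivOfEq hmap.symm).trans (DoubleQuot.quotQuotEquivQuotSup J (Ideal.span {x}))
    have hG' : LocCoh.IsGorensteinLocalRing (B ⧸ (J ⊔ Ideal.span {x})) :=
      (GorFlat.gorenstein_congr E).1 ((GorFlat.gorenstein_quot_iff hy hyreg).2 inferInstance)
    have hd' : ringKrullDim (B ⧸ (J ⊔ Ideal.span {x})) = n := by
      rw [← ringKrullDim_eq_of_ringEquiv E]
      have h1 := ringKrullDim_quotient_span_singleton_succ_eq_ringKrullDim hyreg hy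
      rw [hd] at h1
      exact (GrothLib.DualRing.withBot_add_one_cancel h1)
    exact ih _ (c + 1) (sup_le hJ ((Ideal.span_singleton_le_iff_mem _).2 hx)) hG' hd' hT' he' i (by
      intro h
      exact hi (by rw [h]; push_cast; ring))

end GrothLib.DualRing
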