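import Groth.Agent.Lib.DualRing.SelfInj

/-! # Cutting down by a regular element -/

set_option autoImplicit false
set_option linter.style.haveILetI false
universe u

open CategoryTheory CategoryTheory.Limits Pretriangulated

attribute [local instance] HasDerivedCategory.standard

namespace GrothLib.DualRing

variable {B : Type u} [CommRing B] (L : Dual.D B) (J : Ideal B)

theorem regular_step (x : B) (hx : IsSMulRegular (B ⧸ J) x) (c : ℤ)
    (hT : ∀ i, i ≠ c → Subsingleton (EH L (Dual.inD B (B ⧸ J)) i))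
    (e : EH L (Dual.inD B (B ⧸ J)) c ≃ₗ[B] (B ⧸ J)) :
    (∀ i, i ≠ c + 1 → Subsingleton (EH L (Dual.inD B (B ⧸ (J ⊔ Ideal.span {x}))) i)) ∧
      Nonempty (EH L (Dual.inD B (B ⧸ (J ⊔ Ideal.span {x}))) (c + 1) ≃ₗ[B] (B ⧸ (J ⊔ Ideal.span {x}))) := by
  let J' := J ⊔ Ideal.span {x}
  let f : (B ⧸ J) →ₗ[B] (B ⧸ J) := x • LinearMap.id
  let g : (B ⧸ J) →ₗ[B] (B ⧸ J') := Submodule.factor le_sup_left
  have hg : Function.Surjective g := Submodule.factor_surjective le_sup_left
  have hfg : Function.Exact f g := by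
    intro y
    obtain ⟨y, rfl⟩ := Submodule.Quotient.mk_surjective _ y
    constructor
    · intro hy
      obtain ⟨j, hj, s, hs, hjs⟩ := Submodule.mem_sup.1 ((Submodule.Quotient.mk_eq_zero J').1 hy)
      obtain ⟨t, rfl⟩ := Ideal.mem_span_singleton'.1 hs
      have hjs' : j + t * x = y := hjs
      refine ⟨Submodule.Quotient.mk t, ?_⟩
      show x • (Submodule.Quotient.mk t : B ⧸ J) = Submodule.Quotient.mk y
      rw [← Submodule.Quotient.mk_smul, Submodule.Quotient.eq, ← hjs', smul_eq_mul,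
        show x * t - (j + t * x) = -j by ring]
      exact J.neg_mem hj
    · rintro ⟨z, hz⟩
      obtain ⟨z, rfl⟩ := Submodule.Quotient.mk_surjective _ z
      rw [← hz]
      refine (Submodule.Quotient.mk_eq_zero J').2 ?_
      exact Ideal.mem_sup_right (Ideal.mem_span_singleton'.2 ⟨z, mul_comm z x⟩)
  obtain ⟨δ, hTr⟩ := exists_δ (f := f) hx hg hfg
  have hsf : sM f = x • 𝟙 (Dual.inD B (B ⧸ J)) := by
    rw [sM_smul]
    exact congrArg (x • ·) (CategoryTheory.Functor.map_id _ _)
  have hx' : Function.Injective (fun v : EH L (Dual.inD B (B ⧸ J)) c => x • v) := fun v w h => by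
    apply e.injective
    refine hx (?_ : x • e v = x • e w)
    rw [← map_smul, ← map_smul]
    exact congrArg e h
  have h1 : sM f ≫ sM g = 0 := comp_distTriang_mor_zero₁₂ _ hTr
  have hzero : ∀ i, i ≠ c + 1 → ∀ φ : EH L (Dual.inD B (B ⧸ J')) i, φ = 0 := by
    intro i hi φ
    have hv : sM g ≫ φ = 0 := by
      by_cases hic : i = c
      · subst hic
        apply hx'
        show x • (sM g ≫ φ) = x • (0 : EH L (Dual.inD B (B ⧸ J)) i)
        rw [smul_zero, show x • (sM g ≫ φ) = sM f ≫ sM g ≫ φ by rw [hsf, Linear.smul_comp, Category.id_comp],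
          ← Category.assoc, h1, zero_comp]
      · exact (hT i hic).elim _ _
    obtain ⟨β, hβ⟩ := Triangle.yoneda_exact₃ _ hTr φ hv
    haveI := hT (i - 1) (by omega)
    haveI : Subsingleton (EH L ((Dual.inD B (B ⧸ J))⟦(1 : ℤ)⟧) i) :=
      (shiftLeft L _ 1 i (i - 1) (by omega)).toEquiv.subsingleton
    rw [hβ, Subsingleton.elim (α := EH L ((Dual.inD B (B ⧸ J))⟦(1 : ℤ)⟧) i) β 0]
    exact comp_zero
  refine ⟨fun i hi => subsingleton_of_forall_eq 0 (hzero i hi), ?_⟩
  let S := shiftLeft L (Dual.inD B (B ⧸ J)) 1 (c + 1) c (by omega)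
  let Δ : EH L (Dual.inD B (B ⧸ J)) c →ₗ[B] EH L (Dual.inD B (B ⧸ J')) (c + 1) :=
    (Linear.leftComp B (L⟦c + 1⟧) δ) ∘ₗ S.symm.toLinearMap
  have hsurj : Function.Surjective Δ := fun φ => by
    obtain ⟨β, hβ⟩ := Triangle.yoneda_exact₃ _ hTr φ ((hT (c + 1) (by omega)).elim _ _)
    exact ⟨S β, (congrArg (δ ≫ ·) (S.symm_apply_apply β)).trans hβ.symm⟩
  have hker : LinearMap.ker (g ∘ₗ e.toLinearMap) = LinearMap.ker Δ := by
    ext v
    constructor
    · intro hv
      obtain ⟨z, hz⟩ := (hfg (e v)).1 hv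
      have hvz : v = sM f ≫ e.symm z := by
        rw [hsf, Linear.smul_comp, Category.id_comp, ← map_smul]
        exact e.injective (hz.symm.trans (e.apply_symm_apply _).symm)
      show δ ≫ S.symm v = 0
      rw [hvz, shiftLeft_symm_comp]
      exact (Category.assoc _ _ _).symm.trans
        ((congrArg (· ≫ _) (comp_distTriang_mor_zero₃₁ _ hTr)).trans zero_comp)
    · intro hv
      obtain ⟨γ, hγ⟩ := Triangle.yoneda_exact₃ _ (rot_of_distTriang _ hTr) (S.symm v) hv
      have hγ' : S.symm v = x • (-γ) := by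
        rw [hγ]
        show (-(sM f)⟦(1 : ℤ)⟧') ≫ γ = x • (-γ)
        rw [hsf, Functor.map_smul, CategoryTheory.Functor.map_id, Preadditive.neg_comp, Linear.smul_comp, smul_neg]
        exact congrArg (fun t => -(x • t)) (Category.id_comp γ)
      show g (e v) = 0
      refine (hfg _).2 ⟨e (S (-γ)), ?_⟩
      show x • e (S (-γ)) = e v
      rw [← map_smul, ← map_smul]
      exact congrArg e ((congrArg S hγ').symm.trans (S.apply_symm_apply v))
  exact ⟨(Δ.quotKerEquivOfSurjective hsurj).symm ≪≫ₗ Submodule.quotEquivOfEq _ _ hker.symm ≪≫ₗ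
    (g ∘ₗ e.toLinearMap).quotKerEquivOfSurjective (hg.comp e.surjective)⟩

end GrothLib.DualRing
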