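import Groth.Agent.Lib.DualRing.RelBridge
import Groth.Agent.Lib.DualRing.RelTop
import Groth.Agent.Lib.DualRing.ShriekRelProps
import Groth.Agent.Lib.DualRing.RegStep
import Groth.Agent.Lib.DualRing.InvertibleLocus
import Groth.Agent.Lib.GorFlat.Rings
import Groth.Agent.Lib.LCI6.Perfect
import Groth.Agent.Lib.LCI6.LCI
import Groth.Agent.Lib.DualRing.Single

/-! # The relative dualizing complex of a complete intersection is invertible -/

set_option autoImplicit false
set_option linter.style.haveILetI false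
set_option maxHeartbeats 800000
universe u

open CategoryTheory CategoryTheory.Limits TensorProduct GrothLib.DualCx22 RingTheory.Sequence

open scoped Pointwise

attribute [local instance] HasDerivedCategory.standard

namespace GrothLib.DualRing.LCIInv

variable {S : Type u} [CommRing S]

/-- The duals into the ring of a quotient by a regular sequence live in one degree. -/
theorem exists_EH_regular : ∀ (l : List S) (J : Ideal S) (c : ℤ), IsWeaklyRegular (S ⧸ J) l →
    (∀ i, i ≠ c → Subsingleton (EH (Dual.inD S S) (Dual.inD S (S ⧸ J)) i)) →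
    Nonempty (EH (Dual.inD S S) (Dual.inD S (S ⧸ J)) c ≃ₗ[S] (S ⧸ J)) →
    (∀ i, i ≠ c + l.length → Subsingleton (EH (Dual.inD S S) (Dual.inD S (S ⧸ (J ⊔ Ideal.ofList l))) i)) ∧
      Nonempty (EH (Dual.inD S S) (Dual.inD S (S ⧸ (J ⊔ Ideal.ofList l))) (c + l.length) ≃ₗ[S]
        (S ⧸ (J ⊔ Ideal.ofList l)))
  | [], J, c, _, h0, h1 => by
    rw [show J ⊔ Ideal.ofList ([] : List S) = J by simp]
    rw [List.length_nil, Nat.cast_zero, add_zero]
    exact ⟨h0, h1⟩
  | x :: l, J, c, hl, h0, ⟨e⟩ => by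
    rw [isWeaklyRegular_cons_iff] at hl
    obtain ⟨hz, ⟨e'⟩⟩ := regular_step (Dual.inD S S) J x hl.1 c h0 e
    have hq : (x • ⊤ : Submodule S (S ⧸ J)) = Submodule.map J.mkQ (J ⊔ Ideal.span {x}) := by
      rw [Submodule.map_sup, Submodule.mkQ_map_self, bot_sup_eq]
      ext y
      constructor
      · intro hy
        obtain ⟨z, -, rfl⟩ := (Submodule.mem_smul_pointwise_iff_exists _ _ _).1 hy
        obtain ⟨z, rfl⟩ := Submodule.Quotient.mk_surjective _ z
        exact ⟨x • z, Ideal.mem_span_singleton'.2 ⟨z, mul_comm z x⟩, rfl⟩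
      · rintro ⟨z, hz, rfl⟩
        obtain ⟨w, rfl⟩ := Ideal.mem_span_singleton'.1 hz
        refine (Submodule.mem_smul_pointwise_iff_exists _ _ _).2 ⟨Submodule.Quotient.mk w, trivial, ?_⟩
        rw [← Submodule.Quotient.mk_smul, smul_eq_mul, mul_comm, Submodule.mkQ_apply]
    have hl' : IsWeaklyRegular (S ⧸ (J ⊔ Ideal.span {x})) l :=
      ((((Submodule.quotEquivOfEq _ _ hq).trans
        (Submodule.quotientQuotientEquivQuotient J _ le_sup_left))).isWeaklyRegular_congr l).1 hl.2
    have h := exists_EH_regular l (J ⊔ Ideal.span {x}) (c + 1) hl' hz ⟨e'⟩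
    rw [show (J ⊔ Ideal.span {x}) ⊔ Ideal.ofList l = J ⊔ Ideal.ofList (x :: l) by
      rw [Ideal.ofList_cons, sup_assoc]] at h
    rw [show c + ((x :: l).length : ℤ) = c + 1 + (l.length : ℤ) by push_cast [List.length_cons]; ring]
    exact h

theorem exists_EH_ofList (l : List S) (hl : IsWeaklyRegular S l) :
    (∀ i, i ≠ (l.length : ℤ) → Subsingleton (EH (Dual.inD S S) (Dual.inD S (S ⧸ Ideal.ofList l)) i)) ∧
      Nonempty (EH (Dual.inD S S) (Dual.inD S (S ⧸ Ideal.ofList l)) l.length ≃ₗ[S] (S ⧸ Ideal.ofList l)) := by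
  let e0 : (S ⧸ (⊥ : Ideal S)) ≃ₗ[S] S := Submodule.quotEquivOfEqBot ⊥ rfl
  let eS : Dual.inD S (S ⧸ (⊥ : Ideal S)) ≅ Dual.inD S S :=
    (DerivedCategory.singleFunctor (ModuleCat.{u} S) 0).mapIso e0.toModuleIso
  have h0 : ∀ i, i ≠ (0 : ℤ) → Subsingleton (EH (Dual.inD S S) (Dual.inD S (S ⧸ (⊥ : Ideal S))) i) := fun i hi => by
    haveI := GrothLib.DR.subsingleton_HD_inD (A := S) S i hi
    exact ((congrLeft eS _).toEquiv.trans (exists_hom_ring_equiv (Dual.inD S S) i).some.toEquiv).subsingleton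
  have h1 : Nonempty (EH (Dual.inD S S) (Dual.inD S (S ⧸ (⊥ : Ideal S))) 0 ≃ₗ[S] (S ⧸ (⊥ : Ideal S))) :=
    ⟨(congrLeft eS _).trans ((exists_hom_ring_equiv (Dual.inD S S) 0).some.trans
      ((GrothLib.DR.inDHomologyIso S).toLinearEquiv.trans e0.symm))⟩
  have h := exists_EH_regular l ⊥ 0 ((e0.isWeaklyRegular_congr l).2 hl) h0 h1
  rw [bot_sup_eq, zero_add] at h
  exact h

attribute [local instance] Shriek.pfl_of_flat

open Shriek (GP RA)

variable {R A : Type u} [CommRing R] [CommRing A] [IsNoetherianRing R] [Algebra R A] {n : ℕ}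
  (ψ : MvPolynomial (Fin n) R →ₐ[R] A) (hψ : Function.Surjective ψ)

include hψ in
/-- Finiteness of the relative dualizing complex of a perfect algebra. -/
theorem finite_bounded_GP [IsNoetherianRing A]
    (hA : letI := ψ.toRingHom.toAlgebra; DRing.IsPerfectModule (MvPolynomial (Fin n) R) A) :
    (∃ s : Finset ℤ, ∀ i ∉ s, Subsingleton (Dual.HD A (GP ψ (Dual.inD R R)) i)) ∧
      ∀ i, Module.Finite A (Dual.HD A (GP ψ (Dual.inD R R)) i) := by
  letI : Algebra (MvPolynomial (Fin n) R) A := ψ.toRingHom.toAlgebra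
  let P := MvPolynomial (Fin n) R
  obtain ⟨eP⟩ := Shriek.nonempty_bcD_self (R := R) (P := P)
  have hK : DRing.IsPerfect P ((DRing.restrictD ψ.toRingHom).obj (GP ψ (Dual.inD R R))) := by
    obtain ⟨E, a, b, hv, hE, ⟨e⟩⟩ := DR.isPerfect_shift (Shriek.isPerfect_restrictD_RA_self hA) (n : ℤ)
    exact ⟨E, a, b, hv, hE, ⟨e ≪≫ (((DRing.restrictD ψ.toRingHom).commShiftIso (n : ℤ)).app _).symm ≪≫
      (DRing.restrictD ψ.toRingHom).mapIso
        ((shiftFunctor (Dual.D A) (n : ℤ)).mapIso ((RA ψ.toRingHom).mapIso eP.symm))⟩⟩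
  refine ⟨?_, fun i => Shriek.finite_HD_of_isPseudoCoherent'
    ((DR.isPseudoCoherent'_restrictD_iff (DR.ringPseudoCoherent_algebraMap (DR.isPerfect_iff.1 hA).1) _).2
      (DR.isPerfect_iff.1 hK).1) i⟩
  obtain ⟨E, a, b, hv, -, ⟨e⟩⟩ := hK
  refine ⟨Finset.Icc a b, fun i hi => ?_⟩
  have hi' : i < a ∨ b < i := by
    simp only [Finset.mem_Icc, not_and_or, not_le] at hi
    exact hi
  have h0 : IsZero ((DerivedCategory.homologyFunctor (ModuleCat.{u} P) i).obj (DRing.toD E)) :=
    (isZero_homology_of_X (hv i hi')).of_iso ((DerivedCategory.homologyFunctorFactors (ModuleCat.{u} P) i).app E)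
  have h1 := (h0.of_iso ((DerivedCategory.homologyFunctor (ModuleCat.{u} P) i).mapIso e.symm)).of_iso
    ((DerTrunc.homologyMapIso (ModuleCat.restrictScalars.{u} ψ.toRingHom) i).app (GP ψ (Dual.inD R R))).symm
  exact (ModuleCat.subsingleton_of_isZero h1 : Subsingleton ((ModuleCat.restrictScalars.{u} ψ.toRingHom).obj
    ((DerivedCategory.homologyFunctor (ModuleCat.{u} A) i).obj (GP ψ (Dual.inD R R)))))

open Shriek in
include hψ in
/-- At a point where the kernel is generated by a regular sequence the complex is the ring in one degree. -/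
theorem exists_localized_iso (q : Ideal A) [q.IsPrime]
    (hI : LCI6.KRegAt (RingHom.ker ψ.toRingHom) (q.comap ψ.toRingHom))
    [PreservesFiniteLimits (bcMod (A := A) (Localization.AtPrime q))] :
    ∃ m : ℤ, Nonempty ((bcD (A := A) (Localization.AtPrime q)).obj (GP ψ (Dual.inD R R)) ≅
      (Dual.inD (Localization.AtPrime q) (Localization.AtPrime q))⟦m⟧) := by
  letI : Algebra (MvPolynomial (Fin n) R) A := ψ.toRingHom.toAlgebra
  let P := MvPolynomial (Fin n) R
  let Q := q.comap ψ.toRingHom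
  let S := Localization.AtPrime Q
  let T := Localization.AtPrime q
  haveI : IsNoetherianRing S := GrothLib.Depth.isNoetherian_atPrime Q
  haveI : Module.Flat P S := IsLocalization.flat S Q.primeCompl
  haveI : Module.Finite P A := Module.Finite.of_surjective (Algebra.linearMap P A) hψ
  obtain ⟨l, hl, -, hIl⟩ := GorFlat.exists_isWeaklyRegular_of_kRegAt Q (LCI6.ker_le_comap _ _) hI
  obtain ⟨hzero, ⟨eTop⟩⟩ := exists_EH_ofList l hl
  -- the quotient is the localised algebra
  let eQ : (S ⊗[P] A) ≃ₗ[S] (S ⧸ Ideal.ofList l) :=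
    (TensorProduct.AlgebraTensorModule.congr (LinearEquiv.refl S S)
      ((Ideal.quotientKerAlgEquivOfSurjective (f := Algebra.ofId P A) hψ).toLinearEquiv).symm).trans
      ((Algebra.TensorProduct.quotIdealMapEquivTensorQuot S (RingHom.ker ψ.toRingHom)).toLinearEquiv.symm.trans
        (Submodule.quotEquivOfEq _ _ hIl))
  obtain ⟨eA⟩ := nonempty_bcD_inD (A := P) S A
  obtain ⟨eP⟩ := nonempty_bcD_self (R := P) (P := S)
  haveI : (Dual.inD P P).IsGE 0 := inferInstance
  let eN : Dual.inD S (S ⊗[P] A) ≅ Dual.inD S (S ⧸ Ideal.ofList l) :=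
    (DerivedCategory.singleFunctor (ModuleCat.{u} S) 0).mapIso eQ.toModuleIso
  have hloc : ∀ j, Nonempty ((S ⊗[P] EH (Dual.inD P P) (Dual.inD P A) j) ≃ₗ[S]
      EH (Dual.inD S S) (Dual.inD S (S ⧸ Ideal.ofList l)) j) := fun j =>
    ⟨(θEquiv S (isBC_inD S (Dual.inD P P) 0 (j + 1).toNat A j (by omega))) ≪≫ₗ
      Linear.homCongr S (eA ≪≫ eN) (shiftBc S (Dual.inD P P) j ≪≫ (shiftFunctor (Dual.D S) j).mapIso eP)⟩
  -- localised homology over the algebra
  let M : ℤ → Type u := fun i => Dual.HD A (GP ψ (Dual.inD R R)) i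
  have hsemi : ∀ i, ∃ e : M i ≃+ EH (Dual.inD P P) (Dual.inD P A) (i + n),
      ∀ (s : P) (x : M i), e (ψ s • x) = s • e x := fun i => exists_HD_GP_semilinear ψ i
  obtain ⟨k, hk⟩ : ∃ k : ℤ, k = (n : ℤ) - l.length := ⟨_, rfl⟩
  refine ⟨k, nonempty_iso_shift_inD k (fun i hi => ?_) (Nonempty.some ?_)⟩
  · obtain ⟨e1⟩ := nonempty_HD_bcD_equiv (A := A) T (GP ψ (Dual.inD R R)) i
    haveI : Subsingleton (LocalizedModule q.primeCompl (M i)) := by
      haveI := hzero (i + n) (by omega)
      haveI := (hloc (i + n)).some.toEquiv.subsingleton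
      have h0 : Subsingleton (S ⊗[P] EH (Dual.inD P P) (Dual.inD P A) (i + n)) := inferInstance
      rw [subsingleton_tensor_localization_iff Q.primeCompl] at h0
      obtain ⟨e, he⟩ := hsemi i
      refine LocalizedModule.subsingleton_iff.2 fun x => ?_
      obtain ⟨s, hs, hsx⟩ := h0 (e x)
      exact ⟨ψ s, hs, e.injective (by rw [he, hsx, map_zero])⟩
    exact (e1.trans (LocalizedModule.equivTensorProduct q.primeCompl (M i)).symm).toEquiv.subsingleton
  · obtain ⟨e1⟩ := nonempty_HD_bcD_equiv (A := A) T (GP ψ (Dual.inD R R)) (-k)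
    obtain ⟨e, he⟩ := hsemi (-k)
    haveI : IsScalarTower P A T := inferInstance
    let V := LocalizedModule q.primeCompl (M (-k))
    letI : Module P (M (-k)) := Module.compHom (M (-k)) (algebraMap P A)
    haveI : IsScalarTower P A (M (-k)) := IsScalarTower.of_algebraMap_smul fun _ _ => rfl
    let μ : M (-k) →ₗ[P] V := (LocalizedModule.mkLinearMap q.primeCompl (M (-k))).restrictScalars P
    haveI : IsLocalizedModule Q.primeCompl μ :=
      { map_units := fun s => by
          have h := IsLocalizedModule.map_units (LocalizedModule.mkLinearMap q.primeCompl (M (-k)))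
            (⟨ψ s, s.2⟩ : q.primeCompl)
          rw [Module.End.isUnit_iff] at h ⊢
          have hfun : ∀ v : V, (s : P) • v = (ψ s : A) • v := fun v => (algebraMap_smul A (s : P) v).symm
          refine ⟨fun a b hab => h.1 ?_, fun b => ?_⟩
          · exact (hfun a).symm.trans (hab.trans (hfun b))
          · obtain ⟨a, ha⟩ := h.2 b
            exact ⟨a, (hfun a).trans ha⟩
        surj := fun y => by
          obtain ⟨⟨x, t⟩, hxt⟩ := IsLocalizedModule.surj q.primeCompl (LocalizedModule.mkLinearMap q.primeCompl (M (-k))) y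
          obtain ⟨t', ht'⟩ := hψ (t : A)
          refine ⟨⟨x, ⟨t', fun h => t.2 (ht' ▸ h)⟩⟩, ?_⟩
          show (t' : P) • y = μ x
          rw [← algebraMap_smul A t' y]
          exact (congrArg (· • y) ht').trans hxt
        exists_of_eq := fun {x y} hxy => by
          obtain ⟨t, ht⟩ := IsLocalizedModule.exists_of_eq (S := q.primeCompl)
            (f := LocalizedModule.mkLinearMap q.primeCompl (M (-k))) hxy
          obtain ⟨t', ht'⟩ := hψ (t : A)
          refine ⟨⟨t', fun h => t.2 (ht' ▸ h)⟩, ?_⟩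
          show (t' : P) • x = t' • y
          rw [← algebraMap_smul A t' x, ← algebraMap_smul A t' y, show algebraMap P A t' = (t : A) from ht']
          exact ht }
    let eP' : M (-k) ≃ₗ[P] EH (Dual.inD P P) (Dual.inD P A) (-k + n) :=
      { e with map_smul' := fun s x => he s x }
    have hdeg : -k + (n : ℤ) = (l.length : ℤ) := by omega
    let eV : V ≃ₗ[P] (S ⊗[P] A) :=
      (IsLocalizedModule.iso Q.primeCompl μ).symm ≪≫ₗ
        ((LocalizedModule.equivTensorProduct Q.primeCompl (M (-k))).restrictScalars P) ≪≫ₗ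
        ((TensorProduct.AlgebraTensorModule.congr (LinearEquiv.refl S S) eP').restrictScalars P) ≪≫ₗ
        ((((hloc (-k + n)).some.trans (hdeg ▸ eTop)).trans eQ.symm).restrictScalars P)
    -- the localised algebra
    let ν : A →ₗ[P] T := (Algebra.linearMap A T).restrictScalars P
    haveI : IsLocalizedModule Q.primeCompl ν :=
      { map_units := fun s => by
          rw [Module.End.isUnit_iff]
          have hu : IsUnit (algebraMap A T (ψ (s : P))) := IsLocalization.map_units T (⟨ψ s, s.2⟩ : q.primeCompl)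
          have hfun : ∀ v : T, (s : P) • v = algebraMap A T (ψ (s : P)) * v := fun v =>
            ((algebraMap_smul A (s : P) v).symm).trans (Algebra.smul_def _ _)
          refine ⟨fun a b hab => hu.mul_left_cancel ((hfun a).symm.trans (hab.trans (hfun b))), fun b => ?_⟩
          exact ⟨↑hu.unit⁻¹ * b, (hfun _).trans (hu.unit.mul_inv_cancel_left b)⟩
        surj := fun y => by
          obtain ⟨⟨x, t⟩, hxt⟩ := IsLocalization.surj q.primeCompl y
          obtain ⟨t', ht'⟩ := hψ (t : A)
          refine ⟨⟨x, ⟨t', fun h => t.2 (ht' ▸ h)⟩⟩, ?_⟩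
          show (t' : P) • y = algebraMap A T x
          rw [← algebraMap_smul A t' y, Algebra.smul_def, mul_comm, show algebraMap P A t' = (t : A) from ht']
          exact hxt
        exists_of_eq := fun {x y} hxy => by
          obtain ⟨t, ht⟩ := (IsLocalization.eq_iff_exists q.primeCompl T).1 hxy
          obtain ⟨t', ht'⟩ := hψ (t : A)
          refine ⟨⟨t', fun h => t.2 (ht' ▸ h)⟩, ?_⟩
          show (t' : P) • x = t' • y
          rw [← algebraMap_smul A t' x, ← algebraMap_smul A t' y, show algebraMap P A t' = (t : A) from ht']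
          exact ht }
    let eT : V ≃ₗ[P] T := eV ≪≫ₗ ((LocalizedModule.equivTensorProduct Q.primeCompl A).restrictScalars P).symm ≪≫ₗ
      IsLocalizedModule.iso Q.primeCompl ν
    exact ⟨e1 ≪≫ₗ (LocalizedModule.equivTensorProduct q.primeCompl (M (-k))).symm ≪≫ₗ
      (eT.extendScalarsOfSurjective (R := P) (S := A) hψ).extendScalarsOfIsLocalization q.primeCompl T⟩

include hψ in
/-- **Invertibility of the relative dualizing complex of a complete intersection.** -/
theorem exists_away (hl : LCI.IsLCI R A) [IsNoetherianRing A] (q : PrimeSpectrum A)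
    [∀ f : A, PreservesFiniteLimits (bcMod (A := A) (Localization.Away f))] :
    ∃ f : A, f ∉ q.asIdeal ∧ ∃ m : ℤ, Nonempty ((bcD (A := A) (Localization.Away f)).obj (GP ψ (Dual.inD R R)) ≅
      (Dual.inD (Localization.Away f) (Localization.Away f))⟦m⟧) := by
  letI : Algebra (MvPolynomial (Fin n) R) A := ψ.toRingHom.toAlgebra
  haveI : Module.Flat A (Localization.AtPrime q.asIdeal) := IsLocalization.flat _ q.asIdeal.primeCompl
  haveI : PreservesFiniteLimits (bcMod (A := A) (Localization.AtPrime q.asIdeal)) :=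
    GrothLib.DR.preservesFiniteLimits_extendScalars (algebraMap A _) GrothLib.DR.flat_algebraMap
  obtain ⟨⟨s, hs⟩, hfin⟩ := finite_bounded_GP ψ hψ (PHom.isPerfectModule_pres (LCI6.isPerfectHom_of_isLCI hl) ψ hψ)
  obtain ⟨m, ⟨e⟩⟩ := exists_localized_iso ψ hψ q.asIdeal
    ((LCI6.isKoszulRegularIdeal_ker_iff _ hψ).1 (LCI6.isKoszulRegularIdeal_of_isLCI hl ψ hψ) q.asIdeal inferInstance)
  obtain ⟨f, hf, he⟩ := exists_away_iso_shift _ hfin s hs q.asIdeal m e
  exact ⟨f, hf, m, he⟩

end GrothLib.DualRing.LCIInv
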