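import Groth.Agent.Lib.DualRing.Shift
import Groth.Agent.Lib.DualCx22.EssFT
import Groth.Agent.Lib.DualCx22.Pointwise

/-! # The Cohen–Macaulay locus of a ring with a dualizing complex -/

set_option autoImplicit false
set_option linter.style.haveILetI false
universe u

open CategoryTheory CategoryTheory.Limits TensorProduct GrothLib.DualCx22

attribute [local instance] HasDerivedCategory.standard

namespace GrothLib.DualRing

variable {A : Type u} [CommRing A] [IsNoetherianRing A] {ω : Dual.D A} (hω : Dual.IsDualizing A ω)
include hω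

/-- The localization of a dualizing complex, with the localizations of its cohomology. -/
theorem exists_localized (p : PrimeSpectrum A) :
    ∃ ω' : Dual.D (Localization.AtPrime p.asIdeal), Dual.IsDualizing (Localization.AtPrime p.asIdeal) ω' ∧
      ∀ i, Nonempty (Dual.HD (Localization.AtPrime p.asIdeal) ω' i ≃ₗ[Localization.AtPrime p.asIdeal]
        Localization.AtPrime p.asIdeal ⊗[A] Dual.HD A ω i) := by
  haveI : Module.Flat A (Localization.AtPrime p.asIdeal) := IsLocalization.flat _ p.asIdeal.primeCompl
  haveI := GrothLib.DR.preservesFiniteLimits_extendScalars (algebraMap A (Localization.AtPrime p.asIdeal))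
    GrothLib.DR.flat_algebraMap
  exact ⟨_, isDualizing_bcD_localization p.asIdeal.primeCompl (Localization.AtPrime p.asIdeal) hω,
    fun i => nonempty_HD_bcD_equiv (A := A) (Localization.AtPrime p.asIdeal) ω i⟩

theorem nontrivial_HD_iff_mem_support (p : PrimeSpectrum A)
    {ω' : Dual.D (Localization.AtPrime p.asIdeal)} {i : ℤ}
    (e : Dual.HD (Localization.AtPrime p.asIdeal) ω' i ≃ₗ[Localization.AtPrime p.asIdeal]
        Localization.AtPrime p.asIdeal ⊗[A] Dual.HD A ω i) :
    Nontrivial (Dual.HD (Localization.AtPrime p.asIdeal) ω' i) ↔ p ∈ Module.support A (Dual.HD A ω i) := by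
  rw [e.toEquiv.nontrivial_congr, ← not_subsingleton_iff_nontrivial,
    subsingleton_tensor_localization_iff p.asIdeal.primeCompl]
  refine (not_congr ?_).trans not_not
  exact (Module.notMem_support_iff' (p := p)).symm

/-- Outside finitely many degrees the cohomology vanishes. -/
theorem exists_bounds : ∃ s : Finset ℤ, ∀ i ∉ s, Subsingleton (Dual.HD A ω i) := by
  obtain ⟨a, b, hab⟩ := hω.finite_injective_dimension
  refine ⟨Finset.Icc a b, fun i hi => ?_⟩
  rw [Finset.mem_Icc] at hi
  haveI := hab A i (by omega)
  exact (exists_hom_ring_equiv ω i).some.symm.toEquiv.subsingleton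

theorem isCM_iff_support (p : PrimeSpectrum A) :
    LocCoh.IsCohenMacaulayLocalRing (Localization.AtPrime p.asIdeal) ↔
      ∀ i j : ℤ, p ∈ Module.support A (Dual.HD A ω i) → p ∈ Module.support A (Dual.HD A ω j) → i = j := by
  obtain ⟨ω', hω', he⟩ := exists_localized hω p
  rw [isCM_iff_HD hω']
  exact forall₂_congr fun i j => by
    rw [nontrivial_HD_iff_mem_support hω p (he i).some, nontrivial_HD_iff_mem_support hω p (he j).some]

theorem isOpen_CMLocus :
    IsOpen {p : PrimeSpectrum A | LocCoh.IsCohenMacaulayLocalRing (Localization.AtPrime p.asIdeal)} := by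
  obtain ⟨s, hs⟩ := exists_bounds hω
  have hE : ∀ i, i ∉ s → Module.support A (Dual.HD A ω i) = ∅ := fun i hi => by
    haveI := hs i hi
    exact Module.support_eq_empty_iff.2 inferInstance
  have h : {p : PrimeSpectrum A | LocCoh.IsCohenMacaulayLocalRing (Localization.AtPrime p.asIdeal)} =
      (⋃ t ∈ (s ×ˢ s).filter (fun t => t.1 ≠ t.2),
        Module.support A (Dual.HD A ω t.1) ∩ Module.support A (Dual.HD A ω t.2))ᶜ := by
    ext p
    simp only [Set.mem_setOf_eq, isCM_iff_support hω p, Set.mem_compl_iff, Set.mem_iUnion, Finset.mem_filter,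
      Finset.mem_product, Set.mem_inter_iff, not_exists, not_and]
    refine ⟨fun h t ht h1 h2 => ht.2 (h _ _ h1 h2), fun h i j hi hj => not_not.1 fun hne => ?_⟩
    have his : i ∈ s := not_not.1 fun h' => by simp [hE i h'] at hi
    have hjs : j ∈ s := not_not.1 fun h' => by simp [hE j h'] at hj
    exact h (i, j) ⟨⟨his, hjs⟩, hne⟩ hi hj
  rw [h]
  refine (Set.Finite.isClosed_biUnion (Finset.finite_toSet _) fun t _ => ?_).isOpen_compl
  haveI := hω.finite_cohomology t.1
  haveI := hω.finite_cohomology t.2
  exact Module.isClosed_support.inter Module.isClosed_support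

end GrothLib.DualRing
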