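import Groth.Agent.Lib.DualRing.Single

/-! # A dualizing complex has one nonvanishing Ext degree at every prime -/

set_option autoImplicit false
universe u

open CategoryTheory CategoryTheory.Limits Pretriangulated DerivedCategory

attribute [local instance] HasDerivedCategory.standard

namespace GrothLib.DualRing

variable {A : Type u} [CommRing A] [IsNoetherianRing A]

/-- A perfect object with finite nonzero length at `p`. -/
theorem exists_torsion_perfect (p : Ideal A) [p.IsPrime] :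
    ∃ P : Dual.D A, DRing.IsPerfect A P ∧ (∀ f ∈ p, DR.Nil f P) ∧ ∃ j, len p (Dual.HD A P j) ≠ 0 := by
  classical
  obtain ⟨g, hg⟩ := ((isNoetherianRing_iff_ideal_fg A).1 ‹_› p)
  obtain ⟨P, hP, hnil, hgen⟩ := DR.exists_nil_generator g.toList
  have htors : ∀ f ∈ p, DR.IsTorsion f P := by
    intro f hf j x
    rw [← hg] at hf
    let I : Ideal A :=
      { carrier := {f | ∃ k : ℕ, f ^ k • x = 0}
        zero_mem' := ⟨1, by rw [pow_one, zero_smul]⟩
        add_mem' := by
          rintro a b ⟨k, hk⟩ ⟨l, hl⟩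
          refine ⟨k + l, ?_⟩
          rw [add_pow, Finset.sum_smul]
          refine Finset.sum_eq_zero fun m _ => ?_
          rcases le_or_gt k m with h | h
          · rw [show a ^ m * b ^ (k + l - m) * (Nat.choose (k + l) m : A) =
              (b ^ (k + l - m) * (Nat.choose (k + l) m : A) * a ^ (m - k)) * a ^ k by
              rw [← Nat.sub_add_cancel h, pow_add]; simp; ring, mul_smul, hk, smul_zero]
          · rw [show a ^ m * b ^ (k + l - m) * (Nat.choose (k + l) m : A) =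
              (a ^ m * (Nat.choose (k + l) m : A) * b ^ (k - m)) * b ^ l by
              rw [show k + l - m = (k - m) + l by omega, pow_add]; ring, mul_smul, hl, smul_zero]
        smul_mem' := by
          rintro c a ⟨k, hk⟩
          exact ⟨k, by rw [smul_eq_mul, mul_pow, mul_smul, hk, smul_zero]⟩ }
    exact (Ideal.span_le.2 fun y hy => ((hnil y (Finset.mem_toList.2 hy)).isTorsion j x) :
      Ideal.span (g : Set A) ≤ I) hf
  refine ⟨P, hP, fun f hf => DR.nil_of_isTorsion hP (htors f hf), ?_⟩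
  by_contra! hz
  obtain ⟨a, b, hab⟩ := exists_bounds_HD hP
  have hs : ∀ j, ∃ s ∉ p, ∀ x : Dual.HD A P j, s • x = 0 := fun j =>
    haveI := DR.finite_homology_of_isPerfect hP j
    exists_smul_eq_zero_of_len_eq_zero (hz j)
  choose s hs hsx using hs
  let t := ∏ j ∈ Finset.Icc a b, s j
  have htp : t ∉ p := fun h => by
    obtain ⟨j, -, hj⟩ := (‹p.IsPrime›.prod_mem_iff).1 h
    exact hs j hj
  obtain ⟨k, hk⟩ := DR.nil_of_isTorsion (f := t) hP fun j x => ⟨1, by
    rw [pow_one]
    by_cases hj : j ∈ Finset.Icc a b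
    · obtain ⟨r, hr⟩ := Finset.dvd_prod_of_mem s hj
      rw [show t = s j * r from hr, mul_comm, mul_smul]
      erw [hsx j x, smul_zero]
    · haveI : Subsingleton (Dual.HD A P j) := hab j (by simp only [Finset.mem_Icc] at hj; omega)
      exact @Subsingleton.elim (Dual.HD A P j) _ _ _⟩
  let S := singleFunctor (ModuleCat.{u} A) 0
  let K := ModuleCat.of A p.ResidueField
  have hne : algebraMap A p.ResidueField (t ^ k) ≠ 0 := fun h =>
    htp (‹p.IsPrime›.mem_of_pow_mem k (Ideal.algebraMap_residueField_eq_zero.1 h))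
  have hiso : IsIso (t ^ k • 𝟙 K) := by
    rw [ConcreteCategory.isIso_iff_bijective]
    refine ⟨fun x y h => ?_, fun x => ⟨(algebraMap A p.ResidueField (t ^ k))⁻¹ * x, ?_⟩⟩
    · change t ^ k • (x : p.ResidueField) = t ^ k • y at h
      rw [Algebra.smul_def, Algebra.smul_def] at h
      exact mul_left_cancel₀ hne h
    · change t ^ k • ((algebraMap A p.ResidueField (t ^ k))⁻¹ * x : p.ResidueField) = x
      rw [Algebra.smul_def, mul_inv_cancel_left₀ hne]
  have hE : ∀ f ∈ g.toList, DR.IsTorsion f (S.obj K) := fun f hf =>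
    DR.Nil.isTorsion ⟨1, by
      rw [pow_one, ← S.map_id, ← Functor.map_smul,
        show f • 𝟙 K = 0 from ModuleCat.hom_ext (LinearMap.ext fun x => ?_), Functor.map_zero]
      change f • (x : p.ResidueField) = 0
      rw [Algebra.smul_def, Ideal.algebraMap_residueField_eq_zero.2
        (hg ▸ Ideal.subset_span (Finset.mem_toList.1 hf)), zero_mul]⟩
  have hZ : IsZero (S.obj K) := hgen _ hE fun n φ => by
    have h1 : t ^ k • φ = 0 := smul_eq_zero_of_killed (by
      rw [← CategoryTheory.Functor.map_id, ← Functor.map_smul, hk, Functor.map_zero]) φ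
    haveI : IsIso (S.map (t ^ k • 𝟙 K)) := inferInstance
    rw [← cancel_mono (S.map (t ^ k • 𝟙 K)), zero_comp, Functor.map_smul, CategoryTheory.Functor.map_id,
      Linear.comp_smul, Category.comp_id, h1]
  have hK : Subsingleton (Dual.HD A (S.obj K) 0) := DR.subsingleton_HD_of_isZero hZ 0
  have : Subsingleton ((singleFunctor (ModuleCat.{u} A) 0 ⋙ homologyFunctor (ModuleCat.{u} A) 0).obj K) := hK
  have : Subsingleton p.ResidueField :=
    ((singleFunctorCompHomologyFunctorIso (ModuleCat.{u} A) 0).app K).toLinearEquiv.toEquiv.symm.subsingleton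
  exact false_of_nontrivial_of_subsingleton p.ResidueField

variable {ω : Dual.D A} (hω : Dual.IsDualizing A ω) {p : Ideal A} [p.IsPrime]
include hω

theorem exists_bounds_mu : ∃ a b : ℤ, ∀ i, (i < a ∨ b < i) → mu ω p i = 0 := by
  obtain ⟨a, b, h⟩ := hω.finite_injective_dimension
  refine ⟨a, b, fun i hi => ?_⟩
  haveI := h (A ⧸ p) i hi
  exact len_eq_zero_of_subsingleton

omit hω in
theorem EH_eq_zero_of_bounded {K : Dual.D A} (hK : ∃ a b : ℤ, ∀ j, (j < a ∨ b < j) → Subsingleton (Dual.HD A K j))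
    {c d : ℤ} (hω' : ∀ (M : Type u) [AddCommGroup M] [Module A M] (i : ℤ), (i < c ∨ d < i) →
      Subsingleton (Dual.inD A M ⟶ ω⟦i⟧)) :
    ∃ a b : ℤ, ∀ i, (i < a ∨ b < i) → Subsingleton (EH ω K i) := by
  obtain ⟨a, b, hab⟩ := hK
  obtain ⟨n, hn⟩ : ∃ n : ℕ, b + 1 ≤ a + n := ⟨(b + 1 - a).toNat, by omega⟩
  suffices h : ∀ (n : ℕ) (K : Dual.D A) (b : ℤ), b + 1 ≤ a + n →
      (∀ j, (j < a ∨ b < j) → Subsingleton (Dual.HD A K j)) →
      ∀ i, (∀ j, a ≤ j → j ≤ b → i + j < c ∨ d < i + j) → Subsingleton (EH ω K i) from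
    ⟨c - b, d - a, fun i hi => h n K b hn hab i fun j h1 h2 => by omega⟩
  intro n
  induction n with
  | zero =>
    intro K b hb hK i _
    have hZ : IsZero K := DR.isZero_of_homology K fun j =>
      (DR.subsingleton_iff_isZero _).1 (hK j (by omega))
    exact ⟨fun f g => hZ.eq_of_src f g⟩
  | succ n ih =>
    intro K b hb hK i hi
    by_cases h : a ≤ b
    swap
    · exact ih K b (by omega) hK i hi
    obtain ⟨T, hT, rfl, ⟨e⟩, hlt, hge⟩ := exists_top_triangle K b fun j hj => hK j (Or.inr hj)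
    have h1 : Subsingleton (EH ω T.obj₁ i) := by
      refine ih T.obj₁ (b - 1) (by omega) (fun j hj => ?_) i fun j h1 h2 => hi j h1 (by omega)
      by_cases hj' : j < b
      · haveI := hK j (by omega); exact (hlt j hj').some.toEquiv.subsingleton
      · exact hge j (not_lt.1 hj')
    have h3 : Subsingleton (EH ω T.obj₃ i) := by
      haveI := hω' (Dual.HD A T.obj₂ b) (i + b) (hi b h le_rfl)
      exact ((congrLeft e (ω⟦i⟧)).trans (shiftLeft ω _ (-b) i (i + b) (by omega))).toEquiv.subsingleton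
    refine ⟨fun f g => sub_eq_zero.1 ?_⟩
    obtain ⟨β, hβ⟩ := Triangle.yoneda_exact₂ T hT (f - g) (h1.elim _ _)
    rw [hβ, h3.elim β 0, comp_zero]

theorem good_of_nil {P : Dual.D A} (hP : DRing.IsPerfect A P) (hnil : ∀ f ∈ p, DR.Nil f P) : Good p P where
  finite i := DR.finite_homology_of_isPerfect hP i
  ne_top i :=
    haveI := DR.finite_homology_of_isPerfect hP i
    len_ne_top_of_torsion p p (Ideal.span_eq p).ge _ fun f hf x => (hnil f hf).isTorsion i x
  bdd := exists_bounds_HD hP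

theorem len_EH_ne_top {P : Dual.D A} (hP : DRing.IsPerfect A P) (hnil : ∀ f ∈ p, DR.Nil f P) (i : ℤ) :
    len p (EH ω P i) ≠ ⊤ :=
  haveI := finite_EH_of_isPerfect hω hP i
  len_ne_top_of_torsion p p (Ideal.span_eq p).ge _ fun f hf x =>
    let ⟨k, hk⟩ := hnil f hf
    ⟨k, smul_eq_zero_of_killed hk x⟩

/-- A dualizing complex has one nonvanishing Ext degree at each prime, of length one. -/
theorem exists_mu_eq_one : ∃ c : ℤ, mu ω p c = 1 ∧ ∀ k, k ≠ c → mu ω p k = 0 := by
  classical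
  obtain ⟨P, hP, hnil, j₀, hj₀⟩ := exists_torsion_perfect p
  have hGP := good_of_nil hω hP hnil
  obtain ⟨Y, hY₁, hY₂⟩ := exists_dual hω hP
  have eY : ∀ i, len p (Dual.HD A Y i) = len p (EH ω P i) := fun i => len_congr (hY₁ i).some
  have eP : ∀ i, len p (EH ω Y i) = len p (Dual.HD A P i) := fun i => len_congr (hY₂ i).some
  obtain ⟨a₀, b₀, hb⟩ := hω.finite_injective_dimension
  obtain ⟨aY, bY, hbY⟩ := EH_eq_zero_of_bounded (ω := ω) hGP.bdd hb
  have hGY : Good p Y :=
    { finite := fun i => haveI := finite_EH_of_isPerfect hω hP i; Module.Finite.equiv (hY₁ i).some.symm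
      ne_top := fun i => by rw [eY]; exact len_EH_ne_top hω hP hnil i
      bdd := ⟨aY, bY, fun i hi => haveI := hbY i hi; (hY₁ i).some.toEquiv.subsingleton⟩ }
  obtain ⟨a, b, hab⟩ := exists_bounds_mu hω (p := p)
  obtain ⟨k₀, hk₀⟩ : ∃ k, mu ω p k ≠ 0 := by
    by_contra! h
    exact hj₀ ((eP j₀).symm.trans (vanish hGY j₀ fun _ => Or.inr (h _)))
  obtain ⟨c, hc, hlo⟩ : ∃ c, mu ω p c ≠ 0 ∧ ∀ k, k < c → mu ω p k = 0 := by
    obtain ⟨c, hc, hcl⟩ := Int.exists_least_of_bdd (P := fun k => mu ω p k ≠ 0)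
      ⟨a, fun k hk => not_lt.1 fun h => hk (hab k (Or.inl h))⟩ ⟨k₀, hk₀⟩
    exact ⟨c, hc, fun k hk => not_not.1 fun h => (hcl k h).not_gt hk⟩
  obtain ⟨d, hd, hhi⟩ : ∃ d, mu ω p d ≠ 0 ∧ ∀ k, d < k → mu ω p k = 0 := by
    obtain ⟨d, hd, hdl⟩ := Int.exists_greatest_of_bdd (P := fun k => mu ω p k ≠ 0)
      ⟨b, fun k hk => not_lt.1 fun h => hk (hab k (Or.inr h))⟩ ⟨k₀, hk₀⟩
    exact ⟨d, hd, fun k hk => not_not.1 fun h => (hdl k h).not_gt hk⟩
  have hsup : ∀ {X : Dual.D A}, Good p X → ∀ j₀, len p (Dual.HD A X j₀) ≠ 0 →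
      ∃ s t, len p (Dual.HD A X s) ≠ 0 ∧ (∀ j, j < s → len p (Dual.HD A X j) = 0) ∧
        len p (Dual.HD A X t) ≠ 0 ∧ (∀ j, t < j → len p (Dual.HD A X j) = 0) := by
    intro X hX j₀ h₀
    obtain ⟨u, v, huv⟩ := hX.bdd
    have hz : ∀ j, j < u ∨ v < j → len p (Dual.HD A X j) = 0 := fun j hj =>
      haveI := huv j hj
      len_eq_zero_of_subsingleton
    obtain ⟨s, hs, hsl⟩ := Int.exists_least_of_bdd (P := fun j => len p (Dual.HD A X j) ≠ 0)
      ⟨u, fun j hj => not_lt.1 fun h => hj (hz j (Or.inl h))⟩ ⟨j₀, h₀⟩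
    obtain ⟨t, ht, htl⟩ := Int.exists_greatest_of_bdd (P := fun j => len p (Dual.HD A X j) ≠ 0)
      ⟨v, fun j hj => not_lt.1 fun h => hj (hz j (Or.inr h))⟩ ⟨j₀, h₀⟩
    exact ⟨s, t, hs, fun j hj => not_not.1 fun h => (hsl j h).not_gt hj, ht,
      fun j hj => not_not.1 fun h => (htl j h).not_gt hj⟩
  obtain ⟨s, t, hs, hsl, ht, htl⟩ := hsup hGP j₀ hj₀
  have hcd : c = d := by
    have hY1 : len p (Dual.HD A Y (c - t)) ≠ 0 := by rw [eY]; exact bottom_ne_zero hc hlo hGP t ht htl
    have hYlow : ∀ j, j < c - t → len p (Dual.HD A Y j) = 0 := fun j hj => by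
      rw [eY]
      exact vanish hGP j fun i => if hi : t < i then Or.inl (htl i hi) else Or.inr (hlo _ (by omega))
    have h := top_ne_zero hd hhi hGY (c - t) hY1 hYlow
    rw [eP] at h
    have hle : d - (c - t) ≤ t := not_lt.1 fun hh => h (htl _ hh)
    have hdc : c ≤ d := not_lt.1 fun hh => hc (hhi c hh)
    omega
  subst hcd
  have hone : ∀ k, k ≠ c → mu ω p k = 0 := fun k hk => by
    rcases lt_or_gt_of_ne hk with h | h
    exacts [hlo k h, hhi k h]
  refine ⟨c, ?_, hone⟩
  have h := len_EH_formula hone hGY j₀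
  rw [eP, eY, len_EH_formula hone hGP, sub_sub_cancel] at h
  have hfin : len p (Dual.HD A P j₀) ≠ ⊤ := hGP.ne_top j₀
  revert h hfin hj₀ hc
  generalize mu ω p c = v
  generalize len p (Dual.HD A P j₀) = m
  intro hm hv h hfin
  induction v with
  | top => simp [ENat.top_mul, hm] at h; exact absurd h hfin
  | coe v =>
    induction m with
    | top => exact absurd rfl hfin
    | coe m =>
      rw [← Nat.cast_mul, ← Nat.cast_mul, Nat.cast_inj, ← mul_assoc] at h
      have hm0 : 0 < m := Nat.pos_of_ne_zero fun h0 => hm (by simp [h0])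
      have hv1 : v * v = 1 := Nat.eq_of_mul_eq_mul_right hm0 (by rw [one_mul]; exact h.symm)
      rw [Nat.eq_one_of_mul_eq_one_right hv1]
      rfl

end GrothLib.DualRing
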