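import Groth.Agent.Lib.DualRing.RelTop
import Groth.Agent.Lib.DualRing.ShriekRelProps
import Groth.Agent.Lib.DCxRing.FibreAmp
import Groth.Agent.Lib.FibreExact19.Basic
import Groth.Agent.Lib.FibreDimAt6.Proper
import Groth.Agent.Lib.FibreDim6.Affine

/-! # The tor amplitude of the relative dualizing complex of a flat algebra -/

set_option autoImplicit false
set_option linter.style.haveILetI false
set_option maxHeartbeats 800000
universe u

open CategoryTheory CategoryTheory.Limits TensorProduct GrothLib.DualCx22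

attribute [local instance] HasDerivedCategory.standard

namespace GrothLib.DualRing.Shriek

variable {R A : Type u} [CommRing R] [CommRing A] [IsNoetherianRing R] [IsNoetherianRing A] [Algebra R A]
  [Module.Flat R A] [Algebra.FinitePresentation R A] {n : ℕ} (ψ : MvPolynomial (Fin n) R →ₐ[R] A)

attribute [local instance] pfl_of_flat

omit [IsNoetherianRing R] [IsNoetherianRing A] [Module.Flat R A] in
/-- The fibres are at most `d`-dimensional as rings. -/
theorem ringKrullDim_fibre_le {d : ℕ}
    (hd : ∀ q : PrimeSpectrum A, FlatMor.fibreDimAt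
      (AlgebraicGeometry.Spec.map (CommRingCat.ofHom (algebraMap R A))) q ≤ (d : WithBot ℕ∞)) (p : PrimeSpectrum R) :
    ringKrullDim (p.asIdeal.ResidueField ⊗[R] A) ≤ (d : WithBot ℕ∞) := by
  show ringKrullDim (p.asIdeal.Fiber A) ≤ (d : WithBot ℕ∞)
  rw [← GrothLib.FibreDim6.dim_fiber_Spec R A p]
  exact (GrothLib.FibreDimAt6.dim_fiber_le_iff
    (AlgebraicGeometry.Spec.map (CommRingCat.ofHom (algebraMap R A))) p (d : WithBot ℕ∞)).2 fun x _ => hd x

omit [IsNoetherianRing R] [IsNoetherianRing A] [Module.Flat R A] [Algebra.FinitePresentation R A] in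
/-- The local dimension of a fibre is at most the dimension. -/
theorem fibreDimAt_le_ringKrullDim (q : PrimeSpectrum A) :
    FlatMor.fibreDimAt (AlgebraicGeometry.Spec.map (CommRingCat.ofHom (algebraMap R A))) q ≤ ringKrullDim A := by
  let f := AlgebraicGeometry.Spec.map (CommRingCat.ofHom (algebraMap R A))
  refine (GrothLib.FibreDimAt6.fibreDimAt_le_of_open f q ⊤ trivial).trans ?_
  refine le_trans (topologicalKrullDim_subspace_le (AlgebraicGeometry.Spec (CommRingCat.of A)) _) ?_
  exact le_of_eq (PrimeSpectrum.topologicalKrullDim_eq_ringKrullDim A)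

omit [IsNoetherianRing A] in
/-- The dualizing complex of a fibre lives in degrees at least minus the fibre dimension. -/
theorem exactAt_bc_fibre (hψ : Function.Surjective ψ) {d : ℕ}
    (hd : ∀ q : PrimeSpectrum A, FlatMor.fibreDimAt
      (AlgebraicGeometry.Spec.map (CommRingCat.ofHom (algebraMap R A))) q ≤ (d : WithBot ℕ∞))
    {E : DRing.Cx A} (hE : GrothLib.KF.IsKFlat E) (e : DRing.toD E ≅ GP ψ (Dual.inD R R))
    (p : PrimeSpectrum R) (i : ℤ) (hi : i < -(d : ℤ)) :
    ((DR.bc (Algebra.TensorProduct.includeRight : A →ₐ[R] p.asIdeal.ResidueField ⊗[R] A).toRingHom).obj E).ExactAt i := by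
  let k := p.asIdeal.ResidueField
  let B := k ⊗[R] A
  let α : A →+* B := (Algebra.TensorProduct.includeRight : A →ₐ[R] B).toRingHom
  haveI := GrothLib.KF.hasLBaseChange α
  haveI := GrothLib.KF.hasLBaseChange (algebraMap R k)
  let ψb := RelPC.bcPres (R' := k) ψ
  have hψb : Function.Surjective ψb := RelPC.bcPres_surjective ψ hψ
  obtain ⟨eb⟩ := nonempty_GP_baseChange (R' := k) ψ hψ (Dual.inD R R)
  let eR : DRing.toD (GrothLib.RH.oneCx R) ≅ Dual.inD R R :=
    ((DerivedCategory.singleFunctorIsoCompQ (ModuleCat.{u} R) 0).app _).symm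
  obtain ⟨eL⟩ := GrothLib.KF.lBase_value (algebraMap R k)
    (GrothLib.KF.isKFlat_single (ModuleCat.of R R) (inferInstanceAs (Module.Flat R R)) 0)
  let eK : (DRing.LBaseChange (algebraMap R k)).obj (Dual.inD R R) ≅ Dual.inD k k :=
    (DRing.LBaseChange (algebraMap R k)).mapIso eR.symm ≪≫ eL ≪≫
      DerivedCategory.Q.mapIso (Act.bcOne (algebraMap R k)) ≪≫
      ((DerivedCategory.singleFunctorIsoCompQ (ModuleCat.{u} k) 0).app _).symm
  obtain ⟨eV⟩ := GrothLib.KF.lBase_value α hE
  let eW : DRing.toD ((DR.bc α).obj E) ≅ GP ψb (Dual.inD k k) :=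
    eV.symm ≪≫ (DRing.LBaseChange α).mapIso e ≪≫ eb ≪≫
      (shiftFunctor (Dual.D B) (n : ℤ)).mapIso ((RA ψb.toRingHom).mapIso ((bcD (A := k) (MvPolynomial (Fin n) k)).mapIso eK))
  haveI hs : Subsingleton (Dual.HD B (GP ψb (Dual.inD k k)) i) := by
    by_contra hne
    rw [not_subsingleton_iff_nontrivial] at hne
    obtain ⟨q, hq⟩ := (Module.nonempty_support_iff (R := B) (M := Dual.HD B (GP ψb (Dual.inD k k)) i)).2 hne
    have hdim : FlatMor.fibreDimAt (AlgebraicGeometry.Spec.map (CommRingCat.ofHom (algebraMap k B))) q ≤ (d : WithBot ℕ∞) :=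
      (fibreDimAt_le_ringKrullDim q).trans (ringKrullDim_fibre_le hd p)
    have := le_of_nontrivial_localized_HD ψb hψb q hdim i (Module.mem_support_iff.1 hq)
    omega
  exact (GrothLib.DR.exactAt_iff _ i).2 (GrothLib.DR.subsingleton_HD_of_iso eW.symm i hs)

/-- **The tor amplitude of the relative dualizing complex.** -/
theorem hasTorAmplitudeIn_GP (hψ : Function.Surjective ψ) {d : ℕ}
    (hd : ∀ q : PrimeSpectrum A, FlatMor.fibreDimAt
      (AlgebraicGeometry.Spec.map (CommRingCat.ofHom (algebraMap R A))) q ≤ (d : WithBot ℕ∞)) :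
    DRing.HasTorAmplitudeIn R (-(d : ℤ)) 0 ((DRing.restrictD (algebraMap R A)).obj (GP ψ (Dual.inD R R))) := by
  obtain ⟨E, b, hb, hf, ⟨e⟩⟩ := (isRelPerfect_GP ψ hψ).1
  have hflatA : DRing.TermwiseFlat E := DR.termwiseFlat_of_projective fun i => DR.projective_of_finiteFree hf i
  have hEK : GrothLib.KF.IsKFlat E := GrothLib.KF.isKFlat_of_bounded_above E b hb hflatA
  let F := (DRing.restrictCx (algebraMap R A)).obj E
  have hFb : DRing.VanishesAbove F b := fun i hi => (ModuleCat.restrictScalars (algebraMap R A)).map_isZero (hb i hi)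
  have hFf : DRing.TermwiseFlat F := fun i => by
    haveI := hflatA i
    letI : Module R (E.X i) := Module.compHom _ (algebraMap R A)
    haveI : IsScalarTower R A (E.X i) := IsScalarTower.of_algebraMap_smul fun _ _ => rfl
    exact (Module.Flat.trans R A (E.X i) : Module.Flat R (E.X i))
  refine DR.hasTorAmplitudeIn_of_iso
    (((ModuleCat.restrictScalars.{u} (algebraMap R A)).mapDerivedCategoryFactors.app E).symm ≪≫
      (DRing.restrictD (algebraMap R A)).mapIso e) ((DR.hasTorAmplitudeIn_iff hFb hFf _ 0).2 fun M _ _ i hi => ?_)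
  rcases hi with hi | hi
  · -- below: from the fibres
    let c := -(d : ℤ)
    let D : ∀ m : ℕ, F.X (c - (m + 1 : ℕ)) →ₗ[R] F.X (c - (m : ℕ)) := fun m => (F.d (c - (m + 1 : ℕ)) (c - (m : ℕ))).hom
    have hdd : ∀ m, D m ∘ₗ D (m + 1) = 0 := fun m =>
      congrArg ModuleCat.Hom.hom (F.d_comp_d (c - (m + 1 + 1 : ℕ)) (c - (m + 1 : ℕ)) (c - (m : ℕ)))
    haveI : ∀ m : ℕ, Module.Flat R (F.X (c - (m : ℕ))) := fun m => hFf _
    have hconv : ∀ (L : Type u) [AddCommGroup L] [Module R L] (m : ℕ),
        DR.TExact F L (c - (m + 1 : ℕ)) ↔ Function.Exact ((D (m + 1)).lTensor L) ((D m).lTensor L) := by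
      intro L _ _ m
      unfold DR.TExact
      rw [show c - (m + 1 : ℕ) - 1 = c - (m + 1 + 1 : ℕ) by omega, show c - (m + 1 : ℕ) + 1 = c - (m : ℕ) by omega]
      exact (LinearMap.rTensor_exact_iff_lTensor_exact _)
    have hk : ∀ (p : Ideal R) [p.IsPrime], GrothLib.FibreExact19.ExAt (Q := fun m => F.X (c - (m : ℕ))) D p.ResidueField := by
      intro p _ m
      refine (hconv _ m).1 ((DR.tExact_tensor_iff E p.ResidueField _).1 ?_)
      let B := p.ResidueField ⊗[R] A
      let α : A →+* B := (Algebra.TensorProduct.includeRight : A →ₐ[R] B).toRingHom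
      have hx := (DR.exactAt_bc_iff α E _).1 (exactAt_bc_fibre ψ hψ hd hEK e ⟨p, inferInstance⟩ (c - (m + 1 : ℕ)) (by omega))
      letI : Algebra A B := α.toAlgebra
      refine DR.tExact_of_linearEquiv ?_ hx
      exact { (TensorProduct.comm R p.ResidueField A) with
        map_smul' := fun a z => by
          induction z using TensorProduct.induction_on with
          | zero => simp
          | add x y hx hy => simp only [smul_add, LinearEquiv.toFun_eq_coe, map_add, RingHom.id_apply] at hx hy ⊢; rw [hx, hy]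
          | tmul x y =>
            show (TensorProduct.comm R p.ResidueField A) (((1 : p.ResidueField) ⊗ₜ[R] a) * (x ⊗ₜ[R] y)) = a • (y ⊗ₜ[R] x)
            rw [Algebra.TensorProduct.tmul_mul_tmul, one_mul, TensorProduct.comm_tmul, TensorProduct.smul_tmul', smul_eq_mul] }
    obtain ⟨m, hm⟩ : ∃ m : ℕ, i = c - (m + 1 : ℕ) := ⟨(c - i - 1).toNat, by omega⟩
    rw [hm]
    exact (hconv M m).2 (GrothLib.FibreExact19.exAt_of_residueField hdd hk M m)
  · -- above: the cohomology vanishes
    refine DR.tExact_of_exact hFb hFf (n := 1) (fun j hj => ?_) i (by omega) M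
    refine (KF.exactAt_restrict_iff (algebraMap R A) E j).2 ((GrothLib.DR.exactAt_iff _ j).2 ?_)
    exact GrothLib.DR.subsingleton_HD_of_iso e.symm j (subsingleton_HD_GP_pos ψ hψ j (by omega))

end GrothLib.DualRing.Shriek
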