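import Groth.Agent.Lib.FibPd.Criteria
import Groth.Agent.Lib.FibreDimAt6.Scheme
import Groth.Agent.Lib.FlatOff.FibDepth
import Groth.Agent.Lib.DepthExt20.Basic
import Groth.Prelude.Def_Flat

/-! # The depth of affine space along a closed subscheme with small fibres -/

set_option autoImplicit false
set_option linter.style.haveILetI false
set_option maxHeartbeats 800000
universe u

open CategoryTheory AlgebraicGeometry Topology TensorProduct

namespace GrothLib.DualRing.FibreDim

open GrothLib.FibPd

variable {R A : Type u} [CommRing R] [CommRing A] [Algebra R A] {n : ℕ}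

/-- The fibre dimension does not grow under generisation. -/
theorem fibreDimAt_le_of_le [Algebra.FiniteType R A] {p q : PrimeSpectrum A} (h : p.asIdeal ≤ q.asIdeal) {d : ℕ}
    (hd : FlatMor.fibreDimAt (Spec.map (CommRingCat.ofHom (algebraMap R A))) q ≤ (d : WithBot ℕ∞)) :
    FlatMor.fibreDimAt (Spec.map (CommRingCat.ofHom (algebraMap R A))) p ≤ (d : WithBot ℕ∞) := by
  let f := Spec.map (CommRingCat.ofHom (algebraMap R A))
  haveI : LocallyOfFiniteType f :=
    (HasRingHomProperty.Spec_iff (P := @LocallyOfFiniteType)).mpr (RingHom.finiteType_algebraMap.mpr inferInstance)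
  have hs : p ⤳ q := (PrimeSpectrum.le_iff_specializes p q).1 h
  exact hs.mem_open (GrothLib.FibreDimAt6.isOpen_fibreDimAt_le f d) hd

/-- The closed point of the local ring of a fibre lies over the point. -/
theorem comap_maximalIdeal {B : Type u} [CommRing B] [Algebra R B] (Q : Ideal B) [Q.IsPrime]
    [IsLocalRing (EGA4.FibLocRing R B Q)] :
    (IsLocalRing.maximalIdeal (EGA4.FibLocRing R B Q)).comap (algebraMap B (EGA4.FibLocRing R B Q)) = Q := by
  have hmk : (Ideal.comap (Ideal.Quotient.mk ((Q.comap (algebraMap R B)).map (algebraMap R (Localization.AtPrime Q))))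
      (IsLocalRing.maximalIdeal (EGA4.FibLocRing R B Q))) = IsLocalRing.maximalIdeal (Localization.AtPrime Q) :=
    IsLocalRing.eq_maximalIdeal (Ideal.comap_isMaximal_of_surjective _ Ideal.Quotient.mk_surjective)
  rw [IsScalarTower.algebraMap_eq B (Localization.AtPrime Q) (EGA4.FibLocRing R B Q), ← Ideal.comap_comap,
    Ideal.Quotient.algebraMap_eq, hmk]
  exact Localization.AtPrime.comap_maximalIdeal

variable (ψ : MvPolynomial (Fin n) R →ₐ[R] A) (hψ : Function.Surjective ψ)

include hψ in
/-- The fibre dimension, inside affine space. -/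
theorem fibDimIn_eq_fibreDimAt (q : PrimeSpectrum A) :
    fibDimIn (PrimeSpectrum.comap (algebraMap R (Pol R n)))
        (PrimeSpectrum.zeroLocus (RingHom.ker ψ.toRingHom : Set (Pol R n))) (PrimeSpectrum.comap ψ.toRingHom q) =
      FlatMor.fibreDimAt (Spec.map (CommRingCat.ofHom (algebraMap R A))) q := by
  let f := Spec.map (CommRingCat.ofHom (algebraMap R A))
  let F : PrimeSpectrum A → PrimeSpectrum R := PrimeSpectrum.comap (algebraMap R A)
  let G : PrimeSpectrum A → PrimeSpectrum (Pol R n) := PrimeSpectrum.comap ψ.toRingHom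
  have hG : IsEmbedding G := PrimeSpectrum.isEmbedding_comap_of_surjective _ _ hψ
  have hFG : ∀ w, PrimeSpectrum.comap (algebraMap R (Pol R n)) (G w) = F w := fun w => by
    show PrimeSpectrum.comap _ (PrimeSpectrum.comap ψ.toRingHom w) = _
    rw [← PrimeSpectrum.comap_comp_apply]
    exact congrArg (fun φ => PrimeSpectrum.comap φ w) (RingHom.ext fun r => ψ.commutes r)
  let ι : ↥(f.fiber (f.base q)) → PrimeSpectrum A := fun z => f.fiberι (f.base q) z
  have hι : IsEmbedding ι := (f.fiberι (f.base q)).isEmbedding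
  have hιr : Set.range ι = F ⁻¹' {F q} := f.range_fiberι (f.base q)
  have hq : ι (f.asFiber q) = q := f.fiberι_asFiber q
  refine (congrArg _ (congrArg G hq).symm).trans ?_
  refine fibDimIn_eq_localDim _ _ (hG.comp hι) _ ?_
  rw [Set.range_comp, hιr, Function.comp_apply, hq]
  ext y
  constructor
  · rintro ⟨w, hw, rfl⟩
    refine ⟨?_, ?_⟩
    · rw [PrimeSpectrum.mem_zeroLocus]
      intro x hx
      show ψ.toRingHom x ∈ w.asIdeal
      rw [show ψ.toRingHom x = 0 from hx]
      exact w.asIdeal.zero_mem
    · show PrimeSpectrum.comap _ (G w) = PrimeSpectrum.comap _ (G q)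
      rw [hFG, hFG]
      exact hw
  · rintro ⟨hy, hy'⟩
    obtain ⟨w, rfl⟩ : y ∈ Set.range G := by
      rw [range_comap_of_surjective _ _ hψ]
      exact hy
    refine ⟨w, ?_, rfl⟩
    show F w = F q
    rw [← hFG, ← hFG q]
    exact hy'

include hψ in
/-- The codimension in the fibre of affine space. -/
theorem exists_fibre_dims (q : PrimeSpectrum A) {d : ℕ}
    (hd : FlatMor.fibreDimAt (Spec.map (CommRingCat.ofHom (algebraMap R A))) q ≤ (d : WithBot ℕ∞)) :
    ∃ D : ℕ, ringKrullDim (EGA4.FibLocRing R (Pol R n) (PrimeSpectrum.comap ψ.toRingHom q).asIdeal) = D ∧ n ≤ D + d := by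
  letI : Algebra (Pol R n) A := ψ.toRingHom.toAlgebra
  haveI : Module.Finite (Pol R n) A := Module.Finite.of_surjective (Algebra.linearMap (Pol R n) A) hψ
  let Q := PrimeSpectrum.comap ψ.toRingHom q
  have hsupp : Module.support (Pol R n) A = PrimeSpectrum.zeroLocus (RingHom.ker ψ.toRingHom : Set (Pol R n)) := by
    rw [Module.support_eq_zeroLocus]
    congr 2
    ext x
    rw [Module.mem_annihilator, RingHom.mem_ker]
    refine ⟨fun h => ?_, fun h a => ?_⟩
    · simpa [Algebra.smul_def, RingHom.algebraMap_toAlgebra] using h 1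
    · show ψ.toRingHom x * a = 0
      rw [h, zero_mul]
  obtain ⟨t, D, -, hD, hDt, hsum⟩ := fibre_data Q A
  have hQ : Q ∈ Module.support (Pol R n) A := by
    rw [hsupp, PrimeSpectrum.mem_zeroLocus]
    intro x hx
    show ψ.toRingHom x ∈ q.asIdeal
    rw [show ψ.toRingHom x = 0 from hx]
    exact q.asIdeal.zero_mem
  have htd : (t : WithBot ℕ∞) ≤ (d : WithBot ℕ∞) := by
    rw [hsupp, fibDimIn_eq_fibreDimAt ψ hψ q] at hsum
    haveI := GrothLib.FlatOff.isLocalRing_fibLocRing (A := R) Q.asIdeal
    rw [← hsum] at hd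
    set S := Module.supportDim (EGA4.FibLocRing R (Pol R n) Q.asIdeal)
      (EGA4.FibLocRing R (Pol R n) Q.asIdeal ⊗[Pol R n] A) with hS
    have hne : S ≠ ⊥ := by
      rw [hS]
      refine (Module.supportDim_ne_bot_iff_nontrivial _ _).2 ?_
      have hcl : IsLocalRing.closedPoint (EGA4.FibLocRing R (Pol R n) Q.asIdeal) ∈
          Module.support (EGA4.FibLocRing R (Pol R n) Q.asIdeal)
            (EGA4.FibLocRing R (Pol R n) Q.asIdeal ⊗[Pol R n] A) := by
        rw [mem_support_baseChange_iff]
        convert hQ using 1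
        exact PrimeSpectrum.ext (comap_maximalIdeal Q.asIdeal)
      exact Module.nonempty_support_iff.1 ⟨_, hcl⟩
    obtain ⟨x, hx⟩ := WithBot.ne_bot_iff_exists.1 hne
    rw [← hx] at hd
    refine le_trans ?_ hd
    exact le_add_of_nonneg_left (by simp)
  have htd' : t ≤ d := by exact_mod_cast htd
  exact ⟨D, hD, by omega⟩

end GrothLib.DualRing.FibreDim
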