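import Groth.Agent.Lib.DualRing.ShriekIndep
import Groth.Agent.Lib.RelPC.BaseChange
import Groth.Agent.Lib.DTen.HomTest
import Mathlib.RingTheory.Flat.Stability

/-! # The right adjoint of restriction commutes with flat base change -/

set_option autoImplicit false
set_option linter.style.haveILetI false
set_option maxHeartbeats 400000
universe u

open CategoryTheory CategoryTheory.Limits GrothLib.DualCx22 TensorProduct

attribute [local instance] HasDerivedCategory.standard

namespace GrothLib.DualRing.Shriek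

variable {P B P' B' : Type u} [CommRing P] [CommRing B] [CommRing P'] [CommRing B']
  [Algebra P B] [Algebra P P'] [Algebra B B'] [Algebra P' B']
  [PreservesFiniteLimits (bcMod (A := P) P')] [PreservesFiniteLimits (bcMod (A := B) B')]
  (h : ∃ e : B ⊗[P] P' ≃ₗ[B] B', ∀ (b : B) (q : P'), e (b ⊗ₜ[P] q) = algebraMap B B' b * algebraMap P' B' q)

omit [PreservesFiniteLimits (bcMod (A := P) P')] [PreservesFiniteLimits (bcMod (A := B) B')] in
include h in
theorem isPush : RelPC.IsPush (algebraMap P B) (algebraMap P P') (algebraMap B B') (algebraMap P' B') := by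
  suffices key : ∀ (φ : P →+* B) (ι : P →+* P') (ιA : B →+* B') (a1 : Algebra P B) (a2 : Algebra P P')
      (a3 : Algebra B B'), a1 = φ.toAlgebra → a2 = ι.toAlgebra → a3 = ιA.toAlgebra →
      (∃ e : B ⊗[P] P' ≃ₗ[B] B', ∀ (b : B) (q : P'), e (b ⊗ₜ[P] q) = ιA b * algebraMap P' B' q) →
      RelPC.IsPush φ ι ιA (algebraMap P' B') from
    key _ _ _ ‹Algebra P B› ‹Algebra P P'› ‹Algebra B B'› (Algebra.algebra_ext _ _ fun _ => rfl) (Algebra.algebra_ext _ _ fun _ => rfl)
      (Algebra.algebra_ext _ _ fun _ => rfl) h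
  intro φ ι ιA a1 a2 a3 e1 e2 e3 he
  subst e1 e2 e3
  exact he

omit [PreservesFiniteLimits (bcMod (A := P) P')] [PreservesFiniteLimits (bcMod (A := B) B')] in
include h in
theorem exists_cancel (X : Type*) [AddCommGroup X] [Module B X] [Module P X] [IsScalarTower P B X] :
    ∃ e : P' ⊗[P] X ≃+ B' ⊗[B] X, ∀ (q : P') (x : X), e (q ⊗ₜ[P] x) = algebraMap P' B' q ⊗ₜ[B] x := by
  obtain ⟨eD, heD⟩ := h
  refine ⟨(TensorProduct.comm P P' X).toAddEquiv.trans
      ((TensorProduct.AlgebraTensorModule.cancelBaseChange P B B X P').symm.toAddEquiv.trans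
        ((TensorProduct.congr (LinearEquiv.refl B X) eD).toAddEquiv.trans
          (TensorProduct.comm B X B').toAddEquiv)), fun q x => ?_⟩
  simp [heD]

theorem restrictScalarsAlgebraIso (B : Type u) [CommRing B] [Algebra P B] :
    Nonempty ((ModuleCat.restrictScalars.{u} (algebraMap P B)).obj (ModuleCat.of B B) ≅ ModuleCat.of P B) := by
  let f : (ModuleCat.restrictScalars.{u} (algebraMap P B)).obj (ModuleCat.of B B) →ₗ[P] B :=
    { toFun := fun x => x
      map_add' := fun _ _ => rfl
      map_smul' := fun p x => by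
        rw [RingHom.id_apply, Algebra.smul_def]
        rfl }
  exact ⟨(LinearEquiv.ofBijective f ⟨fun _ _ h => h, fun x => ⟨x, rfl⟩⟩).toModuleIso⟩

/-- Restriction commutes with flat base change. -/
noncomputable def κ : DRing.restrictD (algebraMap P B) ⋙ bcD P' ≅ bcD B' ⋙ DRing.restrictD (algebraMap P' B') :=
  DerCat.mapDerivedCompIso _ _ (bcMod (A := B) B' ⋙ ModuleCat.restrictScalars.{u} (algebraMap P' B'))
      (RelPC.pushBaseChangeIso _ _ _ _ (isPush h)) ≪≫
    (DerCat.mapDerivedCompIso _ _ (bcMod (A := B) B' ⋙ ModuleCat.restrictScalars.{u} (algebraMap P' B'))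
      (Iso.refl _)).symm

/-- The comparison of the right adjoints. -/
noncomputable def baseChangeMap (M : Dual.D P) :
    (bcD B').obj ((RA (algebraMap P B)).obj M) ⟶ (RA (algebraMap P' B')).obj ((bcD P').obj M) :=
  (radj (algebraMap P' B')).homEquiv _ _
    ((κ h).inv.app _ ≫ (bcD P').map ((radj (algebraMap P B)).counit.app M))

theorem homEquiv_baseChangeMap (M : Dual.D P) (Z : Dual.D B) (f : Z ⟶ (RA (algebraMap P B)).obj M) :
    (DRing.restrictD (algebraMap P' B')).map ((bcD B').map f) ≫
        ((κ h).inv.app _ ≫ (bcD P').map ((radj (algebraMap P B)).counit.app M)) =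
      (κ h).inv.app Z ≫ (bcD P').map (((radj (algebraMap P B)).homEquiv Z M).symm f) := by
  have hn := (κ h).inv.naturality f
  simp only [Functor.comp_map] at hn
  rw [reassoc_of% hn, Adjunction.homEquiv_counit, Functor.map_comp]

/-- The test: bijectivity against an object, from flat base change of morphisms. -/
theorem bijective_comp_baseChangeMap (M : Dual.D P) (Z : Dual.D B)
    (hP : IsBC P' ((DRing.restrictD (algebraMap P B)).obj Z) M)
    (hB : IsBC B' Z ((RA (algebraMap P B)).obj M)) :
    Function.Bijective fun t : (bcD B').obj Z ⟶ (bcD B').obj ((RA (algebraMap P B)).obj M) =>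
      t ≫ baseChangeMap h M := by
  let Y := (RA (algebraMap P B)).obj M
  let rad := radj (algebraMap P B)
  letI : Module P (Z ⟶ Y) := Module.compHom _ (algebraMap P B)
  haveI : IsScalarTower P B (Z ⟶ Y) := IsScalarTower.of_algebraMap_smul fun _ _ => rfl
  let Φ : (Z ⟶ Y) ≃ₗ[P] ((DRing.restrictD (algebraMap P B)).obj Z ⟶ M) :=
    { (rad.homEquiv Z M).symm with
      map_add' := fun f g => by
        change (rad.homEquiv Z M).symm (f + g) = (rad.homEquiv Z M).symm f + (rad.homEquiv Z M).symm g
        rw [Adjunction.homEquiv_counit, Adjunction.homEquiv_counit, Adjunction.homEquiv_counit, Functor.map_add,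
          Preadditive.add_comp]
      map_smul' := fun p f => by
        change (rad.homEquiv Z M).symm (algebraMap P B p • f) = p • (rad.homEquiv Z M).symm f
        rw [Adjunction.homEquiv_counit, Adjunction.homEquiv_counit, restrictD_map_smul, Linear.smul_comp] }
  obtain ⟨e, he⟩ := exists_cancel (P' := P') (B' := B') h (Z ⟶ Y)
  let Ψ : ((bcD B').obj Z ⟶ (bcD B').obj Y) → ((DRing.restrictD (algebraMap P' B')).obj ((bcD B').obj Z) ⟶ (bcD P').obj M) :=
    fun g => (DRing.restrictD (algebraMap P' B')).map g ≫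
      ((κ h).inv.app _ ≫ (bcD P').map (rad.counit.app M))
  suffices hΨ : Function.Bijective Ψ by
    have : (fun t : (bcD B').obj Z ⟶ (bcD B').obj Y => t ≫ baseChangeMap h M) =
        (radj (algebraMap P' B')).homEquiv _ _ ∘ Ψ := funext fun t => by
      exact ((radj (algebraMap P' B')).homEquiv_naturality_left t _).symm
    rw [this]
    exact ((radj (algebraMap P' B')).homEquiv _ _).bijective.comp hΨ
  let L : P' ⊗[P] (Z ⟶ Y) → B' ⊗[B] (Z ⟶ Y) := e
  have hL : Function.Bijective L := e.bijective
  have key : ∀ z, Ψ (θ B' Z Y (L z)) = ((κ h).inv.app Z) ≫ θ P' _ M (Φ.toLinearMap.lTensor P' z) := by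
    intro z
    induction z using TensorProduct.induction_on with
    | zero =>
      have h0 : L 0 = 0 := map_zero e
      rw [h0, map_zero, map_zero, map_zero, comp_zero]
      simp [Ψ]
    | tmul q f =>
      have hq : L (q ⊗ₜ f) = algebraMap P' B' q ⊗ₜ[B] f := he q f
      rw [hq, θ_tmul, LinearMap.lTensor_tmul, θ_tmul]
      simp only [Ψ, restrictD_map_smul, Linear.smul_comp, Linear.comp_smul]
      exact congrArg (q • ·) (homEquiv_baseChangeMap h M Z f)
    | add x y hx hy =>
      have h0 : L (x + y) = L x + L y := map_add e x y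
      rw [h0, map_add, map_add, map_add, Preadditive.comp_add, ← hx, ← hy]
      simp [Ψ, Preadditive.add_comp]
  have hc : Function.Bijective (Ψ ∘ θ B' Z Y ∘ L) := by
    have : Ψ ∘ θ B' Z Y ∘ L = (fun t => (κ h).inv.app Z ≫ t) ∘ θ P' _ M ∘ Φ.toLinearMap.lTensor P' := funext key
    rw [this]
    exact ((asIso ((κ h).inv.app Z)).homFromEquiv.symm.bijective).comp (hP.comp (LinearEquiv.lTensor P' Φ).bijective)
  exact (Function.Bijective.of_comp_iff Ψ (hB.comp hL)).1 hc

/-- **Flat base change of the right adjoint**, from flat base change of morphisms. -/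
theorem isIso_baseChangeMap (M : Dual.D P)
    (hM : ∀ i : ℤ, IsBC P' (Dual.inD P B) (M⟦i⟧)) : IsIso (baseChangeMap h M) := by
  refine DT.isIso_of_bijective_S _ fun i => ?_
  let Z : Dual.D B := (Dual.inD B B)⟦-i⟧
  obtain ⟨eR⟩ := nonempty_restrictD_inD (algebraMap P B) B
  let eB : (ModuleCat.restrictScalars.{u} (algebraMap P B)).obj (ModuleCat.of B B) ≅ ModuleCat.of P B :=
    (restrictScalarsAlgebraIso B).some
  have hP : IsBC P' ((DRing.restrictD (algebraMap P B)).obj Z) M :=
    isBC_of_iso P' (((DRing.restrictD (algebraMap P B)).commShiftIso (-i)).app _ ≪≫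
        (shiftFunctor (Dual.D P) (-i)).mapIso
          (eR ≪≫ (DerivedCategory.singleFunctor (ModuleCat.{u} P) 0).mapIso eB)).symm
      ((shiftFunctorZero (Dual.D P) ℤ).app M) (isBC_shift_all P' hM (-i) 0)
  have hB : IsBC B' Z ((RA (algebraMap P B)).obj M) :=
    isBC_of_iso B' (Iso.refl _) ((shiftFunctorZero (Dual.D B) ℤ).app _)
      (isBC_shift_all B' (L := (RA (algebraMap P B)).obj M) (fun j => isBC_of_iso B'
        ((DerivedCategory.singleFunctor (ModuleCat.{u} B) 0).mapIso
          (LinearEquiv.funUnique (Fin 1) B B).toModuleIso) (Iso.refl _) (isBC_free B' 1 _)) (-i) 0)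
  obtain ⟨e⟩ := DR.nonempty_map_inD (bcMod (A := B) B') B
  let eb : (bcMod (A := B) B').obj (ModuleCat.of B B) ≅ ModuleCat.of B' B' :=
    (DR.nonempty_extendScalars_iso (B := B') B).some.symm ≪≫
      (TensorProduct.AlgebraTensorModule.rid B B' B').toModuleIso
  let E : (bcD B').obj Z ≅ DT.S B' i :=
    shiftBc B' _ (-i) ≪≫ (shiftFunctor (Dual.D B') (-i)).mapIso
      ((bcD B').mapIso (DCpl.eSingle (ModuleCat.of B B)) ≪≫ (bcMod B').mapDerivedCategoryFactors.app _ ≪≫ e ≪≫
        (DerivedCategory.singleFunctor (ModuleCat.{u} B') 0).mapIso eb) ≪≫ (DR.toDSingleIso i (ModuleCat.of B' B')).symm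
  have h1 := bijective_comp_baseChangeMap h M Z hP hB
  have : (fun t : DT.S B' i ⟶ (bcD B').obj ((RA (algebraMap P B)).obj M) => t ≫ baseChangeMap h M) =
      (fun t => E.inv ≫ t) ∘ (fun t => t ≫ baseChangeMap h M) ∘ fun t => E.hom ≫ t := funext fun t => by simp
  rw [this]
  exact (E.symm.homFromEquiv.symm.bijective).comp (h1.comp E.homFromEquiv.symm.bijective)

end GrothLib.DualRing.Shriek
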