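import Groth.Prelude.Def_DualSh
import Groth.Agent.Lib.DualRing.ShriekBC
import Mathlib.RingTheory.AdjoinRoot
import Mathlib.RingTheory.IntegralClosure.IsIntegral.Basic

/-! # The upper shriek of a finite map -/

set_option autoImplicit false
set_option linter.style.haveILetI false
set_option maxHeartbeats 400000
universe u

open CategoryTheory CategoryTheory.Limits GrothLib.DualCx22 TensorProduct

attribute [local instance] HasDerivedCategory.standard

namespace GrothLib.DualRing.Shriek

/-- A finite algebra is a quotient of a finite free one. -/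
theorem exists_free_cover (R A : Type u) [CommRing R] [CommRing A] [Algebra R A] [Module.Finite R A] :
    ∃ (C : Type u) (_ : CommRing C) (_ : Algebra R C) (g : C →ₐ[R] A),
      Module.Free R C ∧ Module.Finite R C ∧ Function.Surjective g := by
  classical
  obtain ⟨s, hs⟩ := (inferInstance : Module.Finite R A).fg_top
  suffices key : ∀ t : Finset A, ∃ (C : Type u) (_ : CommRing C) (_ : Algebra R C) (g : C →ₐ[R] A),
      Module.Free R C ∧ Module.Finite R C ∧ ∀ a ∈ t, a ∈ g.range by
    obtain ⟨C, i1, i2, g, h1, h2, h3⟩ := key s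
    refine ⟨C, i1, i2, g, h1, h2, fun a => ?_⟩
    have : (⊤ : Submodule R A) ≤ g.range.toSubmodule := hs ▸ Submodule.span_le.2 h3
    exact this Submodule.mem_top
  intro t
  induction t using Finset.induction with
  | empty => exact ⟨R, inferInstance, inferInstance, Algebra.ofId R A, inferInstance, inferInstance, by simp⟩
  | insert a t _ ih =>
    obtain ⟨C, i1, i2, g, h1, h2, h3⟩ := ih
    obtain ⟨f, hf, hfa⟩ := Algebra.IsIntegral.isIntegral (R := R) a
    let F := f.map (algebraMap R C)
    have hF : F.Monic := hf.map _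
    haveI : Module.Free C (AdjoinRoot F) := Module.Free.of_basis (AdjoinRoot.powerBasis' hF).basis
    haveI : Module.Finite C (AdjoinRoot F) := (AdjoinRoot.powerBasis' hF).finite
    have hev : Polynomial.eval₂ g.toRingHom a F = 0 := by
      rw [Polynomial.eval₂_map, show g.toRingHom.comp (algebraMap R C) = algebraMap R A from g.comp_algebraMap]; exact hfa
    let g' : AdjoinRoot F →ₐ[R] A :=
      { AdjoinRoot.lift g.toRingHom a hev with
        commutes' := fun r => by
          change AdjoinRoot.lift g.toRingHom a hev (algebraMap R (AdjoinRoot F) r) = _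
          rw [IsScalarTower.algebraMap_apply R C (AdjoinRoot F), AdjoinRoot.algebraMap_eq, AdjoinRoot.lift_of]
          exact g.commutes r }
    refine ⟨AdjoinRoot F, inferInstance, inferInstance, g', Module.Free.trans (S := C), Module.Finite.trans C _,
      fun b hb => ?_⟩
    rcases Finset.mem_insert.1 hb with rfl | hb
    · exact ⟨AdjoinRoot.root F, AdjoinRoot.lift_root hev⟩
    · obtain ⟨c, rfl⟩ := h3 b hb
      exact ⟨AdjoinRoot.of F c, AdjoinRoot.lift_of hev⟩

attribute [local instance] pfl_of_flat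

/-- The empty presentation of the identity. -/
theorem nonempty_GP_empty {A : Type u} [CommRing A] (ψ : MvPolynomial (Fin 0) A →ₐ[A] A) (L : Dual.D A) :
    Nonempty (GP ψ L ≅ L) := by
  let a : A →+* MvPolynomial (Fin 0) A := algebraMap _ _
  have h1 : ψ.toRingHom.comp a = RingHom.id A := RingHom.ext fun r => ψ.commutes r
  have h2 : a.comp ψ.toRingHom = RingHom.id (MvPolynomial (Fin 0) A) := by
    refine RingHom.ext fun q => ?_
    obtain ⟨r, rfl⟩ := MvPolynomial.C_surjective (Fin 0) q
    exact congrArg a (ψ.commutes r)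
  let F := DRing.restrictD ψ.toRingHom
  let H := DRing.restrictD a
  let E : Dual.D A ≌ Dual.D (MvPolynomial (Fin 0) A) := CategoryTheory.Equivalence.mk F H
    (resComp a ψ.toRingHom h1).symm (resComp ψ.toRingHom a h2)
  let iR : H ≅ RA ψ.toRingHom := E.toAdjunction.rightAdjointUniq (radj ψ.toRingHom)
  let iL : extD a ≅ F :=
    (DerCat.mapDerivedAdj (ModuleCat.extendRestrictScalarsAdj a)).leftAdjointUniq E.toAdjunction
  exact ⟨(shiftFunctor (Dual.D A) ((0 : ℕ) : ℤ)).mapIso ((iR.app _).symm ≪≫ H.mapIso (iL.app L) ≪≫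
    (resComp a ψ.toRingHom h1).app L) ≪≫ (shiftFunctorZero' (Dual.D A) ((0 : ℕ) : ℤ) rfl).app L⟩

/-- A surjective presentation of the identity computes the identity. -/
theorem nonempty_GP_self {A : Type u} [CommRing A] {n : ℕ} (s : MvPolynomial (Fin n) A →ₐ[A] A) (L : Dual.D A) :
    Nonempty (GP s L ≅ L) := by
  have hs : Function.Surjective s := fun x => ⟨MvPolynomial.C x, s.commutes x⟩
  let ψ : MvPolynomial (Fin 0) A →ₐ[A] A := MvPolynomial.aeval Fin.elim0
  obtain ⟨e1⟩ := nonempty_GP_indep s hs ψ (fun x => ⟨MvPolynomial.C x, ψ.commutes x⟩) L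
  obtain ⟨e2⟩ := nonempty_GP_empty ψ L
  exact ⟨e1 ≪≫ e2⟩

/-- **The upper shriek of a finite map is the right adjoint of restriction.** -/
theorem nonempty_GP_finite {R A : Type u} [CommRing R] [CommRing A] [Algebra R A] [Module.Finite R A] {n : ℕ}
    (ψ : MvPolynomial (Fin n) R →ₐ[R] A) (K : Dual.D R) :
    Nonempty (GP ψ K ≅ (RA (algebraMap R A)).obj K) := by
  obtain ⟨C, _, _, g, _, _, hg⟩ := exists_free_cover R A
  choose c hc using hg
  let v : Fin n → C := fun j => c (ψ (MvPolynomial.X j))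
  let χ : MvPolynomial (Fin n) R →ₐ[R] C := MvPolynomial.aeval v
  let s : MvPolynomial (Fin n) C →ₐ[C] C := MvPolynomial.aeval v
  letI : Algebra (MvPolynomial (Fin n) R) (MvPolynomial (Fin n) C) := (MvPolynomial.map (algebraMap R C)).toAlgebra
  haveI : PreservesFiniteLimits (bcMod (A := R) (MvPolynomial (Fin n) R)) := pfl_of_flat R
  haveI : PreservesFiniteLimits (bcMod (A := C) (MvPolynomial (Fin n) C)) := pfl_of_flat C
  have hp : ∃ e : C ⊗[R] MvPolynomial (Fin n) R ≃ₗ[C] MvPolynomial (Fin n) C,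
      ∀ (b : C) q, e (b ⊗ₜ[R] q) = algebraMap C (MvPolynomial (Fin n) C) b * algebraMap _ _ q :=
    ⟨(MvPolynomial.algebraTensorAlgEquiv (σ := Fin n) R C).toLinearEquiv, fun b q =>
      (MvPolynomial.algebraTensorAlgEquiv_tmul R C b q).trans (MvPolynomial.smul_eq_C_mul _ b)⟩
  let b := (Module.Free.chooseBasis R C).reindex (Fintype.equivFin _)
  let eC : Dual.inD R (Fin (Fintype.card (Module.Free.ChooseBasisIndex R C)) → R) ≅ Dual.inD R C :=
    (DerivedCategory.singleFunctor (ModuleCat.{u} R) 0).mapIso b.equivFun.symm.toModuleIso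
  have hi := isIso_baseChangeMap hp K
    (fun i => isBC_of_iso (MvPolynomial (Fin n) R) eC (Iso.refl _) (isBC_free _ _ _))
  let eJ := (asIso (baseChangeMap hp K)).symm
  obtain ⟨e0⟩ := nonempty_GP_self s ((RA (algebraMap R C)).obj K)
  have h1 : ψ.toRingHom = g.toRingHom.comp χ.toRingHom :=
    congrArg AlgHom.toRingHom (MvPolynomial.algHom_ext (f := ψ) (g := g.comp χ) fun j => by simp [χ, v, hc])
  have h2 : χ.toRingHom = s.toRingHom.comp (algebraMap (MvPolynomial (Fin n) R) (MvPolynomial (Fin n) C)) :=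
    MvPolynomial.ringHom_ext (fun r => by simp [χ, s, RingHom.algebraMap_toAlgebra])
      (fun j => by simp [χ, s, v, RingHom.algebraMap_toAlgebra])
  let M := (extD (algebraMap R (MvPolynomial (Fin n) R))).obj K
  obtain ⟨e3⟩ := nonempty_RA_shift g.toRingHom
    ((RA s.toRingHom).obj ((RA (algebraMap (MvPolynomial (Fin n) R) (MvPolynomial (Fin n) C))).obj M)) (n : ℤ)
  exact ⟨(shiftFunctor (Dual.D A) (n : ℤ)).mapIso (((raTrans _ _ _ h1).app M).symm ≪≫
      (RA g.toRingHom).mapIso ((raTrans _ _ _ h2).app M).symm) ≪≫ e3.symm ≪≫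
    (RA g.toRingHom).mapIso ((shiftFunctor (Dual.D C) (n : ℤ)).mapIso ((RA s.toRingHom).mapIso eJ) ≪≫ e0) ≪≫
    (raTrans (algebraMap R A) g.toRingHom (algebraMap R C) g.comp_algebraMap.symm).app K⟩

/-- The upper shriek in the prelude is the one computed here. -/
theorem nonempty_shriekVia {R A : Type u} [CommRing R] [CommRing A] [Algebra R A] {n : ℕ}
    (ψ : MvPolynomial (Fin n) R →ₐ[R] A) [DRing.HasLBaseChange (algebraMap R (MvPolynomial (Fin n) R))]
    (F : Dual.D (MvPolynomial (Fin n) R) ⥤ Dual.D A) (adjF : DRing.restrictD ψ.toRingHom ⊣ F) (K : Dual.D R) :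
    Nonempty (Dual2.shriekVia n F K ≅ GP ψ K) := by
  obtain ⟨e⟩ := nonempty_lBase_iso_bcD (A := R) (MvPolynomial (Fin n) R)
  exact ⟨(shiftFunctor (Dual.D A) (n : ℤ)).mapIso (F.mapIso (e.app K) ≪≫ (adjF.rightAdjointUniq (radj ψ.toRingHom)).app _)⟩

end GrothLib.DualRing.Shriek
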