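import Groth.Agent.Lib.DualRing.GorGlobal
import Groth.Agent.Lib.DualRing.LocalizedEH
import Groth.Agent.Lib.DualRing.ShriekTensor
import Groth.Agent.Lib.DualRing.ShriekFinite
import Groth.Agent.Lib.DualCx22.CoindDual
import Groth.Agent.Lib.FibPd.Criteria
import Groth.Agent.Lib.GorFlat.Rings

/-! # Normalization of the upper shriek of a normalized dualizing complex -/

set_option autoImplicit false
set_option linter.style.haveILetI false
set_option maxHeartbeats 800000
universe u

open CategoryTheory CategoryTheory.Limits IsLocalRing GrothLib.DualCx22 TensorProduct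

attribute [local instance] HasDerivedCategory.standard

namespace GrothLib.DualRing

/-- Residue fields along a flat local map with Gorenstein closed fibre of given dimension. -/
theorem subsingleton_residue_of_flat_gorenstein_dim {A : Type u} [CommRing A] [IsNoetherianRing A] (B : Type u)
    [CommRing B] [IsLocalRing B] [IsNoetherianRing B] [Algebra A B] [Module.Flat A B]
    [PreservesFiniteLimits (bcMod (A := A) B)] {ω : Dual.D A} (hω : Dual.IsDualizing A ω)
    (hG : LocCoh.IsGorensteinLocalRing (B ⧸ ((maximalIdeal B).comap (algebraMap A B)).map (algebraMap A B)))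
    (n : ℕ) (hn : ringKrullDim (B ⧸ ((maximalIdeal B).comap (algebraMap A B)).map (algebraMap A B)) = n)
    (i : ℤ) (hi : i ≠ deg hω ((maximalIdeal B).comap (algebraMap A B)) + n) :
    Subsingleton (EH ((bcD B).obj ω) (Dual.inD B (B ⧸ maximalIdeal B)) i) := by
  let p := (maximalIdeal B).comap (algebraMap A B)
  obtain ⟨a, b, hab⟩ := hω.finite_injective_dimension
  haveI : ω.IsGE a := isGE_of_hom_ring ω a fun i hi => hab A i (Or.inl hi)
  haveI := isGE_bcD B ω a
  have hp : ∀ s : A, s ∉ p → IsUnit (algebraMap A B s) := fun s hs => by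
    by_contra h
    exact hs (show algebraMap A B s ∈ maximalIdeal B from h)
  have hT : ∀ i, i ≠ deg hω p →
      Subsingleton (EH ((bcD B).obj ω) (Dual.inD B (B ⧸ p.map (algebraMap A B))) i) := fun i hi => by
    haveI : Subsingleton (B ⊗[A] EH ω (Dual.inD A (A ⧸ p)) i) := subsingleton_tensor_of_killed B fun y => by
      obtain ⟨s, hs, hsy⟩ := len_eq_zero_iff.1 (mu_ne_deg hω p hi) y
      exact ⟨s, hp s hs, hsy⟩
    exact (nonempty_equiv_quotient_bcD B ω a p i).some.toEquiv.subsingleton
  obtain ⟨e⟩ := nonempty_tensor_equiv B p hp (smul_EH_quotient (ω := ω) p (deg hω p)) (mu_deg hω p)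
  let e' : EH ((bcD B).obj ω) (Dual.inD B (B ⧸ p.map (algebraMap A B))) (deg hω p) ≃ₗ[B] B ⧸ p.map (algebraMap A B) :=
    (nonempty_equiv_quotient_bcD B ω a p (deg hω p)).some ≪≫ₗ e.symm ≪≫ₗ
      (Algebra.TensorProduct.quotIdealMapEquivTensorQuot B p).symm.toLinearEquiv
  haveI := hG
  exact subsingleton_residue_of_gorenstein _ a
    (fun M _ _ j hj => subsingleton_hom_of_isLE _ a (Dual.inD B M) 0 j (by omega)) n _ _
    (Ideal.map_le_iff_le_comap.2 le_rfl) hG hn hT ⟨e'⟩ i hi

attribute [local instance] MvPolynomial.algebraMvPolynomial in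
open FibPd in
/-- The residue fields of closed points of affine space over the closed point. -/
theorem subsingleton_residue_mvPolynomial {R : Type u} [CommRing R] [IsNoetherianRing R] [IsLocalRing R]
    {ω : Dual.D R} (hω : Dual.IsDualizing R ω) (hn : Dual.IsNormalized R ω) (n : ℕ)
    [PreservesFiniteLimits (bcMod (A := R) (Pol R n))] (M : Ideal (Pol R n)) [M.IsMaximal]
    (hM : M.comap (algebraMap R (Pol R n)) = maximalIdeal R) (i : ℤ) (hi : i ≠ (n : ℤ)) :
    Subsingleton (EH ((bcD (Pol R n)).obj ω) (Dual.inD (Pol R n) (Pol R n ⧸ M)) i) := by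
  let P := Pol R n
  let C := Localization.AtPrime M
  obtain ⟨a, b, hab⟩ := hω.finite_injective_dimension
  haveI : ω.IsGE a := isGE_of_hom_ring ω a fun i hi => hab R i (Or.inl hi)
  haveI := isGE_bcD P ω a
  haveI : Module.Flat P C := IsLocalization.flat C M.primeCompl
  haveI : Module.Flat R C := Module.Flat.trans R P C
  haveI : PreservesFiniteLimits (bcMod (A := P) C) :=
    GrothLib.DR.preservesFiniteLimits_extendScalars (algebraMap P C) GrothLib.DR.flat_algebraMap
  haveI : PreservesFiniteLimits (bcMod (A := R) C) :=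
    GrothLib.DR.preservesFiniteLimits_extendScalars (algebraMap R C) GrothLib.DR.flat_algebraMap
  have hp : (maximalIdeal C).comap (algebraMap R C) = M.comap (algebraMap R P) := by
    conv_rhs => rw [← IsLocalization.AtPrime.under_maximalIdeal C M]
    exact (congrArg (fun φ => (maximalIdeal C).comap φ) (IsScalarTower.algebraMap_eq R P C)).trans
      (Ideal.comap_comap _ _).symm
  let Q : PrimeSpectrum P := ⟨M, inferInstance⟩
  haveI hreg : IsRegularLocalRing (EGA4.FibLocRing R P M) := isRegularLocalRing_fibLocRing_pol Q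
  have hdim : ringKrullDim (EGA4.FibLocRing R P M) = n := by
    obtain ⟨t, D, ht, hD, hDt, -⟩ := fibre_data Q P
    have hcl : closure ({Q} : Set (PrimeSpectrum P)) = {Q} :=
      ((PrimeSpectrum.isClosed_singleton_iff_isMaximal Q).2 ‹M.IsMaximal›).closure_eq
    have ht0 : (t : WithBot ℕ∞) ≤ 0 := by
      rw [← ht, ptDimFib, hcl]
      haveI : Subsingleton ↥({Q} ∩ PrimeSpectrum.comap (algebraMap R P) ⁻¹' {PrimeSpectrum.comap (algebraMap R P) Q} : Set (PrimeSpectrum P)) :=
        ⟨fun x y => Subtype.ext (x.2.1.trans y.2.1.symm)⟩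
      exact topologicalKrullDim_zero_of_discreteTopology _
    have : t = 0 := by
      have h' : t ≤ 0 := by exact_mod_cast ht0
      omega
    rw [hD, show D = n by omega]
  have hGor : LocCoh.IsGorensteinLocalRing (EGA4.FibLocRing R P M) := by
    let k := (PrimeSpectrum.comap (algebraMap R P) Q).asIdeal.ResidueField
    obtain ⟨Q', hQ⟩ : ∃ Q' : PrimeSpectrum (Pol k n),
        Q'.asIdeal.comap (algebraMap P (Pol k n)) = Q.asIdeal := exists_point Q
    obtain ⟨e⟩ : Nonempty (EGA4.FibLocRing R P M ≃ₐ[P] Localization.AtPrime Q'.asIdeal) := nonempty_fibEquiv Q Q' hQ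
    haveI := (GorFlat.isGorensteinRing_mvPolynomial
      (GorFlat.isGorensteinRing_of_isRegularRing k) n).isGorensteinLocalRing_localization Q'.asIdeal
    exact (GorFlat.gorenstein_congr (R := Localization.AtPrime Q'.asIdeal) (S := EGA4.FibLocRing R P M) e.symm.toRingEquiv).1 inferInstance
  haveI h2 : Subsingleton (EH ((bcD C).obj ω) (Dual.inD C (C ⧸ maximalIdeal C)) i) := by
    refine subsingleton_residue_of_flat_gorenstein_dim C hω ?_ n ?_ i ?_
    · rw [hp]; exact hGor
    · rw [hp]; exact hdim
    · have hd : ∀ (J : Ideal R) [J.IsPrime], J = maximalIdeal R → deg hω J = 0 := fun J _ hJ => by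
        subst hJ
        exact deg_maximal hω hn
      rw [hd _ (hp.trans hM), zero_add]
      exact hi
  obtain ⟨ec⟩ := nonempty_bcD_comp P C ω
  have hmap : M.map (algebraMap P C) = maximalIdeal C := Localization.AtPrime.map_eq_maximalIdeal
  obtain ⟨E⟩ := nonempty_equiv_quotient_bcD C ((bcD P).obj ω) a M i
  haveI h3 : Subsingleton (EH ((bcD C).obj ((bcD P).obj ω)) (Dual.inD C (C ⧸ M.map (algebraMap P C))) i) := by
    rw [hmap]
    exact ((Iso.refl (Dual.inD C (C ⧸ maximalIdeal C))).homCongr ((shiftFunctor (Dual.D C) i).mapIso ec)).subsingleton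
  have h4 : Subsingleton (C ⊗[P] EH ((bcD P).obj ω) (Dual.inD P (P ⧸ M)) i) := E.symm.toEquiv.subsingleton
  refine subsingleton_of_forall_eq 0 fun φ => ?_
  obtain ⟨s, hs, hsφ⟩ := (subsingleton_tensor_localization_iff M.primeCompl C _).1 h4 φ
  obtain ⟨r, j, hj, hr⟩ := Ideal.IsMaximal.exists_inv ‹M.IsMaximal› hs
  calc φ = (r * s + j) • φ := by rw [hr, one_smul]
    _ = 0 := by rw [add_smul, mul_smul, hsφ, smul_zero, smul_EH_quotient M i j hj φ, add_zero]

end GrothLib.DualRing
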