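import Groth.Agent.Lib.DualRing.RelFibreDim
import Groth.Agent.Lib.DualRing.LocalizedEH
import Groth.Agent.Lib.DualRing.ShriekTensor

/-! # Low degree vanishing of the duals along a closed subscheme with small fibres -/

set_option autoImplicit false
set_option linter.style.haveILetI false
set_option maxHeartbeats 800000
universe u

open CategoryTheory CategoryTheory.Limits TensorProduct GrothLib.DualCx22

attribute [local instance] HasDerivedCategory.standard

namespace GrothLib.DualRing.FibreDim

open GrothLib.FibPd IsLocalRing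

variable {R A : Type u} [CommRing R] [IsNoetherianRing R] [CommRing A] [Algebra R A] {n : ℕ}
  (ψ : MvPolynomial (Fin n) R →ₐ[R] A) (hψ : Function.Surjective ψ)

include hψ in
/-- The depth of affine space at a point of a closed subscheme with small fibres. -/
theorem le_depth (q : PrimeSpectrum A) {d : ℕ}
    (hd : FlatMor.fibreDimAt (AlgebraicGeometry.Spec.map (CommRingCat.ofHom (algebraMap R A))) q ≤ (d : WithBot ℕ∞)) :
    ((n - d : ℕ) : ℕ∞) ≤ LocCoh.depth (Localization.AtPrime (PrimeSpectrum.comap ψ.toRingHom q).asIdeal)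
      (LocalizedModule (PrimeSpectrum.comap ψ.toRingHom q).asIdeal.primeCompl (Pol R n)) := by
  let Q := PrimeSpectrum.comap ψ.toRingHom q
  obtain ⟨D, hD, hn⟩ := exists_fibre_dims ψ hψ q hd
  let G := EGA4.FibLocRing R (Pol R n) Q.asIdeal
  haveI : IsRegularLocalRing G := isRegularLocalRing_fibLocRing_pol Q
  haveI : LocCoh.IsCohenMacaulayLocalRing G := by
    obtain ⟨rs, h1, h2, h3⟩ := GrothLib.CMFree.exists_weaklyRegular_of_isRegularLocalRing G
    exact GrothLib.CMFree.isCohenMacaulayLocalRing_of_weaklyRegular G rs h1 h2 h3.ge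
  have hdep : ((n - d : ℕ) : ℕ∞) ≤ LocCoh.idealDepth (maximalIdeal G) G := by
    have h1 := LocCoh.IsCohenMacaulayLocalRing.supportDim_eq_depth (R := G)
    rw [Module.supportDim_self_eq_ringKrullDim, hD] at h1
    have h2 : ((D : ℕ∞) : ℕ∞) = LocCoh.depth G G := WithBot.coe_injective h1
    show _ ≤ LocCoh.depth G G
    rw [← h2]
    exact_mod_cast (show n - d ≤ D by omega)
  refine GrothLib.FlatOff.le_depth_of_fibLoc (A := R) Q.asIdeal (Pol R n) _
    (GrothLib.FlatOff.fibLocMod_ring_depth Q.asIdeal _ (le_of_le_of_eq hdep ?_))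
  congr 1
  have hmk : (Ideal.comap (Ideal.Quotient.mk ((Q.asIdeal.comap (algebraMap R (Pol R n))).map
      (algebraMap R (Localization.AtPrime Q.asIdeal)))) (maximalIdeal G)) = maximalIdeal (Localization.AtPrime Q.asIdeal) :=
    IsLocalRing.eq_maximalIdeal (Ideal.comap_isMaximal_of_surjective _ Ideal.Quotient.mk_surjective)
  rw [IsScalarTower.algebraMap_eq (Pol R n) (Localization.AtPrime Q.asIdeal) G, ← Ideal.map_map,
    Localization.AtPrime.map_eq_maximalIdeal, ← hmk]
  exact (Ideal.map_comap_of_surjective _ Ideal.Quotient.mk_surjective _).symm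

/-- Depth along the annihilator kills the low duals. -/
theorem subsingleton_hom_of_le_idealDepth (S : Type u) [CommRing S] [IsNoetherianRing S] (N : Type u) [AddCommGroup N]
    [Module S N] [Module.Finite S N] (k j : ℕ)
    (h : (k : ℕ∞) ≤ LocCoh.idealDepth (Module.annihilator S N) S) (hj : j < k) :
    Subsingleton (Dual.inD S N ⟶ (Dual.inD S S)⟦(j : ℤ)⟧) := by
  have hE : Subsingleton (Abelian.Ext (ModuleCat.of S N) (ModuleCat.of S S) j) :=
    GrothLib.DepthExt20.subsingleton_ext_of_le_idealDepth (M := S) N h j hj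
  exact (Abelian.Ext.homEquiv (X := ModuleCat.of S N) (Y := ModuleCat.of S S) (n := j)).symm.subsingleton

include hψ in
/-- Depth of a localisation of affine space along the closed subscheme. -/
theorem le_idealDepth_annihilator (Q : Ideal (Pol R n)) [Q.IsPrime] (q : PrimeSpectrum A)
    (hQ : Q = (PrimeSpectrum.comap ψ.toRingHom q).asIdeal) (k : ℕ)
    (hdep : ∀ q' : PrimeSpectrum A, q'.asIdeal ≤ q.asIdeal → (k : ℕ∞) ≤
      LocCoh.depth (Localization.AtPrime (PrimeSpectrum.comap ψ.toRingHom q').asIdeal)
        (LocalizedModule (PrimeSpectrum.comap ψ.toRingHom q').asIdeal.primeCompl (Pol R n))) :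
    letI := ψ.toRingHom.toAlgebra
    (k : ℕ∞) ≤ LocCoh.idealDepth
      (Module.annihilator (Localization.AtPrime Q) (Localization.AtPrime Q ⊗[Pol R n] A)) (Localization.AtPrime Q) := by
  letI : Algebra (Pol R n) A := ψ.toRingHom.toAlgebra
  haveI : Module.Finite (Pol R n) A := Module.Finite.of_surjective (Algebra.linearMap (Pol R n) A) hψ
  let P := Pol R n
  let S := Localization.AtPrime Q
  haveI : IsNoetherianRing S := GrothLib.Depth.isNoetherian_atPrime Q
  let N := S ⊗[P] A
  refine GrothLib.DepthExt20.le_idealDepth_of_forall_depth _ fun p hp => ?_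
  have hpN : p ∈ Module.support S N := by
    rw [Module.support_eq_zeroLocus]
    exact hp
  rw [mem_support_baseChange_iff, Module.support_eq_zeroLocus] at hpN
  obtain ⟨q', hq'⟩ : PrimeSpectrum.comap (algebraMap P S) p ∈ Set.range (PrimeSpectrum.comap ψ.toRingHom) := by
    rw [range_comap_of_surjective _ _ hψ]
    refine fun x hx => hpN ?_
    rw [SetLike.mem_coe, Module.mem_annihilator]
    intro a
    show ψ.toRingHom x * a = 0
    rw [show ψ.toRingHom x = 0 from hx, zero_mul]
  have hle : q'.asIdeal ≤ q.asIdeal := by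
    intro a ha
    obtain ⟨x, rfl⟩ := hψ a
    by_contra hx
    have hxQ : x ∈ Q.primeCompl := fun h => hx (hQ.le h)
    have h2 : algebraMap P S x ∈ p.asIdeal := by
      have h3 : x ∈ (PrimeSpectrum.comap (algebraMap P S) p).asIdeal := by
        rw [← hq']
        exact ha
      exact h3
    exact p.isPrime.ne_top (Ideal.eq_top_of_isUnit_mem _ h2 (IsLocalization.map_units S (⟨x, hxQ⟩ : Q.primeCompl)))
  refine (hdep q' hle).trans (le_of_eq ?_)
  rw [hq']
  let T := Localization.AtPrime p.asIdeal
  haveI : IsLocalization.AtPrime T (PrimeSpectrum.comap (algebraMap P S) p).asIdeal :=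
    IsLocalization.isLocalization_isLocalization_atPrime_isLocalization Q.primeCompl T p.asIdeal
  refine (GrothLib.DepthExt20.depth_eq_of_isLocalization _ T T (Algebra.linearMap P T)).trans ?_
  exact (GrothLib.Depth.idealDepth_eq_of_equiv _
    ((LocalizedModule.equivTensorProduct p.asIdeal.primeCompl S).trans
      (TensorProduct.AlgebraTensorModule.rid S T T))).symm

include hψ in
/-- The duals of the closed subscheme vanish below the depth along it. -/
theorem subsingleton_localized_EH_of_depth (q : PrimeSpectrum A) (k : ℕ)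
    (hdep : ∀ q' : PrimeSpectrum A, q'.asIdeal ≤ q.asIdeal → (k : ℕ∞) ≤
      LocCoh.depth (Localization.AtPrime (PrimeSpectrum.comap ψ.toRingHom q').asIdeal)
        (LocalizedModule (PrimeSpectrum.comap ψ.toRingHom q').asIdeal.primeCompl (Pol R n)))
    (i : ℤ) (hi : i < (k : ℤ)) :
    letI := ψ.toRingHom.toAlgebra
    Subsingleton (Localization.AtPrime (PrimeSpectrum.comap ψ.toRingHom q).asIdeal ⊗[Pol R n]
      EH (Dual.inD (Pol R n) (Pol R n)) (Dual.inD (Pol R n) A) i) := by
  letI : Algebra (Pol R n) A := ψ.toRingHom.toAlgebra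
  haveI : Module.Finite (Pol R n) A := Module.Finite.of_surjective (Algebra.linearMap (Pol R n) A) hψ
  let P := Pol R n
  let Q := (PrimeSpectrum.comap ψ.toRingHom q).asIdeal
  let S := Localization.AtPrime Q
  haveI : IsNoetherianRing S := GrothLib.Depth.isNoetherian_atPrime Q
  haveI : Module.Flat P S := IsLocalization.flat S Q.primeCompl
  haveI := GrothLib.DR.preservesFiniteLimits_extendScalars (algebraMap P S) GrothLib.DR.flat_algebraMap
  haveI : (Dual.inD P P).IsGE 0 := inferInstance
  obtain ⟨eA⟩ := nonempty_bcD_inD (A := P) S A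
  obtain ⟨eP⟩ := Shriek.nonempty_bcD_self (R := P) (P := S)
  let N := S ⊗[P] A
  suffices h : Subsingleton (Dual.inD S N ⟶ (Dual.inD S S)⟦i⟧) by
    haveI := h
    exact ((θEquiv S (isBC_inD S (Dual.inD P P) 0 (i + 1).toNat A i (by omega))) ≪≫ₗ
      Linear.homCongr S eA (shiftBc S (Dual.inD P P) i ≪≫ (shiftFunctor (Dual.D S) i).mapIso eP)).toEquiv.subsingleton
  rcases lt_or_ge i 0 with h0 | h0
  · exact subsingleton_hom_of_isLE _ 0 (Dual.inD S N) 0 i (by omega)
  obtain ⟨j, rfl⟩ := Int.eq_ofNat_of_zero_le h0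
  exact subsingleton_hom_of_le_idealDepth S N k j (le_idealDepth_annihilator ψ hψ Q q rfl k hdep) (by omega)

include hψ in
/-- The duals of the closed subscheme vanish below the codimension in the fibres. -/
theorem subsingleton_localized_EH_low [Algebra.FiniteType R A] (q : PrimeSpectrum A) {d : ℕ}
    (hd : FlatMor.fibreDimAt (AlgebraicGeometry.Spec.map (CommRingCat.ofHom (algebraMap R A))) q ≤ (d : WithBot ℕ∞))
    (i : ℤ) (hi : i < (n : ℤ) - d) :
    letI := ψ.toRingHom.toAlgebra
    Subsingleton (Localization.AtPrime (PrimeSpectrum.comap ψ.toRingHom q).asIdeal ⊗[Pol R n]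
      EH (Dual.inD (Pol R n) (Pol R n)) (Dual.inD (Pol R n) A) i) := by
  rcases le_or_gt d n with hdn | hdn
  · exact subsingleton_localized_EH_of_depth ψ hψ q (n - d)
      (fun q' hle => le_depth ψ hψ q' (fibreDimAt_le_of_le hle hd)) i (by omega)
  · exact subsingleton_localized_EH_of_depth ψ hψ q 0 (fun q' _ => by simp) i (by omega)

end GrothLib.DualRing.FibreDim
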