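import Groth.Agent.Lib.RHomInj22.AffineDuality
import Groth.Agent.Lib.RelAmp22.Stalk
import Groth.Agent.Lib.DualCx22.Cover
import Groth.Agent.Lib.DualCx22.EssFT
import Groth.Agent.Lib.HomRestrict20.Basic
import Groth.Agent.Lib.DCxRing.FromSingle
import Groth.Prelude.Def_DualSch

/-! # Dualizing complexes on schemes from stalks -/

set_option autoImplicit false
set_option linter.style.haveILetI false
set_option maxHeartbeats 1000000
universe u

open CategoryTheory CategoryTheory.Limits AlgebraicGeometry HomologicalComplex GrothLib.OX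

attribute [local instance] HasDerivedCategory.standard

namespace GrothLib.DualRing

/-- Being dualizing transports along an isomorphism of rings, from a restricted complex. -/
theorem isDualizing_of_bijective_restrict {A B : Type u} [CommRing A] [CommRing B] [Algebra A B]
    (hb : Function.Bijective (algebraMap A B)) (Z : DRing.Cx B)
    (h : Dual.IsDualizing A (DRing.toD
      (((ModuleCat.restrictScalars (algebraMap A B)).mapHomologicalComplex (ComplexShape.up ℤ)).obj Z))) :
    Dual.IsDualizing B (DRing.toD Z) := by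
  haveI : IsLocalization (⊥ : Submonoid A) A := IsLocalization.self (fun x hx => by
    rw [Submonoid.mem_bot] at hx
    exact hx ▸ isUnit_one)
  haveI : IsLocalization (⊥ : Submonoid A) B :=
    IsLocalization.isLocalization_of_algEquiv (⊥ : Submonoid A) (AlgEquiv.ofBijective (Algebra.ofId A B) hb)
  haveI : Module.Flat A B := IsLocalization.flat B (⊥ : Submonoid A)
  haveI := DR.preservesFiniteLimits_extendScalars (algebraMap A B) DR.flat_algebraMap
  haveI : (ModuleCat.restrictScalars.{u} (algebraMap A B)).IsEquivalence :=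
    (ModuleCat.restrictScalarsEquivalenceOfRingEquiv (RingEquiv.ofBijective _ hb)).isEquivalence_functor
  let adj := ModuleCat.extendRestrictScalarsAdj.{u, u, u} (algebraMap A B)
  let W := ((ModuleCat.restrictScalars (algebraMap A B)).mapHomologicalComplex (ComplexShape.up ℤ)).obj Z
  let e : ((DualCx22.bcMod (A := A) B).mapHomologicalComplex (ComplexShape.up ℤ)).obj W ≅ Z :=
    HomologicalComplex.Hom.isoOfComponents (fun i => (@asIso _ _ _ _ adj.counit (adj.counit_isIso_of_R_fully_faithful)).app (Z.X i))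
      (fun i k _ => (adj.counit.naturality (Z.d i k)).symm)
  exact DualCx22.isDualizing_of_iso
    (((DualCx22.bcMod (A := A) B).mapDerivedCategoryFactors.app W) ≪≫ DerivedCategory.Q.mapIso e)
    (DualCx22.isDualizing_bcD_localization (⊥ : Submonoid A) B h)

variable {R : CommRingCat.{u}}

/-- A K-injective complex with quasi-coherent cohomology comes from its sections. -/
theorem nonempty_tildeD_sections [PreservesFiniteLimits (tilde.functor R)]
    (J : CochainComplex (Spec R).Modules ℤ) [J.IsKInjective] (hJ : DCoh.IsQCohD (DerivedCategory.Q.obj J)) :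
    Nonempty ((DCoh.tildeD R).obj (DerivedCategory.Q.obj
      (((moduleSpecΓFunctor (R := R)).mapHomologicalComplex (ComplexShape.up ℤ)).obj J)) ≅ DerivedCategory.Q.obj J) := by
  let adj := KInj.derivedAdj (tilde.adjunction (R := R))
  haveI := (tildeD_full_faithful_essImage (R := R)).1
  haveI := (tildeD_full_faithful_essImage (R := R)).2.1
  obtain ⟨N, ⟨eN⟩⟩ := (tildeD_full_faithful_essImage (R := R)).2.2 _ hJ
  let eN' := asIso (adj.unit.app N) ≪≫
    (KInj.res _ ⋙ (moduleSpecΓFunctor (R := R)).mapHomotopyCategory (ComplexShape.up ℤ) ⋙ DerivedCategory.Qh).mapIso eN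
  let q' := HomotopyCategory.quotient (Spec R).Modules (ComplexShape.up ℤ)
  haveI : IsIso ((KInj.resAdj (Spec R).Modules).unit.app (q'.obj J)) :=
    KInj.isIso_unit_of_rightOrthogonal (CochainComplex.IsKInjective.rightOrthogonal J)
  let Γh := (moduleSpecΓFunctor (R := R)).mapHomotopyCategory (ComplexShape.up ℤ)
  let eR : DerivedCategory.Qh.obj (Γh.obj ((KInj.res _).obj (DerivedCategory.Q.obj J))) ≅
      DerivedCategory.Q.obj (((moduleSpecΓFunctor (R := R)).mapHomologicalComplex (ComplexShape.up ℤ)).obj J) :=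
    DerivedCategory.Qh.mapIso (Γh.mapIso
      ((KInj.res _).mapIso ((DerivedCategory.quotientCompQhIso _).app J).symm ≪≫
        (asIso ((KInj.resAdj (Spec R).Modules).unit.app (q'.obj J))).symm) ≪≫
      ((moduleSpecΓFunctor (R := R)).mapHomotopyCategoryFactors (ComplexShape.up ℤ)).app J) ≪≫
    (DerivedCategory.quotientCompQhIso _).app _
  exact ⟨(DCoh.tildeD R).mapIso (eN' ≪≫ eR).symm ≪≫ eN⟩

/-- The stalk of `X` seen over itself. -/
theorem nonempty_stalkCxOver_id {X : Scheme.{u}} {W : Scheme.{u}} (j : W ⟶ X) [IsOpenImmersion j] (y : W)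
    (F : CochainComplex X.Modules ℤ) :
    Nonempty (DRing.toD ((DerSch.stalkCxOver (𝟙 X) (j y)).obj F) ≅
      DRing.toD ((RelAmp22.relStalkCx (j ≫ 𝟙 X) y).obj ((resCx j).obj F))) := by
  obtain ⟨e⟩ := RelAmp22.nonempty_relStalkResCx (𝟙 X) j y F
  let s : DerSch.stalkOver (𝟙 X) (j y) ≅ RelAmp22.relStalk (𝟙 X) (j y) :=
    Functor.isoWhiskerRight (KSix19.stalkFunctorIso (j y)) _
  let c : (DerSch.stalkCxOver (𝟙 X) (j y)).obj F ≅ (RelAmp22.relStalkCx (𝟙 X) (j y)).obj F :=
    HomologicalComplex.Hom.isoOfComponents (fun i => s.app (F.X i)) (fun i k _ => (s.hom.naturality (F.d i k)).symm)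
  exact ⟨DerivedCategory.Q.mapIso c ≪≫ e.symm⟩

variable [IsNoetherianRing R] [PreservesFiniteLimits (tilde.functor R)]

/-- Bounded injectives with coherent cohomology and dualizing stalks come from a dualizing complex. -/
theorem exists_dualizing_of_stalks (J : CochainComplex (Spec R).Modules ℤ) {a b : ℤ} (hJ : RHomInj22.BddInj J a b)
    (hcoh : DCoh.IsCohD (DerivedCategory.Q.obj J))
    (hst : ∀ y : Spec R, Dual.IsDualizing ((Spec R).presheaf.stalk y)
      (DRing.toD (((stalk y).mapHomologicalComplex (ComplexShape.up ℤ)).obj J))) :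
    ∃ ω : Dual.D R, Dual.IsDualizing R ω ∧ Nonempty ((DCoh.tildeD R).obj ω ≅ DerivedCategory.Q.obj J) := by
  haveI := hJ.isKInjective
  let w := ((moduleSpecΓFunctor (R := R)).mapHomologicalComplex (ComplexShape.up ℤ)).obj J
  obtain ⟨e⟩ := nonempty_tildeD_sections J fun i => (hcoh i).1
  refine ⟨DerivedCategory.Q.obj w, ?_, ⟨e⟩⟩
  have hwv : DRing.VanishesOutside w a b := fun i hi => (moduleSpecΓFunctor (R := R)).map_isZero (hJ.zero i hi)
  have hwi : DRing.TermwiseInjective w := fun i => by
    have h : Injective ((moduleSpecΓFunctor (R := R)).obj (J.X i)) :=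
      (tilde.adjunction (R := R)).map_injective _ (hJ.injective i)
    exact Module.injective_module_of_injective_object R ((moduleSpecΓFunctor (R := R)).obj (J.X i)) (inj := h)
  have hamp : DRing.HasInjAmplitudeIn R a b (DRing.toD w) := ⟨w, hwv, hwi, ⟨Iso.refl _⟩⟩
  have hinj : ∀ (M : Type u) [AddCommGroup M] [Module R M] (i : ℤ),
      (i < a ∨ b < i) → Subsingleton (Dual.inD R M ⟶ (DRing.toD w)⟦i⟧) := fun M _ _ i hi =>
    GrothLib.DR.subsingleton_ext_of_injAmp hamp M i hi
  haveI : (DRing.toD w).IsGE a := DualCx22.isGE_of_hom_ring _ a fun i hi => hinj R i (Or.inl hi)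
  haveI : (DRing.toD w).IsLE b := DualCx22.isLE_of_hom_ring _ b fun i hi => hinj R i (Or.inr hi)
  have hfin : ∀ q, Module.Finite R (Dual.HD R (DRing.toD w) q) := fun q =>
    (isCoh_tilde_iff (R := R) _).1 (QCoh.isCoh_of_iso ((DerivedCategory.homologyFunctor _ q).mapIso e.symm ≪≫
      HDTildeIso (R := R) (DRing.toD w) q) (hcoh q))
  letI : ∀ y : Spec R, Algebra R ((Spec R).presheaf.stalk y) := fun y => (specToStalk R y).toAlgebra
  haveI hloc : ∀ y : Spec R, IsLocalization (PrimeSpectrum.asIdeal y).primeCompl ((Spec R).presheaf.stalk y) := fun y =>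
    inferInstanceAs (IsLocalization.AtPrime ((Spec.structureSheaf R).presheaf.stalk y) (PrimeSpectrum.asIdeal y))
  haveI : ∀ y : Spec R, Module.Flat R ((Spec R).presheaf.stalk y) := fun y =>
    IsLocalization.flat _ (PrimeSpectrum.asIdeal y).primeCompl
  haveI : ∀ y : Spec R, PreservesFiniteLimits (DualCx22.bcMod (A := R) ((Spec R).presheaf.stalk y)) := fun y =>
    DR.preservesFiniteLimits_extendScalars (algebraMap R ((Spec R).presheaf.stalk y)) DR.flat_algebraMap
  have hS : ∀ I : Ideal R, (∀ y : Spec R, ∃ s ∈ (PrimeSpectrum.asIdeal y).primeCompl, s ∈ I) → I = ⊤ := by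
    intro I hI
    by_contra hne
    obtain ⟨m, hm, hle⟩ := Ideal.exists_le_maximal I hne
    obtain ⟨s, hs, hsI⟩ := hI (⟨m, hm.isPrime⟩ : PrimeSpectrum R)
    exact hs (hle hsI)
  refine DualCx22.isDualizing_of_family (fun y : Spec R => ((Spec R).presheaf.stalk y : Type u))
    (DualCx22.detectsZero_localization (fun y : Spec R => (PrimeSpectrum.asIdeal y).primeCompl) hS _)
    (DualCx22.detectsZero_localization (fun y : Spec R => (PrimeSpectrum.asIdeal y).primeCompl) hS _)
    a b hfin ⟨a, b, hinj⟩ fun y => ?_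
  refine DualCx22.isDualizing_of_iso ?_ (hst y)
  let bc := DualCx22.bcMod (A := R) ((Spec R).presheaf.stalk y)
  let T := tilde.functor R
  refine ((stalk y).mapDerivedCategoryFactors.app J).symm ≪≫
    (stalk y).mapDerivedCategory.mapIso (e.symm ≪≫ T.mapDerivedCategoryFactors.app w) ≪≫
    (stalk y).mapDerivedCategoryFactors.app _ ≪≫ DerivedCategory.Q.mapIso ?_ ≪≫
    (bc.mapDerivedCategoryFactors.app w).symm
  exact HomologicalComplex.Hom.isoOfComponents (fun i => (tildeStalkIso R y).app (w.X i))
    (fun i k _ => ((tildeStalkIso R y).hom.naturality (w.d i k)).symm)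

omit [IsNoetherianRing R] in
/-- A dualizing complex on a scheme from dualizing stalks. -/
theorem isDualizingSch_of_stalks {X : Scheme.{u}} [IsLocallyNoetherian X]
    [∀ (U : Scheme.{u}) (j : U ⟶ X) [IsOpenImmersion j], PreservesFiniteLimits (Scheme.Modules.restrictFunctor j)]
    [∀ (R : CommRingCat.{u}), PreservesFiniteLimits (tilde.functor R)] (I : CochainComplex X.Modules ℤ) {a b : ℤ}
    (hI : RHomInj22.BddInj I a b) (hcoh : DCoh.IsCohD (DerivedCategory.Q.obj I))
    (hst : ∀ x : X, Dual.IsDualizing (X.presheaf.stalk ((𝟙 X : X ⟶ X).base x))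
      (DRing.toD ((DerSch.stalkCxOver (𝟙 X) x).obj I))) :
    Dual2.IsDualizingSch X (DerivedCategory.Q.obj I) := by
  intro A _ j _
  haveI : IsLocallyNoetherian (Spec (CommRingCat.of A)) := LocallyOfFiniteType.isLocallyNoetherian j
  haveI : IsNoetherianRing (CommRingCat.of A) := (isLocallyNoetherian_Spec (R := CommRingCat.of A)).1 inferInstance
  let J := (resCx j).obj I
  have hJ : RHomInj22.BddInj J a b :=
    ⟨fun i => HomRestrict20.injective_restrictFunctor j _ (hI.injective i),
      fun i hi => (Scheme.Modules.restrictFunctor j).map_isZero (hI.zero i hi)⟩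
  let eJ : (resD j).obj (DerivedCategory.Q.obj I) ≅ DerivedCategory.Q.obj J := (resDFac j).app I
  have hJc : DCoh.IsCohD (DerivedCategory.Q.obj J) := fun i => QCoh.isCoh_of_iso
    ((HDResIso j (DerivedCategory.Q.obj I) i).symm ≪≫ (DerivedCategory.homologyFunctor _ i).mapIso eJ)
    (Cohom.isCoh_restrict _ (hcoh i) j)
  obtain ⟨ω, hω, ⟨e⟩⟩ := exists_dualizing_of_stalks (R := CommRingCat.of A) J hJ hJc fun y => by
    obtain ⟨c⟩ := nonempty_stalkCxOver_id j y I
    letI : Algebra (X.presheaf.stalk ((𝟙 X : X ⟶ X).base (j y))) ((Spec (CommRingCat.of A)).presheaf.stalk y) :=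
      ((j ≫ 𝟙 X).stalkMap y).hom.toAlgebra
    haveI : IsOpenImmersion (j ≫ 𝟙 X) := inferInstance
    exact isDualizing_of_bijective_restrict
      (A := X.presheaf.stalk ((𝟙 X : X ⟶ X).base (j y)))
      (ConcreteCategory.bijective_of_isIso ((j ≫ 𝟙 X).stalkMap y)) _
      (DualCx22.isDualizing_of_iso (c ≪≫ DerivedCategory.Q.mapIso (HomologicalComplex.Hom.isoOfComponents
        (fun i => Iso.refl _) (fun i k _ => by simp; rfl))) (hst (j y)))
  exact ⟨ω, hω, ⟨eJ ≪≫ e.symm⟩⟩

end GrothLib.DualRing
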