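import Groth.Agent.Lib.DualRing.Local
import Groth.Agent.Lib.DualCx22.CoindDual

/-! # Morphisms from modules over a self-injective quotient -/

set_option autoImplicit false
set_option linter.style.haveILetI false
universe u

open CategoryTheory CategoryTheory.Limits Pretriangulated

attribute [local instance] HasDerivedCategory.standard

namespace GrothLib.DualRing

variable {B : Type u} [CommRing B] (L : Dual.D B) (J : Ideal B)

/-- The morphism of a linear map. -/
noncomputable def sM {M N : Type u} [AddCommGroup M] [Module B M] [AddCommGroup N] [Module B N] (f : M →ₗ[B] N) :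
    Dual.inD B M ⟶ Dual.inD B N :=
  (DerivedCategory.singleFunctor (ModuleCat.{u} B) 0).map (ModuleCat.ofHom f)

theorem sM_comp {M N P : Type u} [AddCommGroup M] [Module B M] [AddCommGroup N] [Module B N] [AddCommGroup P]
    [Module B P] (f : M →ₗ[B] N) (g : N →ₗ[B] P) : sM (g ∘ₗ f) = sM f ≫ sM g := by
  rw [sM, sM, sM, ← Functor.map_comp]
  rfl

theorem sM_add {M N : Type u} [AddCommGroup M] [Module B M] [AddCommGroup N] [Module B N] (f g : M →ₗ[B] N) :
    sM (f + g) = sM f + sM g := by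
  rw [sM, sM, sM, ← Functor.map_add]
  rfl

theorem sM_smul {M N : Type u} [AddCommGroup M] [Module B M] [AddCommGroup N] [Module B N] (b : B) (f : M →ₗ[B] N) :
    sM (b • f) = b • sM f := by
  rw [sM, sM, ← Functor.map_smul]
  rfl

theorem sM_sum {M N : Type u} [AddCommGroup M] [Module B M] [AddCommGroup N] [Module B N] {ι : Type} (s : Finset ι)
    (f : ι → (M →ₗ[B] N)) : sM (∑ j ∈ s, f j) = ∑ j ∈ s, sM (f j) := by
  classical
  induction s using Finset.induction_on with
  | empty =>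
    rw [Finset.sum_empty, Finset.sum_empty, sM, show ModuleCat.ofHom (0 : M →ₗ[B] N) = 0 from rfl, Functor.map_zero]
  | insert j s hj ih => rw [Finset.sum_insert hj, Finset.sum_insert hj, sM_add, ih]

/-- The triangle of a short exact sequence with named maps. -/
theorem exists_δ {M N P : Type u} [AddCommGroup M] [Module B M] [AddCommGroup N] [Module B N] [AddCommGroup P]
    [Module B P] {f : M →ₗ[B] N} {g : N →ₗ[B] P} (hf : Function.Injective f) (hg : Function.Surjective g)
    (hfg : Function.Exact f g) :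
    ∃ δ : Dual.inD B P ⟶ (Dual.inD B M)⟦(1 : ℤ)⟧, Triangle.mk (sM f) (sM g) δ ∈ distTriang (Dual.D B) := by
  let S : ShortComplex (ModuleCat.{u} B) := ShortComplex.mk (ModuleCat.ofHom f) (ModuleCat.ofHom g)
    (ModuleCat.hom_ext (LinearMap.ext fun y => hfg.apply_apply_eq_zero y))
  have hS : S.ShortExact :=
    { exact := (ShortComplex.ShortExact.moduleCat_exact_iff_function_exact S).2 hfg
      mono_f := (ModuleCat.mono_iff_injective _).2 hf
      epi_g := (ModuleCat.epi_iff_surjective _).2 hg }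
  exact ⟨hS.singleδ, hS.singleTriangle_distinguished⟩

theorem shiftLeft_symm_comp {X X' : Dual.D B} (v : X' ⟶ X) (n i j : ℤ) (h : j + n = i) (χ : EH L X j) :
    (shiftLeft L X' n i j h).symm (v ≫ χ) = v⟦n⟧' ≫ (shiftLeft L X n i j h).symm χ := by
  simp [shiftLeft, Linear.homCongr_apply]

theorem subsingleton_free (i : ℤ) (h : Subsingleton (EH L (Dual.inD B (B ⧸ J)) i)) (n : ℕ) :
    Subsingleton (EH L (Dual.inD B (Fin n → B ⧸ J)) i) :=
  DualCx22.subsingleton_hom_pi (B ⧸ J) _ h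

theorem killed_pi (n : ℕ) : ∀ b ∈ J, ∀ x : Fin n → B ⧸ J, b • x = 0 := fun b hb x => funext fun j => by
  show b • x j = 0
  obtain ⟨y, hy⟩ := Ideal.Quotient.mk_surjective (x j)
  rw [← hy]
  exact Ideal.Quotient.eq_zero_iff_mem.2 (J.mul_mem_right y hb)

/-- The map `B/J → M` sending one to `x`. -/
noncomputable def toQ {M : Type u} [AddCommGroup M] [Module B M] (h : ∀ b ∈ J, ∀ x : M, b • x = 0) :
    M →ₗ[B] ((B ⧸ J) →ₗ[B] M) where
  toFun x := Submodule.liftQ J (LinearMap.toSpanSingleton B M x) fun a ha => h a ha x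
  map_add' x y := Submodule.linearMap_qext _ (LinearMap.ext_ring (smul_add (1 : B) x y))
  map_smul' b x := Submodule.linearMap_qext _ (LinearMap.ext_ring (smul_comm (1 : B) b x))

theorem toQ_mk {M : Type u} [AddCommGroup M] [Module B M] (h : ∀ b ∈ J, ∀ x : M, b • x = 0) (x : M) (a : B) :
    toQ J h x (Submodule.Quotient.mk a) = a • x := rfl

/-- A presentation of a module killed by `J`. -/
theorem exists_presentation [IsNoetherianRing B] (N : Type u) [AddCommGroup N] [Module B N] [Module.Finite B N]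
    (hN : ∀ b ∈ J, ∀ x : N, b • x = 0) :
    ∃ (n : ℕ) (g : (Fin n → B ⧸ J) →ₗ[B] N), Function.Surjective g := by
  obtain ⟨n, s, hs⟩ := Module.Finite.exists_fin (R := B) (M := N)
  refine ⟨n, ∑ j, toQ J hN (s j) ∘ₗ LinearMap.proj j, fun x => ?_⟩
  obtain ⟨c, rfl⟩ := (Submodule.mem_span_range_iff_exists_fun B).1 (hs.ge (Submodule.mem_top (x := x)))
  refine ⟨fun j => Submodule.Quotient.mk (c j), ?_⟩
  rw [LinearMap.sum_apply]
  rfl

variable [IsNoetherianRing B] (a c : ℤ)
  (ha : ∀ (M : Type u) [AddCommGroup M] [Module B M] (i : ℤ), i < a → Subsingleton (EH L (Dual.inD B M) i))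
  (hT : ∀ i, i ≠ c → Subsingleton (EH L (Dual.inD B (B ⧸ J)) i))

include ha hT in
theorem subsingleton_lt : ∀ (k : ℕ) (N : Type u) [AddCommGroup N] [Module B N] [Module.Finite B N],
    (∀ b ∈ J, ∀ x : N, b • x = 0) → ∀ i : ℤ, i < a + k → i < c → Subsingleton (EH L (Dual.inD B N) i) := by
  intro k
  induction k with
  | zero => intro N _ _ _ _ i hi _; exact ha N i (by omega)
  | succ k ih =>
    intro N _ _ _ hN i hi hic
    obtain ⟨n, g, hg⟩ := exists_presentation J N hN
    obtain ⟨δ, hT'⟩ := exists_δ (Submodule.subtype_injective (LinearMap.ker g)) hg (LinearMap.exact_subtype_ker_map g)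
    haveI := subsingleton_free L J i (hT i (by omega)) n
    haveI := ih (LinearMap.ker g) (fun b hb x => Subtype.ext (killed_pi J n b hb _)) (i - 1) (by omega) (by omega)
    haveI : Subsingleton (EH L ((Dual.inD B (LinearMap.ker g))⟦(1 : ℤ)⟧) i) :=
      (shiftLeft L _ 1 i (i - 1) (by omega)).toEquiv.subsingleton
    refine subsingleton_of_forall_eq 0 fun φ => ?_
    obtain ⟨β, hβ⟩ := Triangle.yoneda_exact₃ _ hT' φ
      (Subsingleton.elim (α := EH L (Dual.inD B (Fin n → B ⧸ J)) i) _ 0)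
    rw [hβ, Subsingleton.elim (α := EH L ((Dual.inD B (LinearMap.ker g))⟦(1 : ℤ)⟧) i) β 0]
    exact comp_zero

variable (e : EH L (Dual.inD B (B ⧸ J)) c ≃ₗ[B] (B ⧸ J))

include ha hT in
theorem eq_zero_of_forall {K : Type u} [AddCommGroup K] [Module B K] [Module.Finite B K]
    (hK : ∀ b ∈ J, ∀ x : K, b • x = 0) (ψ : EH L (Dual.inD B K) c)
    (h : ∀ x : K, sM (toQ J hK x) ≫ ψ = 0) : ψ = 0 := by
  obtain ⟨n, s, hs⟩ := Module.Finite.exists_fin (R := B) (M := K)
  let π : (Fin n → B ⧸ J) →ₗ[B] K := ∑ j, toQ J hK (s j) ∘ₗ LinearMap.proj j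
  have hπ : Function.Surjective π := fun x => by
    obtain ⟨cf, rfl⟩ := (Submodule.mem_span_range_iff_exists_fun B).1 (hs.ge (Submodule.mem_top (x := x)))
    refine ⟨fun j => Submodule.Quotient.mk (cf j), ?_⟩
    rw [LinearMap.sum_apply]
    rfl
  obtain ⟨δ, hT'⟩ := exists_δ (Submodule.subtype_injective (LinearMap.ker π)) hπ (LinearMap.exact_subtype_ker_map π)
  have h0 : sM π ≫ ψ = 0 := by
    rw [sM_sum, Preadditive.sum_comp]
    refine Finset.sum_eq_zero fun j _ => ?_
    rw [sM_comp, Category.assoc, h, comp_zero]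
  haveI := subsingleton_lt L J a c ha hT (c - a).toNat (LinearMap.ker π)
    (fun b hb x => Subtype.ext (killed_pi J n b hb _)) (c - 1) (by omega) (by omega)
  haveI : Subsingleton (EH L ((Dual.inD B (LinearMap.ker π))⟦(1 : ℤ)⟧) c) :=
    (shiftLeft L _ 1 c (c - 1) (by omega)).toEquiv.subsingleton
  obtain ⟨β, hβ⟩ := Triangle.yoneda_exact₃ _ hT' ψ h0
  rw [hβ, Subsingleton.elim (α := EH L ((Dual.inD B (LinearMap.ker π))⟦(1 : ℤ)⟧) c) β 0]
  exact comp_zero

variable (hI : Module.Injective (B ⧸ J) (B ⧸ J))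

include ha hT e hI in
theorem exists_extension {n : ℕ} (K : Submodule B (Fin n → B ⧸ J)) (ψ : EH L (Dual.inD B K) c) :
    ∃ χ : EH L (Dual.inD B (Fin n → B ⧸ J)) c, sM K.subtype ≫ χ = ψ := by
  have hK : ∀ b ∈ J, ∀ x : K, b • x = 0 := fun b hb x => Subtype.ext (killed_pi J n b hb _)
  let ℓ : K →ₗ[B] (B ⧸ J) :=
    e.toLinearMap ∘ₗ
      { toFun := fun x => sM (toQ J hK x) ≫ ψ
        map_add' := fun x y => by rw [map_add, sM_add, Preadditive.add_comp]
        map_smul' := fun b x => by rw [map_smul, sM_smul, Linear.smul_comp]; rfl }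
  let K' : Submodule (B ⧸ J) (Fin n → B ⧸ J) :=
    { K.toAddSubmonoid with
      smul_mem' := fun q x hx => by
        obtain ⟨b, rfl⟩ := Ideal.Quotient.mk_surjective q
        exact K.smul_mem b hx }
  let ℓ₀ : K' →ₗ[B ⧸ J] (B ⧸ J) :=
    { toFun := fun x => ℓ ⟨x.1, x.2⟩
      map_add' := fun x y => ℓ.map_add ⟨x.1, x.2⟩ ⟨y.1, y.2⟩
      map_smul' := fun q x => by
        obtain ⟨b, rfl⟩ := Ideal.Quotient.mk_surjective q
        exact ℓ.map_smul b ⟨x.1, x.2⟩ }
  obtain ⟨m, hm⟩ := hI.out K'.subtype K'.subtype_injective ℓ₀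
  let v : Fin n → B ⧸ J := fun j => m (Pi.single j 1)
  refine ⟨∑ j, sM (LinearMap.proj j : (Fin n → B ⧸ J) →ₗ[B] B ⧸ J) ≫ e.symm (v j), ?_⟩
  rw [← sub_eq_zero]
  refine eq_zero_of_forall L J a c ha hT hK _ fun x => ?_
  rw [Preadditive.comp_sub, sub_eq_zero]
  apply e.injective
  change _ = ℓ x
  have hx : ℓ x = ∑ j, x.1 j * v j := by
    have h1 : m x.1 = ℓ x := hm ⟨x.1, x.2⟩
    rw [← h1]
    conv_lhs => rw [pi_eq_sum_univ' x.1]
    rw [map_sum]
    exact Finset.sum_congr rfl fun j _ => by rw [map_smul, smul_eq_mul]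
  rw [hx, Preadditive.comp_sum, Preadditive.comp_sum, map_sum]
  refine Finset.sum_congr rfl fun j _ => ?_
  obtain ⟨b, hb⟩ := Ideal.Quotient.mk_surjective (x.1 j)
  have hcomp : ((LinearMap.proj j : (Fin n → B ⧸ J) →ₗ[B] B ⧸ J) ∘ₗ K.subtype) ∘ₗ toQ J hK x =
      b • LinearMap.id := by
    refine Submodule.linearMap_qext _ (LinearMap.ext_ring ?_)
    show (1 : B) • x.1 j = b • (1 : B ⧸ J)
    rw [one_smul, ← hb, Algebra.smul_def, mul_one]
    rfl
  rw [← Category.assoc (sM K.subtype), ← sM_comp, ← Category.assoc, ← sM_comp, hcomp, sM_smul, Linear.smul_comp,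
    map_smul, show sM (LinearMap.id : (B ⧸ J) →ₗ[B] B ⧸ J) = 𝟙 _ from CategoryTheory.Functor.map_id _ _,
    Category.id_comp, LinearEquiv.apply_symm_apply, Algebra.smul_def, ← hb]
  rfl

include ha hT e hI in
/-- **Vanishing on all finite modules over a self-injective quotient.** -/
theorem subsingleton_of_ne (N : Type u) [AddCommGroup N] [Module B N] [Module.Finite B N]
    (hN : ∀ b ∈ J, ∀ x : N, b • x = 0) (i : ℤ) (hi : i ≠ c) : Subsingleton (EH L (Dual.inD B N) i) := by
  rcases lt_or_gt_of_ne hi with h | h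
  · exact subsingleton_lt L J a c ha hT (i - a + 1).toNat N hN i (by omega) h
  obtain ⟨k, rfl⟩ : ∃ k : ℕ, i = c + 1 + k := ⟨(i - c - 1).toNat, by omega⟩
  clear hi h
  induction k generalizing N with
  | zero =>
    obtain ⟨n, g, hg⟩ := exists_presentation J N hN
    obtain ⟨δ, hT'⟩ := exists_δ (Submodule.subtype_injective (LinearMap.ker g)) hg (LinearMap.exact_subtype_ker_map g)
    haveI := subsingleton_free L J (c + 1 + (0 : ℕ)) (hT _ (by omega)) n
    refine subsingleton_of_forall_eq 0 fun φ => ?_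
    obtain ⟨β, hβ⟩ := Triangle.yoneda_exact₃ _ hT' φ
      (Subsingleton.elim (α := EH L (Dual.inD B (Fin n → B ⧸ J)) (c + 1 + (0 : ℕ))) _ 0)
    obtain ⟨χ, hχ⟩ := exists_extension L J a c ha hT e hI (LinearMap.ker g)
      (shiftLeft L _ 1 (c + 1 + (0 : ℕ)) c (by omega) β)
    have hβ' : β = (sM (LinearMap.ker g).subtype)⟦(1 : ℤ)⟧' ≫
        (shiftLeft L (Dual.inD B (Fin n → B ⧸ J)) 1 (c + 1 + (0 : ℕ)) c (by omega)).symm χ := by
      rw [← shiftLeft_symm_comp L (sM (LinearMap.ker g).subtype) 1 (c + 1 + (0 : ℕ)) c (by omega) χ, hχ]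
      exact (LinearEquiv.symm_apply_apply _ β).symm
    rw [hβ]
    exact (congrArg (_ ≫ ·) hβ').trans ((Category.assoc _ _ _).symm.trans
      ((congrArg (· ≫ _) (comp_distTriang_mor_zero₃₁ _ hT')).trans zero_comp))
  | succ k ih =>
    obtain ⟨n, g, hg⟩ := exists_presentation J N hN
    obtain ⟨δ, hT'⟩ := exists_δ (Submodule.subtype_injective (LinearMap.ker g)) hg (LinearMap.exact_subtype_ker_map g)
    haveI := subsingleton_free L J (c + 1 + (k + 1 : ℕ)) (hT _ (by omega)) n
    haveI := ih (LinearMap.ker g) (fun b hb x => Subtype.ext (killed_pi J n b hb _))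
    haveI : Subsingleton (EH L ((Dual.inD B (LinearMap.ker g))⟦(1 : ℤ)⟧) (c + 1 + (k + 1 : ℕ))) :=
      (shiftLeft L _ 1 (c + 1 + (k + 1 : ℕ)) (c + 1 + (k : ℕ)) (by omega)).toEquiv.subsingleton
    refine subsingleton_of_forall_eq 0 fun φ => ?_
    obtain ⟨β, hβ⟩ := Triangle.yoneda_exact₃ _ hT' φ
      (Subsingleton.elim (α := EH L (Dual.inD B (Fin n → B ⧸ J)) (c + 1 + (k + 1 : ℕ))) _ 0)
    rw [hβ, Subsingleton.elim (α := EH L ((Dual.inD B (LinearMap.ker g))⟦(1 : ℤ)⟧) (c + 1 + (k + 1 : ℕ))) β 0]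
    exact comp_zero

end GrothLib.DualRing
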