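import Groth.Agent.Lib.DualRing.ShriekStep
import Groth.Agent.Lib.KInj.Adjoint
import Groth.Agent.Lib.DerCat.MapAdj
import Groth.Agent.S12898
import Mathlib.Algebra.Polynomial.RingDivision
import Mathlib.RingTheory.Flat.Basic
import Mathlib.CategoryTheory.Shift.Adjunction

/-! # The upper shriek does not depend on the presentation -/

set_option autoImplicit false
set_option linter.style.haveILetI false
set_option maxHeartbeats 1000000
universe u

open CategoryTheory CategoryTheory.Limits CategoryTheory.Pretriangulated GrothLib.DualCx22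

attribute [local instance] HasDerivedCategory.standard

namespace GrothLib.DualRing.Shriek

variable {R A P Q : Type u} [CommRing R] [CommRing A] [CommRing P] [CommRing Q]

/-- A right adjoint of restriction of scalars. -/
noncomputable def RA (φ : P →+* A) : Dual.D P ⥤ Dual.D A :=
  GrothLib.KInj.res (ModuleCat.{u} P) ⋙
    (ModuleCat.coextendScalars.{u, u, u} φ).mapHomotopyCategory (ComplexShape.up ℤ) ⋙ DerivedCategory.Qh

/-- The adjunction. -/
noncomputable def radj (φ : P →+* A) : DRing.restrictD φ ⊣ RA φ :=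
  GrothLib.KInj.derivedAdj (ModuleCat.restrictCoextendScalarsAdj.{u, u, u} φ)

/-- Restriction along a composite. -/
noncomputable def resTrans (χ : Q →+* A) (ψ : P →+* A) (s : Q →+* P) (h : χ = ψ.comp s) :
    DRing.restrictD ψ ⋙ DRing.restrictD s ≅ DRing.restrictD χ :=
  DerCat.mapDerivedCompIso _ _ _ (ModuleCat.restrictScalarsComp' s ψ χ h).symm

/-- Coinduction along a composite. -/
noncomputable def raTrans (χ : Q →+* A) (ψ : P →+* A) (s : Q →+* P) (h : χ = ψ.comp s) :
    RA s ⋙ RA ψ ≅ RA χ :=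
  (((radj ψ).comp (radj s)).ofNatIsoLeft (resTrans χ ψ s h)).rightAdjointUniq (radj χ)

/-- Derived extension of scalars along a flat map. -/
noncomputable abbrev extD (a : R →+* P) [PreservesFiniteLimits (ModuleCat.extendScalars.{u, u, u} a)] :
    Dual.D R ⥤ Dual.D P :=
  (ModuleCat.extendScalars.{u, u, u} a).mapDerivedCategory

/-- Extension along a composite. -/
noncomputable def extTrans (a : R →+* P) (i : P →+* Q) (a' : R →+* Q) (h : a' = i.comp a)
    [PreservesFiniteLimits (ModuleCat.extendScalars.{u, u, u} a)]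
    [PreservesFiniteLimits (ModuleCat.extendScalars.{u, u, u} i)]
    [PreservesFiniteLimits (ModuleCat.extendScalars.{u, u, u} a')] : extD a ⋙ extD i ≅ extD a' :=
  (((DerCat.mapDerivedAdj (ModuleCat.extendRestrictScalarsAdj a)).comp
      (DerCat.mapDerivedAdj (ModuleCat.extendRestrictScalarsAdj i))).ofNatIsoRight
    (resTrans a' i a h)).leftAdjointUniq (DerCat.mapDerivedAdj (ModuleCat.extendRestrictScalarsAdj a'))

/-- The upper shriek along a presentation. -/
noncomputable abbrev G (a : R →+* P) [PreservesFiniteLimits (ModuleCat.extendScalars.{u, u, u} a)]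
    (ψ : P →+* A) (n : ℤ) (K : Dual.D R) : Dual.D A :=
  ((RA ψ).obj ((extD a).obj K))⟦n⟧

/-- Commutation of coinduction with shifts. -/
theorem nonempty_RA_shift (φ : P →+* A) (X : Dual.D P) (n : ℤ) :
    Nonempty ((RA φ).obj (X⟦n⟧) ≅ ((RA φ).obj X)⟦n⟧) := by
  letI := (radj φ).rightAdjointCommShift ℤ
  exact ⟨((RA φ).commShiftIso n).app X⟩

/-- **One variable may be removed.** -/
theorem nonempty_G_step (a : R →+* P) (i : P →+* Q) (a' : R →+* Q) (ha : a' = i.comp a)
    [PreservesFiniteLimits (ModuleCat.extendScalars.{u, u, u} a)]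
    [PreservesFiniteLimits (ModuleCat.extendScalars.{u, u, u} i)]
    [PreservesFiniteLimits (ModuleCat.extendScalars.{u, u, u} a')]
    (s : Q →+* P) (hsi : s.comp i = RingHom.id P) (t : Q) (ht : Function.Injective fun q : Q => t * q)
    (hker : ∀ x, s x = 0 ↔ t ∣ x) (ψ : P →+* A) (χ : Q →+* A) (hχ : χ = ψ.comp s) (n m : ℤ) (hm : m = n + 1)
    (K : Dual.D R) : Nonempty (G a' χ m K ≅ G a ψ n K) := by
  obtain ⟨e1⟩ := nonempty_step i s hsi t ht hker (RA s) (radj s) ((extD a).obj K)
  let M := (extD i).obj ((extD a).obj K)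
  obtain ⟨e2⟩ := nonempty_RA_shift ψ ((RA s).obj M) 1
  exact ⟨(shiftFunctor (Dual.D A) m).mapIso
      ((RA χ).mapIso ((extTrans a i a' ha).app K).symm ≪≫ ((raTrans χ ψ s hχ).app M).symm) ≪≫
    (shiftFunctorAdd' (Dual.D A) 1 n m (by omega)).app _ ≪≫
    (shiftFunctor (Dual.D A) n).mapIso (e2.symm ≪≫ (RA ψ).mapIso e1)⟩

/-- **Isomorphic presentations.** -/
theorem nonempty_G_iso (a : R →+* P) (e : P ≃+* Q) (a' : R →+* Q) (ha : a' = e.toRingHom.comp a)
    [PreservesFiniteLimits (ModuleCat.extendScalars.{u, u, u} a)]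
    [PreservesFiniteLimits (ModuleCat.extendScalars.{u, u, u} e.toRingHom)]
    [PreservesFiniteLimits (ModuleCat.extendScalars.{u, u, u} a')]
    (ψ : P →+* A) (χ : Q →+* A) (hχ : χ.comp e.toRingHom = ψ) (n : ℤ)
    (K : Dual.D R) : Nonempty (G a' χ n K ≅ G a ψ n K) := by
  have h1 : e.symm.toRingHom.comp e.toRingHom = RingHom.id P := RingHom.ext fun p => e.symm_apply_apply p
  have h2 : e.toRingHom.comp e.symm.toRingHom = RingHom.id Q := RingHom.ext fun q => e.apply_symm_apply q
  let F := DRing.restrictD e.symm.toRingHom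
  let H := DRing.restrictD e.toRingHom
  let E : Dual.D P ≌ Dual.D Q := CategoryTheory.Equivalence.mk F H
    (resComp e.toRingHom e.symm.toRingHom h1).symm (resComp e.symm.toRingHom e.toRingHom h2)
  let iR : H ≅ RA e.symm.toRingHom := E.toAdjunction.rightAdjointUniq (radj e.symm.toRingHom)
  let iL : extD e.toRingHom ≅ F :=
    (DerCat.mapDerivedAdj (ModuleCat.extendRestrictScalarsAdj e.toRingHom)).leftAdjointUniq E.toAdjunction
  have hχ' : χ = ψ.comp e.symm.toRingHom := RingHom.ext fun q => by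
    rw [← hχ]; exact congrArg χ (e.apply_symm_apply q).symm
  let M := (extD e.toRingHom).obj ((extD a).obj K)
  exact ⟨(shiftFunctor (Dual.D A) n).mapIso
    ((RA χ).mapIso ((extTrans a e.toRingHom a' ha).app K).symm ≪≫
      ((raTrans χ ψ e.symm.toRingHom hχ').app M).symm ≪≫
      (RA ψ).mapIso ((iR.app M).symm ≪≫ H.mapIso (iL.app _) ≪≫
        (resComp e.toRingHom e.symm.toRingHom h1).app _))⟩

variable (R)

theorem pfl_of_flat {P : Type u} [CommRing P] [Algebra R P] [Module.Flat R P] :
    PreservesFiniteLimits (ModuleCat.extendScalars.{u, u, u} (algebraMap R P)) :=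
  GrothLib.DR.preservesFiniteLimits_extendScalars (algebraMap R P) GrothLib.DR.flat_algebraMap

attribute [local instance] pfl_of_flat

variable {R} [Algebra R A]

/-- The upper shriek of a polynomial presentation. -/
noncomputable abbrev GP {n : ℕ} (ψ : MvPolynomial (Fin n) R →ₐ[R] A) (K : Dual.D R) : Dual.D A :=
  G (algebraMap R (MvPolynomial (Fin n) R)) ψ.toRingHom (n : ℤ) K

theorem nonempty_GP_cons {n : ℕ} (ψ : MvPolynomial (Fin n) R →ₐ[R] A) (hψ : Function.Surjective ψ)
    (χ : MvPolynomial (Fin (n + 1)) R →ₐ[R] A) (h : ∀ j, χ (MvPolynomial.X j.succ) = ψ (MvPolynomial.X j))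
    (K : Dual.D R) : Nonempty (GP χ K ≅ GP ψ K) := by
  classical
  obtain ⟨p, hp⟩ := hψ (χ (MvPolynomial.X 0))
  let P₀ := MvPolynomial (Fin n) R
  let e : Polynomial P₀ ≃+* MvPolynomial (Fin (n + 1)) R := (MvPolynomial.finSuccEquiv R n).symm.toRingEquiv
  haveI : PreservesFiniteLimits (ModuleCat.extendScalars.{u, u, u} e.toRingHom) :=
    GrothLib.DR.preservesFiniteLimits_extendScalars _ (RingHom.Flat.of_bijective e.bijective)
  haveI : PreservesFiniteLimits (ModuleCat.extendScalars.{u, u, u} (Polynomial.C : P₀ →+* Polynomial P₀)) :=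
    pfl_of_flat P₀
  haveI : Module.Flat R (Polynomial P₀) := Module.Flat.trans R P₀ (Polynomial P₀)
  haveI : PreservesFiniteLimits (ModuleCat.extendScalars.{u, u, u} (algebraMap R (Polynomial P₀))) := pfl_of_flat R
  let s : Polynomial P₀ →+* P₀ := Polynomial.evalRingHom p
  obtain ⟨e1⟩ := nonempty_G_step (algebraMap R P₀) Polynomial.C (algebraMap R (Polynomial P₀)) (RingHom.ext fun r => rfl)
    s (RingHom.ext fun q => by simp [s]) (Polynomial.X - Polynomial.C p)
    (fun a b h => (Polynomial.monic_X_sub_C p).isRegular.left h) (fun x => by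
      show Polynomial.eval p x = 0 ↔ _
      rw [Polynomial.dvd_iff_isRoot]; rfl)
    ψ.toRingHom (ψ.toRingHom.comp s) rfl (n : ℤ) ((n + 1 : ℕ) : ℤ) (by push_cast; rfl) K
  obtain ⟨e2⟩ := nonempty_G_iso (algebraMap R (Polynomial P₀)) e (algebraMap R (MvPolynomial (Fin (n + 1)) R))
    (RingHom.ext fun r => ((MvPolynomial.finSuccEquiv R n).symm.commutes r).symm)
    (ψ.toRingHom.comp s) χ.toRingHom (by
      have key : (ψ.toRingHom.comp s).comp (MvPolynomial.finSuccEquiv R n).toRingEquiv.toRingHom = χ.toRingHom := by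
        refine MvPolynomial.ringHom_ext (fun r => ?_) fun j => ?_
        · simp [s, MvPolynomial.finSuccEquiv_apply]
        · refine Fin.cases ?_ (fun j => ?_) j
          · simp [s, hp, MvPolynomial.finSuccEquiv_apply]
          · simp [s, h, MvPolynomial.finSuccEquiv_apply]
      rw [← key]
      exact RingHom.ext fun x => congrArg (ψ.toRingHom.comp s) ((MvPolynomial.finSuccEquiv R n).apply_symm_apply x))
    ((n + 1 : ℕ) : ℤ) K
  exact ⟨e2 ≪≫ e1⟩

theorem nonempty_GP_append {n : ℕ} (ψ : MvPolynomial (Fin n) R →ₐ[R] A) (hψ : Function.Surjective ψ) :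
    ∀ (m : ℕ) (v : Fin m → A) (K : Dual.D R),
      Nonempty (GP (MvPolynomial.aeval (R := R) (Fin.append v fun j => ψ (MvPolynomial.X j))) K ≅ GP ψ K) ∧
        Function.Surjective (MvPolynomial.aeval (R := R) (Fin.append v fun j => ψ (MvPolynomial.X j))) := by
  intro m v K
  have hsurj : ∀ (m : ℕ) (v : Fin m → A),
      Function.Surjective (MvPolynomial.aeval (R := R) (Fin.append v fun j => ψ (MvPolynomial.X j))) := fun m v x => by
    obtain ⟨q, rfl⟩ := hψ x
    refine ⟨MvPolynomial.rename (Fin.natAdd m) q, ?_⟩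
    rw [MvPolynomial.aeval_rename]
    exact congrArg (fun f : MvPolynomial (Fin n) R →ₐ[R] A => f q)
      (MvPolynomial.algHom_ext fun j => by simp)
  refine ⟨?_, hsurj m v⟩
  induction m with
  | zero =>
    have key : ∀ (k : ℕ) (hk : k = n) (χ : MvPolynomial (Fin k) R →ₐ[R] A),
        (∀ j, χ (MvPolynomial.X j) = ψ (MvPolynomial.X (Fin.cast hk j))) → Nonempty (GP χ K ≅ GP ψ K) := by
      rintro k rfl χ hχ
      rw [show χ = ψ from MvPolynomial.algHom_ext fun j => by simpa using hχ j]
      exact ⟨Iso.refl _⟩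
    exact key (0 + n) (Nat.zero_add n) _ fun j => by
      rw [MvPolynomial.aeval_X]
      obtain ⟨j, rfl⟩ : ∃ j' : Fin n, j = Fin.natAdd 0 j' :=
        ⟨Fin.cast (Nat.zero_add n) j, Fin.ext (by simp)⟩
      rw [Fin.append_right]
      congr 2
      exact Fin.ext (by simp)
  | succ m ih =>
    obtain ⟨e⟩ := ih (fun j => v j.succ)
    have key : ∀ (k : ℕ) (hk : k = (m + n) + 1) (χ : MvPolynomial (Fin k) R →ₐ[R] A),
        (∀ j : Fin (m + n), χ (MvPolynomial.X (Fin.cast hk.symm j.succ)) =
          Fin.append (fun j => v j.succ) (fun j => ψ (MvPolynomial.X j)) j) → Nonempty (GP χ K ≅ GP ψ K) := by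
      rintro k rfl χ hχ
      obtain ⟨e'⟩ := nonempty_GP_cons _ (hsurj m fun j => v j.succ) χ
        (fun j => by rw [MvPolynomial.aeval_X]; exact hχ j) K
      exact ⟨e' ≪≫ e⟩
    exact key (m + 1 + n) (by omega) _ fun j => by
      rw [MvPolynomial.aeval_X]
      refine Fin.addCases (fun a => ?_) (fun b => ?_) j
      · rw [Fin.append_left, show Fin.cast (by omega : m + n + 1 = m + 1 + n) (Fin.castAdd n a).succ =
          Fin.castAdd n a.succ from Fin.ext (by simp)]
        exact Fin.append_left v _ a.succ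
      · rw [Fin.append_right, show Fin.cast (by omega : m + n + 1 = m + 1 + n) (Fin.natAdd m b).succ =
          Fin.natAdd (m + 1) b from Fin.ext (by simp; omega)]
        exact Fin.append_right v _ b

/-- **Independence of the presentation.** -/
theorem nonempty_GP_indep {n m : ℕ} (ψ : MvPolynomial (Fin n) R →ₐ[R] A) (hψ : Function.Surjective ψ)
    (ψ' : MvPolynomial (Fin m) R →ₐ[R] A) (hψ' : Function.Surjective ψ') (K : Dual.D R) :
    Nonempty (GP ψ K ≅ GP ψ' K) := by
  let u : Fin n → A := fun j => ψ (MvPolynomial.X j)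
  let v : Fin m → A := fun j => ψ' (MvPolynomial.X j)
  obtain ⟨⟨e1⟩, -⟩ := nonempty_GP_append ψ hψ m v K
  obtain ⟨⟨e2⟩, -⟩ := nonempty_GP_append ψ' hψ' n u K
  let σ : MvPolynomial (Fin (m + n)) R ≃ₐ[R] MvPolynomial (Fin (n + m)) R := MvPolynomial.renameEquiv R finAddFlip
  haveI : PreservesFiniteLimits (ModuleCat.extendScalars.{u, u, u} σ.toRingEquiv.toRingHom) :=
    GrothLib.DR.preservesFiniteLimits_extendScalars _ (RingHom.Flat.of_bijective σ.bijective)
  obtain ⟨e3⟩ := nonempty_G_iso (algebraMap R (MvPolynomial (Fin (m + n)) R)) σ.toRingEquiv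
    (algebraMap R (MvPolynomial (Fin (n + m)) R)) (RingHom.ext fun r => (σ.commutes r).symm)
    (MvPolynomial.aeval (R := R) (Fin.append v u)).toRingHom (MvPolynomial.aeval (R := R) (Fin.append u v)).toRingHom
    (by
      refine MvPolynomial.ringHom_ext (fun r => ?_) fun j => ?_
      · simp [σ]
      · refine Fin.addCases (fun a => ?_) (fun b => ?_) j
        · simp [σ]
        · simp [σ])
    ((m + n : ℕ) : ℤ) K
  have hz : ((m + n : ℕ) : ℤ) = ((n + m : ℕ) : ℤ) := by rw [Nat.add_comm]
  exact ⟨e1.symm ≪≫ e3.symm ≪≫ eqToIso (by rw [hz]) ≪≫ e2⟩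

end GrothLib.DualRing.Shriek
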