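import Groth.Agent.Lib.DualRing.ShriekFinite
import Mathlib.AlgebraicGeometry.OpenImmersion
import Mathlib.Algebra.Category.Ring.Epi
import Mathlib.CategoryTheory.Monad.Adjunction
import Mathlib.RingTheory.TensorProduct.MvPolynomial

/-! # The upper shriek of an affine open immersion -/

set_option autoImplicit false
set_option linter.style.haveILetI false
set_option maxHeartbeats 400000
universe u v

open CategoryTheory CategoryTheory.Limits CategoryTheory.Pretriangulated AlgebraicGeometry GrothLib.DualCx22 TensorProduct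

attribute [local instance] HasDerivedCategory.standard

namespace GrothLib.DualRing.Shriek

/-- Modules killed by a flat algebra on whose image `g` vanishes nowhere outside. -/
theorem bijective_smul_of_lTensor_eq_zero {P P' : Type u} [CommRing P] [CommRing P'] [Algebra P P'] [Module.Flat P P']
    (g : P) (hg : ∀ q : Ideal P, q.IsPrime → g ∈ q → ∃ q' : Ideal P', q'.IsPrime ∧ q'.comap (algebraMap P P') = q)
    (V : Type v) [AddCommGroup V] [Module P V] (hV : Subsingleton (P' ⊗[P] V)) :
    Function.Bijective fun x : V => g • x := by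
  have key : ∀ (W : Type v) [AddCommGroup W] [Module P W], Subsingleton (P' ⊗[P] W) →
      ∀ w : W, g • w = 0 → w = 0 := by
    intro W _ _ hW w hw
    let f := LinearMap.toSpanSingleton P W w
    let I := LinearMap.ker f
    have hgI : g ∈ I := hw
    suffices I = ⊤ by
      have h1 : (1 : P) • w = 0 := (this ▸ Submodule.mem_top : (1 : P) ∈ I)
      rwa [one_smul] at h1
    by_contra hne
    obtain ⟨q, hq, hIq⟩ := Ideal.exists_le_maximal I hne
    obtain ⟨q', hq', hqq⟩ := hg q hq.isPrime (hIq hgI)
    let f' : (P ⧸ I) →ₗ[P] W := I.liftQ f le_rfl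
    have hf' : Function.Injective f' := LinearMap.ker_eq_bot.1 (Submodule.ker_liftQ_eq_bot _ _ _ le_rfl)
    haveI : Subsingleton (P' ⊗[P] (P ⧸ I)) :=
      (Module.Flat.lTensor_preserves_injective_linearMap f' hf').subsingleton
    haveI := (TensorProduct.tensorQuotEquivQuotSMul P' I).symm.injective.subsingleton
    have htop : (I • ⊤ : Submodule P P') = ⊤ := Submodule.Quotient.subsingleton_iff.1 inferInstance
    rw [Ideal.smul_top_eq_map, Submodule.restrictScalars_eq_top_iff] at htop
    refine hq'.ne_top (top_le_iff.1 (htop ▸ Ideal.map_le_iff_le_comap.2 ?_))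
    rw [hqq]; exact hIq
  refine ⟨fun x y hxy => sub_eq_zero.1 (key V hV (x - y) (by rw [smul_sub]; exact sub_eq_zero.2 hxy)), fun x => ?_⟩
  let N : Submodule P V := LinearMap.range (LinearMap.lsmul P V g)
  haveI : Subsingleton (P' ⊗[P] (V ⧸ N)) :=
    (LinearMap.lTensor_surjective P' (Submodule.mkQ_surjective N)).subsingleton
  have h := key (V ⧸ N) inferInstance (Submodule.Quotient.mk x) (by
    rw [← Submodule.Quotient.mk_smul, Submodule.Quotient.mk_eq_zero]
    exact ⟨x, rfl⟩)
  obtain ⟨y, hy⟩ := (Submodule.Quotient.mk_eq_zero _).1 h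
  exact ⟨y, hy⟩

/-- A surjection from an algebra onto an open affine has an element in its kernel whose zero locus is in the open. -/
theorem exists_kernel_elem {R R' : Type u} [CommRing R] [CommRing R'] [Algebra R R']
    (hopen : IsOpenImmersion (Spec.map (CommRingCat.ofHom (algebraMap R R')))) {σ : Type}
    (ψ : MvPolynomial σ R →ₐ[R] R') (hψ : Function.Surjective ψ) :
    ∃ g, ψ g = 0 ∧ ∀ q : Ideal (MvPolynomial σ R), q.IsPrime → g ∈ q →
      ∃ q' : Ideal (MvPolynomial σ R'), q'.IsPrime ∧ q'.comap (MvPolynomial.map (algebraMap R R')) = q := by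
  let ι := Spec.map (CommRingCat.ofHom (algebraMap R R'))
  let S : Set R := {f | (PrimeSpectrum.basicOpen f : Set (PrimeSpectrum R)) ⊆ Set.range ι}
  let J : Ideal (MvPolynomial σ R) := Ideal.span (algebraMap R (MvPolynomial σ R) '' S)
  have hJ : J.map ψ = ⊤ := by
    by_contra hne
    obtain ⟨r, hr, hJr⟩ := Ideal.exists_le_maximal _ hne
    obtain ⟨_, ⟨f, rfl⟩, hrf, hfU⟩ := PrimeSpectrum.isTopologicalBasis_basic_opens.exists_subset_of_mem_open
      (Set.mem_range_self (f := ι) (⟨r, hr.isPrime⟩ : PrimeSpectrum R')) ι.isOpenEmbedding.isOpen_range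
    refine hrf (?_ : algebraMap R R' f ∈ r)
    have h1 : ψ (algebraMap R _ f) ∈ J.map ψ :=
      Ideal.mem_map_of_mem ψ (Ideal.subset_span ⟨f, hfU, rfl⟩)
    rw [ψ.commutes] at h1
    exact hJr h1
  obtain ⟨j, hj, hj1⟩ := (Ideal.mem_map_iff_of_surjective ψ hψ).1 (hJ ▸ Submodule.mem_top : (1 : R') ∈ J.map ψ)
  refine ⟨1 - j, by rw [map_sub, map_one, hj1, sub_self], fun q hq hgq => ?_⟩
  have hjq : ¬ J ≤ q := fun h => hq.ne_top ((Ideal.eq_top_iff_one q).2 (by simpa using q.add_mem hgq (h hj)))
  rw [Ideal.span_le, Set.not_subset] at hjq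
  obtain ⟨_, ⟨f, hfS, rfl⟩, hfq⟩ := hjq
  let jf := Spec.map (CommRingCat.ofHom (algebraMap R (Localization.Away f)))
  have hrange : Set.range jf ⊆ Set.range ι := by
    rintro _ ⟨x, rfl⟩
    refine hfS ?_
    rw [← PrimeSpectrum.localization_away_comap_range (Localization.Away f) f]
    exact ⟨x, rfl⟩
  let φ := Spec.preimage (IsOpenImmersion.lift ι jf hrange)
  have hφ : φ.hom.comp (algebraMap R R') = algebraMap R (Localization.Away f) := by
    have h : CommRingCat.ofHom (algebraMap R R') ≫ φ = CommRingCat.ofHom (algebraMap R (Localization.Away f)) :=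
      Spec.map_injective (by rw [Spec.map_comp, Spec.map_preimage]; exact IsOpenImmersion.lift_fac ι jf hrange)
    exact congrArg CommRingCat.Hom.hom h
  let L := Localization.AtPrime q
  have hu : IsUnit (((algebraMap (MvPolynomial σ R) L).comp (algebraMap R (MvPolynomial σ R))) f) :=
    IsLocalization.map_units L (⟨_, hfq⟩ : q.primeCompl)
  let ρ : MvPolynomial σ R' →+* L := MvPolynomial.eval₂Hom ((IsLocalization.Away.lift f hu).comp φ.hom)
    fun i => algebraMap (MvPolynomial σ R) L (MvPolynomial.X i)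
  have hρ : ρ.comp (MvPolynomial.map (algebraMap R R')) = algebraMap _ L := by
    refine MvPolynomial.ringHom_ext (fun r => ?_) fun i => by simp [ρ]
    simp only [ρ, RingHom.comp_apply, MvPolynomial.map_C, MvPolynomial.eval₂Hom_C]
    rw [show φ.hom (algebraMap R R' r) = algebraMap R (Localization.Away f) r from RingHom.congr_fun hφ r,
      IsLocalization.Away.lift_eq]
    rfl
  refine ⟨(IsLocalRing.maximalIdeal L).comap ρ, inferInstance, ?_⟩
  rw [Ideal.comap_comap, hρ]
  exact Localization.AtPrime.comap_maximalIdeal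

theorem exists_collapse {P P' B : Type u} [CommRing P] [CommRing P'] [CommRing B] [Algebra P P'] [Algebra P B]
    [Algebra P' B] [IsScalarTower P P' B] [Algebra.IsEpi P P'] :
    ∃ e : B ⊗[P] P' ≃ₗ[B] B, ∀ (b : B) (q : P'), e (b ⊗ₜ[P] q) = algebraMap B B b * algebraMap P' B q := by
  let e₀ : B ⊗[P] P' ≃+ B := (TensorProduct.comm P B P').toAddEquiv.trans (TensorProduct.lid' P P' B).toAddEquiv
  have h0 : ∀ (b : B) (q : P'), e₀ (b ⊗ₜ[P] q) = b * algebraMap P' B q := fun b q => by
    simp [e₀, Algebra.smul_def, mul_comm]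
  refine ⟨{ e₀ with map_smul' := fun c z => ?_ }, h0⟩
  induction z using TensorProduct.induction_on with
  | zero => simp
  | tmul b q =>
    show e₀ (c • (b ⊗ₜ[P] q)) = c • e₀ (b ⊗ₜ[P] q)
    rw [TensorProduct.smul_tmul', h0, h0, smul_eq_mul, smul_eq_mul, mul_assoc]
  | add x y hx hy =>
    show e₀ (c • (x + y)) = c • e₀ (x + y)
    rw [smul_add, map_add, map_add, smul_add]
    exact congrArg₂ (· + ·) hx hy

attribute [local instance] pfl_of_flat

/-- Restriction along the identity. -/
noncomputable def resDSelf {B : Type u} [CommRing B] : DRing.restrictD (RingHom.id B) ≅ 𝟭 (Dual.D B) :=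
  (DerCat.mapDerivedCompIso _ _ (ModuleCat.restrictScalars.{u} (RingHom.id B))
      (ModuleCat.restrictScalarsComp.{u} (RingHom.id B) (RingHom.id B)).symm).symm ≪≫
    resComp (RingHom.id B) (RingHom.id B) rfl

/-- Base change along the identity. -/
noncomputable def bcDSelf {B : Type u} [CommRing B] [PreservesFiniteLimits (bcMod (A := B) B)] :
    bcD (A := B) B ≅ 𝟭 (Dual.D B) :=
  (DerCat.mapDerivedAdj (ModuleCat.extendRestrictScalarsAdj (algebraMap B B))).leftAdjointUniq
    (Adjunction.id.ofNatIsoRight resDSelf.symm)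

attribute [local instance] MvPolynomial.algebraMvPolynomial in
theorem flat_mvPolynomial_map {R R' : Type u} [CommRing R] [CommRing R'] [Algebra R R'] [Module.Flat R R'] (σ : Type) :
    Module.Flat (MvPolynomial σ R) (MvPolynomial σ R') :=
  Module.Flat.isBaseChange R (MvPolynomial σ R) R' (MvPolynomial σ R')
    (Algebra.IsPushout.symm (inferInstance : Algebra.IsPushout R R' (MvPolynomial σ R) (MvPolynomial σ R'))).out

/-- Along a flat epimorphism base change is left inverse to restriction. -/
theorem isIso_counit_of_isEpi {P P' : Type u} [CommRing P] [CommRing P'] [Algebra P P'] [Algebra.IsEpi P P']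
    [PreservesFiniteLimits (bcMod (A := P) P')] :
    IsIso (DerCat.mapDerivedAdj (ModuleCat.extendRestrictScalarsAdj (algebraMap P P'))).counit := by
  haveI : PreservesFiniteLimits (bcMod (A := P') P') := pfl_of_flat P'
  exact (DerCat.mapDerivedAdj (ModuleCat.extendRestrictScalarsAdj (algebraMap P P'))).isIso_counit_of_iso
    (κ (P := P) (B := P') (P' := P') (B' := P') exists_collapse ≪≫
      Functor.isoWhiskerRight bcDSelf (DRing.restrictD (algebraMap P' P')) ≪≫ Functor.leftUnitor _ ≪≫ resDSelf)

/-- **A flat epimorphism through which a closed subscheme factors.** -/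
theorem nonempty_RA_flatEpi {P P' B : Type u} [CommRing P] [CommRing P'] [CommRing B] [Algebra P P']
    [Module.Flat P P'] [Algebra.IsEpi P P'] [PreservesFiniteLimits (bcMod (A := P) P')]
    (φ : P →+* B) (φ' : P' →+* B) (hφ : φ = φ'.comp (algebraMap P P')) (g : P) (hg0 : φ g = 0)
    (hg : ∀ q : Ideal P, q.IsPrime → g ∈ q → ∃ q' : Ideal P', q'.IsPrime ∧ q'.comap (algebraMap P P') = q)
    (M : Dual.D P) : Nonempty ((RA φ).obj M ≅ (RA φ').obj ((bcD (A := P) P').obj M)) := by
  letI : Algebra P B := φ.toAlgebra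
  letI : Algebra P' B := φ'.toAlgebra
  haveI : IsScalarTower P P' B := IsScalarTower.of_algebraMap_eq' hφ
  haveI : PreservesFiniteLimits (bcMod (A := B) B) := pfl_of_flat B
  let adA : bcD (A := P) P' ⊣ DRing.restrictD (algebraMap P P') :=
    DerCat.mapDerivedAdj (ModuleCat.extendRestrictScalarsAdj (algebraMap P P'))
  haveI : IsIso adA.counit := isIso_counit_of_isEpi
  -- the cone of the unit
  let M' := (bcD (A := P) P').obj M
  let η : M ⟶ (DRing.restrictD (algebraMap P P')).obj M' := adA.unit.app M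
  have hbη : IsIso ((bcD (A := P) P').map η) := by
    haveI := adA.left_triangle_components M
    exact IsIso.of_isIso_fac_right (adA.left_triangle_components M)
  obtain ⟨C, u', w, hT⟩ := distinguished_cocone_triangle η
  have hC0 : IsZero ((bcD (A := P) P').obj C) :=
    (Triangle.isZero₃_iff_isIso₁ _ ((bcD (A := P) P').map_distinguished _ hT)).2 hbη
  have hgC : IsIso (g • 𝟙 C) := by
    refine DT.isIso_of_bijective_S _ fun i => ?_
    let eS : DT.S P i ≅ (Dual.inD P P)⟦-i⟧ := DR.toDSingleIso i (ModuleCat.of P P)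
    have hBC : IsBC P' (DT.S P i) C :=
      isBC_of_iso P' eS.symm ((shiftFunctorZero (Dual.D P) ℤ).app C)
        (isBC_shift_all P' (L := C) (fun j => isBC_of_iso P'
          ((DerivedCategory.singleFunctor (ModuleCat.{u} P) 0).mapIso
            (LinearEquiv.funUnique (Fin 1) P P).toModuleIso) (Iso.refl _) (isBC_free P' 1 _)) (-i) 0)
    haveI : Subsingleton ((bcD (A := P) P').obj (DT.S P i) ⟶ (bcD (A := P) P').obj C) := ⟨hC0.eq_of_tgt⟩
    have h := bijective_smul_of_lTensor_eq_zero g hg (DT.S P i ⟶ C) hBC.1.subsingleton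
    simpa only [Linear.comp_smul, Category.comp_id] using h
  have hRC : IsZero ((RA (algebraMap P B)).obj C) := by
    let rad := radj (algebraMap P B)
    have hz : rad.counit.app C = 0 := by
      refine (cancel_mono (g • 𝟙 C)).1 ?_
      have h1 := restrictD_map_smul_id (algebraMap P B) g ((RA (algebraMap P B)).obj C)
      rw [show algebraMap P B g = 0 from hg0, zero_smul, Functor.map_zero] at h1
      rw [Linear.comp_smul, Category.comp_id, zero_comp]
      have h2 : (g • 𝟙 ((DRing.restrictD (algebraMap P B)).obj ((RA (algebraMap P B)).obj C))) ≫ rad.counit.app C = 0 := by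
        rw [← h1, zero_comp]
      rw [Linear.smul_comp] at h2
      erw [Category.id_comp] at h2
      exact h2
    rw [IsZero.iff_id_eq_zero]
    apply (rad.homEquiv _ _).symm.injective
    rw [Adjunction.homEquiv_counit, Adjunction.homEquiv_counit, hz, comp_zero, comp_zero]
  have hη : IsIso ((RA (algebraMap P B)).map η) := by
    letI := (radj (algebraMap P B)).rightAdjointCommShift ℤ
    haveI := (radj (algebraMap P B)).commShift_of_leftAdjoint ℤ
    haveI := (radj (algebraMap P B)).isTriangulated_rightAdjoint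
    exact (Triangle.isZero₃_iff_isIso₁ _ ((RA (algebraMap P B)).map_distinguished _ hT)).1 hRC
  -- the right adjoints agree
  have hp : ∃ e : B ⊗[P] P' ≃ₗ[B] B, ∀ (b : B) (q : P'), e (b ⊗ₜ[P] q) =
      algebraMap B B b * algebraMap P' B q := exists_collapse
  let eκ : DRing.restrictD (algebraMap P B) ⋙ bcD (A := P) P' ≅ DRing.restrictD (algebraMap P' B) :=
    κ hp ≪≫ Functor.isoWhiskerRight bcDSelf _ ≪≫ Functor.leftUnitor _
  let eR : DRing.restrictD (algebraMap P P') ⋙ RA (algebraMap P B) ≅ RA (algebraMap P' B) :=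
    (((radj (algebraMap P B)).comp adA).ofNatIsoLeft eκ).rightAdjointUniq (radj (algebraMap P' B))
  exact ⟨@asIso _ _ _ _ _ hη ≪≫ eR.app M'⟩

/-- **The upper shriek of an affine open immersion is restriction.** -/
theorem nonempty_GP_openImmersion {R R' : Type u} [CommRing R] [CommRing R'] [Algebra R R'] [Module.Flat R R']
    (hopen : IsOpenImmersion (Spec.map (CommRingCat.ofHom (algebraMap R R')))) {n : ℕ}
    (ψ : MvPolynomial (Fin n) R →ₐ[R] R') (hψ : Function.Surjective ψ) (K : Dual.D R) :
    Nonempty (GP ψ K ≅ (bcD (A := R) R').obj K) := by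
  obtain ⟨g, hg0, hg⟩ := exists_kernel_elem hopen ψ hψ
  let ψb : MvPolynomial (Fin n) R' →ₐ[R'] R' := MvPolynomial.aeval fun j => ψ (MvPolynomial.X j)
  letI : Algebra (MvPolynomial (Fin n) R) (MvPolynomial (Fin n) R') := MvPolynomial.algebraMvPolynomial
  haveI : IsScalarTower R (MvPolynomial (Fin n) R) (MvPolynomial (Fin n) R') :=
    IsScalarTower.of_algebraMap_eq fun r => (MvPolynomial.map_C _ r).symm
  have hψb : ψ.toRingHom = ψb.toRingHom.comp (algebraMap (MvPolynomial (Fin n) R) (MvPolynomial (Fin n) R')) :=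
    MvPolynomial.ringHom_ext (fun r => by simp [RingHom.algebraMap_toAlgebra, ψb])
      (fun j => by simp [RingHom.algebraMap_toAlgebra, ψb])
  haveI hepi : Algebra.IsEpi (MvPolynomial (Fin n) R) (MvPolynomial (Fin n) R') := by
    refine CommRingCat.epi_iff_epi.1 ⟨fun {T} a b hab => ?_⟩
    have h := congrArg CommRingCat.Hom.hom hab
    haveI : Mono (Spec.map (CommRingCat.ofHom (algebraMap R R'))) := inferInstance
    have hC : CommRingCat.ofHom (MvPolynomial.C : R' →+* MvPolynomial (Fin n) R') ≫ a = CommRingCat.ofHom MvPolynomial.C ≫ b := by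
      refine Spec.map_injective ((cancel_mono (Spec.map (CommRingCat.ofHom (algebraMap R R')))).1 ?_)
      rw [← Spec.map_comp, ← Spec.map_comp]
      congr 1
      exact CommRingCat.hom_ext (RingHom.ext fun r => by
        simpa [RingHom.algebraMap_toAlgebra] using RingHom.congr_fun h (MvPolynomial.C r))
    refine CommRingCat.hom_ext (MvPolynomial.ringHom_ext (fun r => RingHom.congr_fun (congrArg CommRingCat.Hom.hom hC) r)
      fun j => ?_)
    simpa [RingHom.algebraMap_toAlgebra] using RingHom.congr_fun h (MvPolynomial.X j)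
  haveI : Module.Flat (MvPolynomial (Fin n) R) (MvPolynomial (Fin n) R') := flat_mvPolynomial_map (Fin n)
  haveI : Module.Flat R (MvPolynomial (Fin n) R') := Module.Flat.trans R R' _
  haveI : PreservesFiniteLimits (bcMod (A := MvPolynomial (Fin n) R) (MvPolynomial (Fin n) R')) := pfl_of_flat _
  obtain ⟨e1⟩ := nonempty_RA_flatEpi ψ.toRingHom ψb.toRingHom hψb g hg0 hg
    ((bcD (A := R) (MvPolynomial (Fin n) R)).obj K)
  obtain ⟨e0⟩ := nonempty_GP_self ψb ((bcD (A := R) R').obj K)
  let eB := (extTrans (algebraMap R (MvPolynomial (Fin n) R)) (algebraMap (MvPolynomial (Fin n) R) (MvPolynomial (Fin n) R')) (algebraMap R (MvPolynomial (Fin n) R')) (IsScalarTower.algebraMap_eq _ _ _)).app K ≪≫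
    ((extTrans (algebraMap R R') (algebraMap R' (MvPolynomial (Fin n) R')) (algebraMap R (MvPolynomial (Fin n) R')) (IsScalarTower.algebraMap_eq _ _ _)).app K).symm
  exact ⟨(shiftFunctor (Dual.D R') (n : ℤ)).mapIso
    (e1 ≪≫ (RA ψb.toRingHom).mapIso eB) ≪≫ e0⟩

end GrothLib.DualRing.Shriek
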