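import Groth.Agent.Lib.DualRing.ShriekTriangle
import Groth.Agent.Lib.DualCx22.FlatHom
import Groth.Agent.Lib.DualCx22.Twist
import Groth.Agent.Lib.DualCx22.RestrictSmul

/-! # The right adjoint along a section of a flat algebra -/

set_option autoImplicit false
set_option linter.style.haveILetI false
set_option backward.isDefEq.respectTransparency false
set_option maxHeartbeats 1000000
universe u

open CategoryTheory CategoryTheory.Limits CategoryTheory.Pretriangulated GrothLib.DualCx22 TensorProduct

attribute [local instance] HasDerivedCategory.standard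

namespace GrothLib.DualRing.Shriek

variable {P Q : Type u} [CommRing P] [CommRing Q] (i : P →+* Q) (s : Q →+* P) (hsi : s.comp i = RingHom.id P)

/-- A section `P → Q → P` composes to the identity. -/
noncomputable def resComp : DRing.restrictD s ⋙ DRing.restrictD i ≅ 𝟭 (Dual.D P) :=
  DerCat.mapDerivedCompIso _ _ (𝟭 (ModuleCat.{u} P))
    ((ModuleCat.restrictScalarsComp i s).symm ≪≫ ModuleCat.restrictScalarsId' (s.comp i) hsi) ≪≫
    mapDerivedId

/-- The restricted base change of a module. -/
noncomputable abbrev RB (M : ModuleCat.{u} P) : ModuleCat.{u} P :=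
  (ModuleCat.restrictScalars.{u} i).obj ((ModuleCat.extendScalars.{u, u, u} i).obj M)

/-- The module as a module over `Q`, restricted back. -/
noncomputable def backIso (M : ModuleCat.{u} P) :
    (ModuleCat.restrictScalars.{u} i).obj ((ModuleCat.restrictScalars.{u} s).obj M) ≅ M :=
  (ModuleCat.restrictScalarsComp i s).symm.app M ≪≫ (ModuleCat.restrictScalarsId' (s.comp i) hsi).app M

/-- The projection of the restricted base change to the module. -/
noncomputable def proj (M : ModuleCat.{u} P) : RB i M ⟶ M :=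
  (ModuleCat.restrictScalars.{u} i).map
      (((ModuleCat.extendRestrictScalarsAdj i).homEquiv M ((ModuleCat.restrictScalars.{u} s).obj M)).symm
        (backIso i s hsi M).inv) ≫
    (backIso i s hsi M).hom

/-- A pure tensor. -/
noncomputable def tm {M : ModuleCat.{u} P} (q : Q) (m : M) : RB i M :=
  letI := i.toAlgebra
  (q ⊗ₜ[P] m : Q ⊗[P] (M : Type u))

theorem RB_induction {M : ModuleCat.{u} P} {p : RB i M → Prop} (z : RB i M) (h0 : p 0)
    (ht : ∀ q m, p (tm i q m)) (ha : ∀ x y, p x → p y → p (x + y)) : p z := by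
  letI := i.toAlgebra
  exact TensorProduct.induction_on (motive := fun w => p w) z h0 ht ha

theorem proj_tmul (M : ModuleCat.{u} P) (q : Q) (m : M) : (proj i s hsi M).hom (tm i q m) = s q • m := rfl

theorem proj_naturality {M N : ModuleCat.{u} P} (g : M ⟶ N) :
    (ModuleCat.restrictScalars.{u} i).map ((ModuleCat.extendScalars.{u, u, u} i).map g) ≫ proj i s hsi N =
      proj i s hsi M ≫ g := by
  refine ModuleCat.hom_ext (LinearMap.ext fun z => ?_)
  refine RB_induction i (p := fun z => _ = _) z ((map_zero _).trans (map_zero _).symm)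
    (fun q m => ?_) fun x y hx hy => (map_add _ x y).trans ((congrArg₂ (· + ·) hx hy).trans (map_add _ x y).symm)
  show (proj i s hsi N).hom (tm i q (g.hom m)) = g.hom ((proj i s hsi M).hom (tm i q m))
  rw [proj_tmul, proj_tmul, map_smul]

variable (t : Q) (ht : Function.Injective fun q : Q => t * q) (hker : ∀ a, s a = 0 ↔ t ∣ a)

/-- Multiplication by `t`. -/
noncomputable def mulT (M : ModuleCat.{u} P) : RB i M ⟶ RB i M :=
  (ModuleCat.restrictScalars.{u} i).map (t • 𝟙 _)

theorem mulT_tmul (M : ModuleCat.{u} P) (q : Q) (m : M) : (mulT i t M).hom (tm i q m) = tm i (t * q) m := rfl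

include hsi ht hker in
theorem shortExact_module (M : ModuleCat.{u} P) :
    ∃ h : mulT i t M ≫ proj i s hsi M = 0, (ShortComplex.mk _ _ h).ShortExact := by
  letI := i.toAlgebra
  have hst : s t = 0 := (hker t).2 dvd_rfl
  have hsi' : ∀ p, s (i p) = p := fun p => RingHom.congr_fun hsi p
  have hz : mulT i t M ≫ proj i s hsi M = 0 := by
    refine ModuleCat.hom_ext (LinearMap.ext fun z => ?_)
    induction z using RB_induction i with
    | h0 => exact (map_zero _).trans (map_zero _).symm
    | ha x y hx hy => exact (map_add _ x y).trans ((congrArg₂ (· + ·) hx hy).trans (map_add _ x y).symm)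
    | ht q m => ?_
    show (proj i s hsi M).hom ((mulT i t M).hom (tm i q m)) = 0
    rw [mulT_tmul, proj_tmul, map_mul, hst, zero_mul, zero_smul]
  have hdvd : ∀ q : Q, ∃ a, t * a = q - i (s q) := fun q => by
    obtain ⟨a, ha⟩ := (hker (q - i (s q))).1 (by rw [map_sub, hsi', sub_self])
    exact ⟨a, ha.symm⟩
  choose r hr using hdvd
  let rL : Q →ₗ[P] Q :=
    { toFun := r
      map_add' := fun a b => ht (by
        show t * r (a + b) = t * (r a + r b)
        rw [mul_add, hr, hr, hr, map_add, map_add]; ring)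
      map_smul' := fun p a => ht (by
        show t * r (i p * a) = t * (i p * r a)
        rw [mul_left_comm, hr, hr, map_mul, hsi', map_mul, mul_sub]) }
  let Rlin : Q ⊗[P] (M : Type u) →ₗ[P] Q ⊗[P] (M : Type u) := LinearMap.rTensor (M : Type u) rL
  let R : RB i M → RB i M := fun z => Rlin z
  have R0 : R 0 = 0 := map_zero Rlin
  have Radd : ∀ x y, R (x + y) = R x + R y := map_add Rlin
  have hR : ∀ z : RB i M, R ((mulT i t M).hom z) = z := fun z => by
    induction z using RB_induction i with
    | h0 => exact (congrArg R (map_zero (mulT i t M).hom)).trans R0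
    | ht q m =>
      rw [mulT_tmul]
      refine (LinearMap.rTensor_tmul (M : Type u) rL m (t * q)).trans ?_
      show r (t * q) ⊗ₜ[P] m = q ⊗ₜ[P] m
      congr 1
      refine ht ?_
      show t * r (t * q) = t * q
      rw [hr, map_mul, hst, zero_mul, map_zero, sub_zero]
    | ha x y hx hy =>
      exact (congrArg R (map_add (mulT i t M).hom x y)).trans ((Radd _ _).trans (congrArg₂ (· + ·) hx hy))
  have t0 : ∀ q : Q, tm i q (0 : M) = 0 := fun q => TensorProduct.tmul_zero (M : Type u) q
  have tadd : ∀ (q : Q) (a b : M), tm i q (a + b) = tm i q a + tm i q b := fun q a b => TensorProduct.tmul_add q a b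
  have hdec : ∀ z : RB i M, (mulT i t M).hom (R z) + tm i 1 ((proj i s hsi M).hom z) = z := fun z => by
    induction z using RB_induction i with
    | h0 => rw [R0, map_zero, map_zero, t0, add_zero]
    | ht q m =>
      rw [proj_tmul, show R (tm i q m) = tm i (r q) m from LinearMap.rTensor_tmul (M : Type u) rL m q, mulT_tmul]
      show (t * r q) ⊗ₜ[P] m + (1 : Q) ⊗ₜ[P] (s q • m) = q ⊗ₜ[P] m
      rw [tmul_smul, smul_tmul', Algebra.smul_def, mul_one, ← add_tmul]
      congr 1
      show t * r q + i (s q) = q
      rw [hr, sub_add_cancel]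
    | ha x y hx hy =>
        rw [Radd, map_add, map_add, tadd]
        conv_rhs => rw [← hx, ← hy]
        abel
  refine ⟨hz, { exact := ?_, mono_f := (ModuleCat.mono_iff_injective _).2 fun a b h => ?_, epi_g := ?_ }⟩
  · rw [ShortComplex.moduleCat_exact_iff]
    intro (z : RB i M) hzz
    refine ⟨R z, ?_⟩
    have h := hdec z
    rw [show (proj i s hsi M).hom z = 0 from hzz, t0, add_zero] at h
    exact h
  · exact (hR a).symm.trans ((congrArg R h).trans (hR b))
  · exact (ModuleCat.epi_iff_surjective _).2 fun m => ⟨tm i 1 m, by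
      show (proj i s hsi M).hom (tm i 1 m) = m
      rw [proj_tmul, map_one, one_smul]⟩

variable [PreservesFiniteLimits (ModuleCat.extendScalars.{u, u, u} i)]

include hsi ht hker in
/-- **The right adjoint of restriction along a section kills the base change, up to a shift.** -/
theorem nonempty_step (Rs : Dual.D Q ⥤ Dual.D P) (adj : DRing.restrictD s ⊣ Rs) (L : Dual.D P) :
    Nonempty ((Rs.obj ((ModuleCat.extendScalars.{u, u, u} i).mapDerivedCategory.obj L))⟦(1 : ℤ)⟧ ≅ L) := by
  haveI : (DerivedCategory.Q (C := ModuleCat.{u} P)).EssSurj :=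
    Localization.essSurj _ (HomologicalComplex.quasiIso (ModuleCat.{u} P) (ComplexShape.up ℤ))
  let C : DRing.Cx P := DerivedCategory.Q.objPreimage L
  let eC : DRing.toD C ≅ L := DerivedCategory.Q.objObjPreimageIso L
  let Eb := (ModuleCat.extendScalars.{u, u, u} i).mapHomologicalComplex (ComplexShape.up ℤ)
  let Er := (ModuleCat.restrictScalars.{u} i).mapHomologicalComplex (ComplexShape.up ℤ)
  let τ : Er.obj (Eb.obj C) ⟶ Er.obj (Eb.obj C) := Er.map (t • 𝟙 (Eb.obj C))
  let π : Er.obj (Eb.obj C) ⟶ C :=
    { f := fun n => proj i s hsi (C.X n)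
      comm' := fun n m _ => (proj_naturality i s hsi (C.d n m)).symm }
  have hτπ : τ ≫ π = 0 :=
    HomologicalComplex.hom_ext _ _ fun n => (shortExact_module i s hsi t ht hker (C.X n)).fst
  have hS : (ShortComplex.mk τ π hτπ).ShortExact :=
    HomologicalComplex.shortExact_of_degreewise_shortExact _ fun n => (shortExact_module i s hsi t ht hker (C.X n)).snd
  let M : Dual.D Q := (ModuleCat.extendScalars.{u, u, u} i).mapDerivedCategory.obj L
  let eM : DRing.toD (Eb.obj C) ≅ M :=
    ((ModuleCat.extendScalars.{u, u, u} i).mapDerivedCategoryFactors.app C).symm ≪≫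
      (ModuleCat.extendScalars.{u, u, u} i).mapDerivedCategory.mapIso eC
  obtain ⟨u, w, hT⟩ := exists_triangle s (fun p => ⟨i p, RingHom.congr_fun hsi p⟩) Rs adj M t
    (mem_nonZeroDivisors_iff_right.2 fun q hq => ht (by show t * q = t * 0; rw [mul_comm, hq, mul_zero]))
    hker
  let ri := DRing.restrictD i
  let eN : DRing.toD (Er.obj (Eb.obj C)) ≅ ri.obj M :=
    ((ModuleCat.restrictScalars.{u} i).mapDerivedCategoryFactors.app (Eb.obj C)).symm ≪≫ ri.mapIso eM
  have h1 := rot_of_distTriang _ (ri.map_distinguished _ hT)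
  have h2 := DerivedCategory.triangleOfSES_distinguished hS
  have hcomm : ri.map (t • 𝟙 M) ≫ eN.inv = eN.inv ≫ DerivedCategory.Q.map τ := by
    have e1 : (t • 𝟙 M) ≫ eM.inv = eM.inv ≫ DerivedCategory.Q.map (t • 𝟙 (Eb.obj C)) := by
      rw [Functor.map_smul, CategoryTheory.Functor.map_id, Linear.smul_comp, Linear.comp_smul, Category.id_comp]
      exact congrArg (t • ·) (Category.comp_id eM.inv).symm
    have e2 := (ModuleCat.restrictScalars.{u} i).mapDerivedCategoryFactors.hom.naturality (t • 𝟙 (Eb.obj C))
    simp only [eN, Iso.trans_inv, Iso.symm_inv, Functor.mapIso_inv, Iso.app_hom]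
    rw [← Category.assoc, ← Functor.map_comp, e1, Functor.map_comp, Category.assoc, Category.assoc]
    exact congrArg (ri.map eM.inv ≫ ·) e2
  let eT := isoTriangleOfIso₁₂ _ _ h1 h2 eN.symm eN.symm hcomm
  let e3 : (ri.obj ((DRing.restrictD s).obj (Rs.obj M)))⟦(1 : ℤ)⟧ ≅ DRing.toD C := Triangle.π₃.mapIso eT
  exact ⟨(shiftFunctor (Dual.D P) (1 : ℤ)).mapIso ((resComp i s hsi).symm.app (Rs.obj M)) ≪≫ e3 ≪≫ eC⟩

end GrothLib.DualRing.Shriek
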