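import Groth.Agent.Lib.DualRing.BCHom
import Groth.Agent.Lib.DualRing.ActTens
import Groth.Agent.Lib.DualRing.ShriekRel

/-! # The right adjoint of restriction commutes with tor independent base change -/

set_option autoImplicit false
set_option linter.style.haveILetI false
set_option maxHeartbeats 800000
universe u

open CategoryTheory CategoryTheory.Limits CochainComplex CochainComplex.HomComplex HomologicalComplex GrothLib.DualCx22
open scoped TensorProduct
open GrothLib.RH (oneCx)
open GrothLib.DualRing.Shriek (RA radj)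

attribute [local instance] HasDerivedCategory.standard

namespace GrothLib.DualRing.Act

/-- Maps equal in the derived category out of a K-projective complex stay equal after base change. -/
theorem Q_bc_map_eq {P P' : Type u} [CommRing P] [CommRing P'] (ρ : P →+* P') {K L : DRing.Cx P} [K.IsKProjective]
    {f g : K ⟶ L} (h : DerivedCategory.Q.map f = DerivedCategory.Q.map g) :
    DerivedCategory.Q.map ((DR.bc ρ).map f) = DerivedCategory.Q.map ((DR.bc ρ).map g) := by
  let eA := DerivedCategory.quotientCompQhIso (ModuleCat.{u} P)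
  have h1 : (HomotopyCategory.quotient (ModuleCat.{u} P) (ComplexShape.up ℤ)).map f =
      (HomotopyCategory.quotient (ModuleCat.{u} P) (ComplexShape.up ℤ)).map g := by
    apply (CochainComplex.IsKProjective.Qh_map_bijective K ((HomotopyCategory.quotient _ _).obj L)).1
    rw [← cancel_mono (eA.hom.app L)]
    exact (eA.hom.naturality f).trans ((congrArg (eA.hom.app K ≫ ·) h).trans (eA.hom.naturality g).symm)
  exact Q_map_eq_of_homotopy ((ModuleCat.extendScalars.{u, u, u} ρ).mapHomotopy (HomotopyCategory.homotopyOfEq f g h1))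

/-- Maps equal in the derived category have equal images under the homomorphisms out of a K-projective complex. -/
theorem Q_homCxMap_eq {P : Type u} [CommRing P] {K L L' : DRing.Cx P} [K.IsKProjective] {f g : L ⟶ L'}
    (h : DerivedCategory.Q.map f = DerivedCategory.Q.map g) :
    DerivedCategory.Q.map (DRing.homCxMap K f) = DerivedCategory.Q.map (DRing.homCxMap K g) := by
  have hF : (HomologicalComplex.quasiIso (ModuleCat.{u} P) (ComplexShape.up ℤ)).IsInvertedBy (DRing.homCxQ K) :=
    fun _ _ w hw => by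
      haveI : QuasiIso w := hw
      haveI := quasiIso_homCxMap (K := K) w
      exact inferInstanceAs (IsIso (DerivedCategory.Q.map (DRing.homCxMap K w)))
  let e := Localization.fac (DRing.homCxQ K) hF DerivedCategory.Q
  refine (cancel_epi (e.hom.app L)).1 ?_
  exact (e.hom.naturality f).symm.trans ((congrArg (fun t => (Localization.lift (DRing.homCxQ K) hF
    DerivedCategory.Q).map t ≫ e.hom.app L') h).trans (e.hom.naturality g))

theorem homCxMap_comp {P : Type u} [CommRing P] (E : DRing.Cx P) {L L' L'' : DRing.Cx P} (f : L ⟶ L') (g : L' ⟶ L'') :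
    DRing.homCxMap E (f ≫ g) = DRing.homCxMap E f ≫ DRing.homCxMap E g :=
  (DRing.homCxFunctor E).map_comp f g

section Square

variable {P B P' B' : Type u} [CommRing P] [CommRing B] [CommRing P'] [CommRing B']
  {φ : P →+* B} {ρ : P →+* P'} {α : B →+* B'} {φ' : P' →+* B'} (h : α.comp φ = φ'.comp ρ)
  {E : DRing.Cx P}

/-- The value of a resolution in degree zero. -/
noncomputable abbrev srcVal (ψ : P →+* B) {K : DRing.Cx P} (ε : K ⟶ srcCx ψ) (e : K.X 0) : B :=
  (singleObjXSelf (ComplexShape.up ℤ) 0 ((ModuleCat.restrictScalars.{u} ψ).obj (ModuleCat.of B B))).hom (ε.f 0 e)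

/-- The action commutes with base change. -/
theorem bc_act (ε : E ⟶ srcCx φ) (ε' : (DR.bc ρ).obj E ⟶ srcCx φ')
    (hε' : letI := ρ.toAlgebra; ∀ e : E.X 0, srcVal φ' ε' ((1 : P') ⊗ₜ[P] e) = α (srcVal φ ε e))
    (Q : DRing.Cx B) :
    (DR.bc ρ).map (act φ ε Q) ≫ cmpM ρ E ((DRing.restrictCx φ).obj Q) ≫
        DRing.homCxMap ((DR.bc ρ).obj E) (DR.canCx h Q) =
      DR.canCx h Q ≫ act φ' ε' ((DR.bc α).obj Q) := by
  refine bc_hom_ext ρ fun n x => ?_
  letI := ρ.toAlgebra
  letI := α.toAlgebra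
  have hc : ∀ (i : ℤ) (y : Q.X i), (DR.canCx h Q).f i ((1 : P') ⊗ₜ[P] (show ((DRing.restrictCx φ).obj Q).X i from y)) =
      (show ((DRing.restrictCx φ').obj ((DR.bc α).obj Q)).X i from (1 : B') ⊗ₜ[B] y) :=
    fun i y => transpose_one_tmul ρ ((DR.toResBC h Q).f i) y
  change (DRing.homCxMap ((DR.bc ρ).obj E) (DR.canCx h Q)).f n
      ((cmpM ρ E _).f n ((1 : P') ⊗ₜ[P] ((act φ ε Q).f n x))) =
    (act φ' ε' ((DR.bc α).obj Q)).f n ((DR.canCx h Q).f n ((1 : P') ⊗ₜ[P] x))
  rw [cmpM_one_tmul, hc n x]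
  refine Cochain.ext _ _ fun r t hrt =>
    ((ModuleCat.extendRestrictScalarsAdj.{u, u, u} ρ).homEquiv _ _).injective
      (ModuleCat.hom_ext (LinearMap.ext fun e => ?_))
  change ((((act φ ε Q).f n x : Cochain E _ n).map (ModuleCat.extendScalars.{u, u, u} ρ)).comp
      (Cochain.ofHom (DR.canCx h Q)) (add_zero n)).v r t hrt ((1 : P') ⊗ₜ[P] e) =
    ((act φ' ε' ((DR.bc α).obj Q)).f n _).v r t hrt ((1 : P') ⊗ₜ[P] e)
  rw [Cochain.comp_zero_cochain_v, Cochain.ofHom_v]
  refine (ConcreteCategory.comp_apply _ _ _).trans ?_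
  change (DR.canCx h Q).f t ((1 : P') ⊗ₜ[P] (((act φ ε Q).f n x).v r t hrt e)) = _
  by_cases hr : r = 0
  · subst hr
    obtain rfl : t = n := by omega
    refine (congrArg (fun y => (DR.canCx h Q).f t ((1 : P') ⊗ₜ[P] y)) (act_v_zero φ ε Q t x e)).trans ?_
    refine (hc t _).trans (Eq.trans ?_ (act_v_zero φ' ε' ((DR.bc α).obj Q) t _ _).symm)
    change (1 : B') ⊗ₜ[B] (srcVal φ ε e • (show Q.X t from x)) =
      srcVal φ' ε' ((1 : P') ⊗ₜ[P] e) • ((1 : B') ⊗ₜ[B] (show Q.X t from x))
    rw [hε', TensorProduct.tmul_smul]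
    exact algebra_compatible_smul B' _ ((1 : B') ⊗ₜ[B] (show Q.X t from x))
  · rw [act_v_ne_zero φ ε Q n r t hrt hr x]
    erw [act_v_ne_zero φ' ε' _ n r t hrt hr]
    change (DR.canCx h Q).f t ((1 : P') ⊗ₜ[P] (0 : _)) = 0
    exact (congrArg ((DR.canCx h Q).f t) (TensorProduct.tmul_zero _ (1 : P'))).trans (map_zero _)

/-- The resolution after base change. -/
theorem exists_eps_bc (hpo : DR.IsPushoutHom φ ρ α φ' h)
    (hT : letI := φ.toAlgebra; letI := ρ.toAlgebra; ∀ p : ℕ, 1 ≤ p → Subsingleton (DRing.Tor P p B P'))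
    (hE : GrothLib.KF.IsKFlat E) (ε : E ⟶ srcCx φ) [QuasiIso ε] :
    ∃ ε' : (DR.bc ρ).obj E ⟶ srcCx φ', QuasiIso ε' ∧
      (letI := ρ.toAlgebra; ∀ e : E.X 0, srcVal φ' ε' ((1 : P') ⊗ₜ[P] e) = α (srcVal φ ε e)) := by
  let M := (ModuleCat.restrictScalars.{u} φ).obj (ModuleCat.of B B)
  let M' := (ModuleCat.restrictScalars.{u} φ').obj (ModuleCat.of B' B')
  -- the resolution as a map to the restriction of a K-flat complex
  let i := (HomologicalComplex.singleMapHomologicalComplex (ModuleCat.restrictScalars.{u} φ) (ComplexShape.up ℤ) 0).app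
    (ModuleCat.of B B)
  have hB : GrothLib.KF.IsKFlat (oneCx B) := GrothLib.KF.isKFlat_single (ModuleCat.of B B) (inferInstanceAs (Module.Flat B B)) 0
  have hq : QuasiIso ((DR.bc ρ).map (ε ≫ i.inv)) := DR.quasiIso_bc_map_of_torIndep φ ρ hT hB hE (ε ≫ i.inv)
  have hε : QuasiIso ((DR.bc ρ).map ε) := by
    rw [Functor.map_comp] at hq
    haveI := hq
    exact quasiIso_of_comp_right _ ((DR.bc ρ).map i.inv)
  -- the comparison of modules
  letI := φ.toAlgebra
  letI := ρ.toAlgebra
  letI := α.toAlgebra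
  letI := φ'.toAlgebra
  letI := (α.comp φ).toAlgebra
  haveI : IsScalarTower P B B' := IsScalarTower.of_algebraMap_eq' rfl
  haveI : IsScalarTower P P' B' := IsScalarTower.of_algebraMap_eq' h
  haveI hpo' : Algebra.IsPushout P P' B B' := hpo
  let e : P' ⊗[P] B ≃ₐ[P'] B' := Algebra.IsPushout.equiv P P' B B'
  let g : M ⟶ (ModuleCat.restrictScalars.{u} ρ).obj M' :=
      (ModuleCat.ofHom (X := M) (Y := (ModuleCat.restrictScalars.{u} ρ).obj M')
        { toFun := fun b : B => (α b : B')
          map_add' := map_add α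
          map_smul' := fun p (b : B) => by
            change α (φ p * b) = φ' (ρ p) * α b
            rw [map_mul, ← RingHom.comp_apply, h]
            rfl })
  let μ : (ModuleCat.extendScalars.{u, u, u} ρ).obj M ⟶ M' :=
    ((ModuleCat.extendRestrictScalarsAdj.{u, u, u} ρ).homEquiv M M').symm g
  have hμ1 : ∀ b : B, μ ((1 : P') ⊗ₜ[P] b) = α b := fun b => transpose_one_tmul ρ g b
  haveI : IsIso μ := by
    rw [ConcreteCategory.isIso_iff_bijective]
    let L : P' ⊗[P] B → B' := fun z => μ z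
    have key : ∀ z, L z = e z := by
      intro z
      induction z using TensorProduct.induction_on with
      | zero => exact (map_zero μ.hom).trans (map_zero e).symm
      | add x y hx hy => exact (map_add μ.hom x y).trans ((congrArg₂ (· + ·) hx hy).trans (map_add e x y).symm)
      | tmul q b =>
        rw [Algebra.IsPushout.equiv_tmul]
        refine Eq.trans ?_ ((map_smul μ.hom q ((1 : P') ⊗ₜ[P] b)).trans (congrArg (φ' q * ·) (hμ1 b)))
        refine congrArg L ?_
        rw [TensorProduct.smul_tmul', smul_eq_mul, mul_one]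
    have : Function.Bijective L := by
      rw [show L = e from funext key]
      exact e.bijective
    exact this
  let S := (HomologicalComplex.single (ModuleCat.{u} P') (ComplexShape.up ℤ) 0).map μ
  haveI : IsIso S := inferInstance
  refine ⟨(DR.bc ρ).map ε ≫
    (HomologicalComplex.singleMapHomologicalComplex (ModuleCat.extendScalars.{u, u, u} ρ) (ComplexShape.up ℤ) 0).hom.app M ≫ S,
    inferInstance, fun x => ?_⟩
  change (singleObjXSelf (ComplexShape.up ℤ) 0 M').hom
    (S.f 0 ((((HomologicalComplex.singleMapHomologicalComplex (ModuleCat.extendScalars.{u, u, u} ρ) (ComplexShape.up ℤ) 0).hom.app M)).f 0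
      ((1 : P') ⊗ₜ[P] (ε.f 0 x)))) = _
  rw [HomologicalComplex.singleMapHomologicalComplex_hom_app_self, HomologicalComplex.single_map_f_self]
  simp only [ConcreteCategory.comp_apply, Iso.inv_hom_id_apply]
  exact hμ1 _

/-- **Base change of the relative dual along a tor independent cocartesian square.** -/
theorem nonempty_RA_bc (hpo : DR.IsPushoutHom φ ρ α φ' h)
    (hT : letI := φ.toAlgebra; letI := ρ.toAlgebra; ∀ p : ℕ, 1 ≤ p → Subsingleton (DRing.Tor P p B P'))
    {a b : ℤ} (hE : DRing.TermwiseFiniteProjective E) (hab : DRing.VanishesOutside E a b) (ε : E ⟶ srcCx φ)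
    [QuasiIso ε] (Q : DRing.Cx B) (hQ : GrothLib.KF.IsKFlat Q)
    (eQ : DRing.toD Q ≅ (RA φ).obj (Dual.inD P P)) :
    Nonempty ((RA φ').obj (Dual.inD P' P') ≅ DRing.toD ((DR.bc α).obj Q)) := by
  haveI hEP : E.IsKProjective := DR.isKProjective E b (fun i hi => hab i (Or.inr hi)) (fun i => (hE i).2)
  let E' := (DR.bc ρ).obj E
  haveI : E'.IsKProjective := DR.isKProjective E' b
    (fun i hi => (ModuleCat.extendScalars.{u, u, u} ρ).map_isZero (hab i (Or.inr hi)))
    (fun i => letI := ρ.toAlgebra; haveI := (hE i).2; inferInstanceAs (Module.Projective P' (P' ⊗[P] (E.X i))))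
  have hEF : GrothLib.KF.IsKFlat E := GrothLib.KF.isKFlat_of_bounded_above _ b (fun i hi => hab i (Or.inr hi))
    fun i => haveI := (hE i).2; inferInstanceAs (Module.Flat P (E.X i))
  obtain ⟨ε', hε', hv⟩ := exists_eps_bc h hpo hT hEF ε
  haveI := hε'
  -- the strictly perfect dual
  let D := DRing.homCx E (oneCx P)
  have hDp := GrothLib.RH.termwiseFiniteProjective_dual hE
  have hDv := GrothLib.RH.vanishesOutside_dual hab
  haveI : D.IsKProjective := DR.isKProjective D (-a) (fun i hi => hDv i (Or.inr hi)) (fun i => (hDp i).2)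
  have hDF : GrothLib.KF.IsKFlat D := GrothLib.KF.isKFlat_of_bounded_above _ (-a) (fun i hi => hDv i (Or.inr hi))
    fun i => haveI := (hDp i).2; inferInstanceAs (Module.Flat P (D.X i))
  -- the action over the base
  obtain ⟨J, hJ, ⟨eJ⟩⟩ := GrothLib.RH.exists_kInjective_rep (Dual.inD P P)
  haveI := isKInjective_coI φ J
  obtain ⟨eR⟩ := nonempty_coI_iso φ J (RA φ) (radj φ)
  obtain ⟨G, hG⟩ := GrothLib.DR.exists_lift_inj (eQ ≪≫ (RA φ).mapIso eJ ≪≫ eR.symm).hom
  haveI : QuasiIso G := (DerivedCategory.isIso_Q_map_iff_quasiIso (ModuleCat.{u} B) G).1 (by rw [hG]; infer_instance)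
  let γ : (DRing.restrictCx φ).obj Q ⟶ J := ((cxAdj φ).homEquiv Q J).symm G
  haveI hC : QuasiIso (act φ ε Q ≫ DRing.homCxMap E γ) :=
    (quasiIso_homEquiv_iff φ ε Q γ).1 (by rw [Equiv.apply_symm_apply]; infer_instance)
  let e1 : DRing.toD (oneCx P) ≅ Dual.inD P P :=
    ((DerivedCategory.singleFunctorIsoCompQ (ModuleCat.{u} P) 0).app _).symm
  obtain ⟨u, hu⟩ := GrothLib.DR.exists_lift_inj (e1 ≪≫ eJ).hom
  haveI : QuasiIso u := (DerivedCategory.isIso_Q_map_iff_quasiIso (ModuleCat.{u} P) u).1 (by rw [hu]; infer_instance)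
  haveI := quasiIso_homCxMap (K := E) u
  -- lifts out of the dual
  obtain ⟨q, hq⟩ := DR.exists_lift D
    (DerivedCategory.Q.map (DRing.homCxMap E u) ≫ inv (DerivedCategory.Q.map (act φ ε Q ≫ DRing.homCxMap E γ)))
  haveI : QuasiIso q := (DerivedCategory.isIso_Q_map_iff_quasiIso (ModuleCat.{u} P) q).1 (by rw [hq]; infer_instance)
  obtain ⟨ev, hev⟩ := DR.exists_lift D (DerivedCategory.Q.map (q ≫ γ) ≫ inv (DerivedCategory.Q.map u))
  haveI := quasiIso_homCxMap (K := E) q
  obtain ⟨s, hs⟩ := DR.exists_lift D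
    (DerivedCategory.Q.map (q ≫ act φ ε Q) ≫ inv (DerivedCategory.Q.map (DRing.homCxMap E q)))
  have hsq : DerivedCategory.Q.map (s ≫ DRing.homCxMap E q) = DerivedCategory.Q.map (q ≫ act φ ε Q) := by
    rw [Functor.map_comp, hs, Category.assoc, IsIso.inv_hom_id, Category.comp_id]
  have hevu : DerivedCategory.Q.map (ev ≫ u) = DerivedCategory.Q.map (q ≫ γ) := by
    rw [Functor.map_comp, hev, Category.assoc, IsIso.inv_hom_id, Category.comp_id]
  have hT1 : DerivedCategory.Q.map (s ≫ DRing.homCxMap E ev) = DerivedCategory.Q.map (𝟙 D) := by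
    rw [← cancel_mono (DerivedCategory.Q.map (DRing.homCxMap E u)), ← Functor.map_comp, ← Functor.map_comp,
      Category.id_comp, Category.assoc, ← homCxMap_comp,
      Functor.map_comp, Q_homCxMap_eq hevu, ← Functor.map_comp,
      homCxMap_comp, ← Category.assoc, Functor.map_comp]
    change DerivedCategory.Q.map (s ≫ DRing.homCxMap E q) ≫ DerivedCategory.Q.map (DRing.homCxMap E γ) = _
    rw [hsq, ← Functor.map_comp, Category.assoc, Functor.map_comp, hq, Category.assoc, IsIso.inv_hom_id,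
      Category.comp_id]
  -- over the new base
  let X := (DR.bc α).obj Q
  let c := DR.canCx h Q
  haveI := DR.isIso_canCx h hpo Q
  haveI := DR.quasiIso_bc_map_of_torIndep φ ρ hT hQ hDF q
  obtain ⟨J', u', hu', hJ'⟩ := GrothLib.RH.exists_resolution ((DR.bc ρ).obj (oneCx P))
  haveI := hu'
  haveI := hJ'
  obtain ⟨γ', hγ'⟩ := GrothLib.DR.exists_lift_inj
    (inv (DerivedCategory.Q.map c) ≫ inv (DerivedCategory.Q.map ((DR.bc ρ).map q)) ≫
      DerivedCategory.Q.map ((DR.bc ρ).map ev ≫ u'))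
  have hγ : DerivedCategory.Q.map ((DR.bc ρ).map q ≫ c ≫ γ') = DerivedCategory.Q.map ((DR.bc ρ).map ev ≫ u') := by
    rw [Functor.map_comp, Functor.map_comp _ c, hγ', IsIso.hom_inv_id_assoc, IsIso.hom_inv_id_assoc]
  haveI := isIso_cmpM_one ρ E hE
  haveI := quasiIso_homCxMap (K := E') u'
  have main : DerivedCategory.Q.map ((DR.bc ρ).map q ≫ c ≫ act φ' ε' X ≫ DRing.homCxMap E' γ') =
      DerivedCategory.Q.map (cmpM ρ E (oneCx P) ≫ DRing.homCxMap E' u') :=
    calc DerivedCategory.Q.map ((DR.bc ρ).map q ≫ c ≫ act φ' ε' X ≫ DRing.homCxMap E' γ')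
        = DerivedCategory.Q.map ((DR.bc ρ).map (q ≫ act φ ε Q)) ≫
            DerivedCategory.Q.map (cmpM ρ E _ ≫ DRing.homCxMap E' (c ≫ γ')) := by
          rw [← Functor.map_comp, homCxMap_comp E' c γ',
            Functor.map_comp (DR.bc ρ)]
          refine congrArg DerivedCategory.Q.map ?_
          rw [← reassoc_of% (bc_act h ε ε' hv Q)]
          simp only [Category.assoc]
          rfl
      _ = DerivedCategory.Q.map ((DR.bc ρ).map (s ≫ DRing.homCxMap E q)) ≫
            DerivedCategory.Q.map (cmpM ρ E _ ≫ DRing.homCxMap E' (c ≫ γ')) := by rw [Q_bc_map_eq ρ hsq]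
      _ = DerivedCategory.Q.map ((DR.bc ρ).map s ≫ cmpM ρ E D) ≫
            DerivedCategory.Q.map (DRing.homCxMap E' ((DR.bc ρ).map q ≫ c ≫ γ')) := by
          rw [← Functor.map_comp, ← Functor.map_comp, Functor.map_comp (DR.bc ρ),
            homCxMap_comp E' ((DR.bc ρ).map q) (c ≫ γ')]
          refine congrArg DerivedCategory.Q.map ?_
          simp only [Category.assoc]
          rw [reassoc_of% (cmpM_natural ρ E q)]
      _ = DerivedCategory.Q.map ((DR.bc ρ).map s ≫ cmpM ρ E D) ≫
            DerivedCategory.Q.map (DRing.homCxMap E' ((DR.bc ρ).map ev ≫ u')) := by rw [Q_homCxMap_eq hγ]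
      _ = DerivedCategory.Q.map ((DR.bc ρ).map (s ≫ DRing.homCxMap E ev)) ≫
            DerivedCategory.Q.map (cmpM ρ E (oneCx P) ≫ DRing.homCxMap E' u') := by
          rw [← Functor.map_comp, ← Functor.map_comp, Functor.map_comp (DR.bc ρ),
            homCxMap_comp E' ((DR.bc ρ).map ev) u']
          refine congrArg DerivedCategory.Q.map ?_
          simp only [Category.assoc]
          rw [reassoc_of% (cmpM_natural ρ E ev)]
      _ = _ := by
          rw [Q_bc_map_eq ρ hT1, CategoryTheory.Functor.map_id, CategoryTheory.Functor.map_id, Category.id_comp]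
  haveI : QuasiIso ((DR.bc ρ).map q ≫ c ≫ act φ' ε' X ≫ DRing.homCxMap E' γ') := by
    rw [← DerivedCategory.isIso_Q_map_iff_quasiIso, main]
    infer_instance
  haveI : QuasiIso (act φ' ε' X ≫ DRing.homCxMap E' γ') := by
    haveI := quasiIso_of_comp_left ((DR.bc ρ).map q) (c ≫ act φ' ε' X ≫ DRing.homCxMap E' γ')
    exact quasiIso_of_comp_left c _
  haveI : QuasiIso ((cxAdj φ').homEquiv X J' γ') := (quasiIso_homEquiv_iff φ' ε' X γ').2 inferInstance
  obtain ⟨eR'⟩ := nonempty_coI_iso φ' J' (RA φ') (radj φ')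
  let eM : Dual.inD P' P' ≅ DRing.toD J' :=
    (DerivedCategory.singleFunctorIsoCompQ (ModuleCat.{u} P') 0).app _ ≪≫
      (DerivedCategory.Q.mapIso (bcOne ρ)).symm ≪≫ asIso (DerivedCategory.Q.map u')
  exact ⟨(RA φ').mapIso eM ≪≫ eR'.symm ≪≫ (asIso (DerivedCategory.Q.map ((cxAdj φ').homEquiv X J' γ'))).symm⟩

end Square

end GrothLib.DualRing.Act
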