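import Groth.Agent.Lib.DualCx22.CoTriangle
import Groth.Agent.Lib.KInj.Resolution
import Groth.Agent.Lib.DCxRHom.HomProps

/-! # The evaluation triangle for an arbitrary complex -/

set_option autoImplicit false
set_option linter.style.haveILetI false
universe u

open CategoryTheory CategoryTheory.Limits CategoryTheory.Pretriangulated GrothLib.DualCx22

attribute [local instance] HasDerivedCategory.standard

namespace GrothLib.DualRing.Shriek

variable {A B : Type u} [CommRing A] [CommRing B] (φ : A →+* B)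

theorem exists_injective_rep (X : Dual.D A) :
    ∃ I : DRing.Cx A, I.IsKInjective ∧ (∀ n, Injective (I.X n)) ∧ Nonempty (DRing.toD I ≅ X) := by
  haveI : (DerivedCategory.Q (C := ModuleCat.{u} A)).EssSurj :=
    Localization.essSurj _ (HomologicalComplex.quasiIso (ModuleCat.{u} A) (ComplexShape.up ℤ))
  obtain ⟨I, i, hi, hI, hinj⟩ := GrothLib.KInj.exists_kInjective_resolution (ModuleCat.{u} A) (DerivedCategory.Q.objPreimage X)
  exact ⟨I, hI, hinj, ⟨(asIso (DerivedCategory.Q.map i)).symm ≪≫ DerivedCategory.Q.objObjPreimageIso X⟩⟩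

/-- **The triangle of a nonzerodivisor, for every complex.** -/
theorem exists_triangle (hs : Function.Surjective φ) (R : Dual.D A ⥤ Dual.D B) (adj : DRing.restrictD φ ⊣ R)
    (M : Dual.D A) (f : A) (hf : f ∈ nonZeroDivisors A) (hker : ∀ a, φ a = 0 ↔ f ∣ a) :
    ∃ (u : (DRing.restrictD φ).obj (R.obj M) ⟶ M) (w : M ⟶ ((DRing.restrictD φ).obj (R.obj M))⟦(1 : ℤ)⟧),
      Triangle.mk u (f • 𝟙 M) w ∈ distinguishedTriangles := by
  obtain ⟨I, hI, hinj, ⟨iso⟩⟩ := exists_injective_rep M
  haveI := hI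
  have hz : coEv φ I ≫ (f • 𝟙 I) = 0 := by
    refine HomologicalComplex.hom_ext _ _ fun n => ModuleCat.hom_ext (LinearMap.ext fun g => ?_)
    exact (evOne_mem φ (I.X n) f ((hker f).2 dvd_rfl) g :)
  let S := ShortComplex.mk (coEv φ I) (f • 𝟙 I) hz
  have hS : S.ShortExact := by
    refine HomologicalComplex.shortExact_of_degreewise_shortExact S fun n => ?_
    haveI := hinj n
    have hm : Mono (S.map (HomologicalComplex.eval _ _ n)).f :=
      (ModuleCat.mono_iff_injective _).2 (evOne_injective φ hs (I.X n) :)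
    have he : Epi (S.map (HomologicalComplex.eval _ _ n)).g :=
      (ModuleCat.epi_iff_surjective _).2 fun x => (smul_surjective_of_injective (M := I.X n) hf x :)
    refine { exact := ?_, mono_f := hm, epi_g := he }
    rw [ShortComplex.moduleCat_exact_iff]
    intro (x : I.X n) hx
    replace hx : f • x = 0 := hx
    refine (exists_evOne_eq φ hs (I.X n) x fun a ha => ?_ :)
    obtain ⟨c, rfl⟩ := (hker a).1 ha
    rw [mul_comm, ← smul_smul, hx, smul_zero]
  obtain ⟨c⟩ := nonempty_coI_iso φ I R adj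
  let e₁ : DRing.toD S.X₁ ≅ (DRing.restrictD φ).obj (R.obj M) :=
    ((ModuleCat.restrictScalars.{u} φ).mapDerivedCategoryFactors.app (coI φ I)).symm ≪≫
      (DRing.restrictD φ).mapIso (c ≪≫ R.mapIso iso)
  refine ⟨e₁.inv ≫ DerivedCategory.Q.map (coEv φ I) ≫ iso.hom,
    iso.inv ≫ DerivedCategory.triangleOfSESδ hS ≫ e₁.hom⟦(1 : ℤ)⟧', ?_⟩
  refine Pretriangulated.isomorphic_distinguished _ (DerivedCategory.triangleOfSES_distinguished hS) _
    (Triangle.isoMk _ _ e₁.symm iso.symm iso.symm ?_ ?_ ?_)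
  · change (e₁.inv ≫ DerivedCategory.Q.map (coEv φ I) ≫ iso.hom) ≫ iso.inv =
      e₁.inv ≫ DerivedCategory.Q.map (coEv φ I)
    rw [Category.assoc, Category.assoc, iso.hom_inv_id]
    exact congrArg (e₁.inv ≫ ·) (Category.comp_id _)
  · change (f • 𝟙 M) ≫ iso.inv = iso.inv ≫ DerivedCategory.Q.map (f • 𝟙 I)
    rw [Functor.map_smul, CategoryTheory.Functor.map_id, Linear.smul_comp, Linear.comp_smul, Category.id_comp]
    exact congrArg (f • ·) (Category.comp_id iso.inv).symm
  · change (iso.inv ≫ DerivedCategory.triangleOfSESδ hS ≫ e₁.hom⟦(1 : ℤ)⟧') ≫ e₁.inv⟦(1 : ℤ)⟧' =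
      iso.inv ≫ DerivedCategory.triangleOfSESδ hS
    rw [Category.assoc, Category.assoc, ← Functor.map_comp, e₁.hom_inv_id, CategoryTheory.Functor.map_id]
    exact congrArg (iso.inv ≫ ·) (Category.comp_id _)

end GrothLib.DualRing.Shriek
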